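import Groth.Agent.CycLib.LFT
import Groth.Agent.CycLib.Pull
import Groth.Agent.VarDim.Fibre
import Groth.Agent.FibDim.BaseField
import Groth.Agent.SmoothReg.Scheme
import Mathlib

/-!
# Dimensions of points of schemes over a field
-/

set_option autoImplicit false
set_option linter.style.haveILetI false
set_option backward.isDefEq.respectTransparency.types false

universe u

open CategoryTheory CategoryTheory.Limits AlgebraicGeometry

namespace Groth.Agent.IntMultLib

variable {k : Type u} [Field k] {X Y : Scheme.{u}} (f : X ⟶ Spec (CommRingCat.of k))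

theorem rd_eq_deg [LocallyOfFiniteType f] (x : X) : FibDim.rd f x = VarDim.deg f x := by
  have h := FibDim.rd_eq_rdeg f x
  rw [← VarDim.tdeg_eq_rdeg, ← VarDim.deg_eq_tdeg] at h
  exact_mod_cast h

/-- The dimension function over a field is `deg`. -/
theorem delta_eq_deg [LocallyOfFiniteType f] {δ : X → ℤ} (hδ : Cyc.DeltaCompat f δ (fun _ => 0)) (x : X) :
    δ x = (VarDim.deg f x : ℤ) := by
  rw [CycLib.deltaCompat_eq f hδ x, rd_eq_deg, zero_add]

theorem isRegularLocalRing_stalk [Smooth f] (x : X) : IsRegularLocalRing (X.presheaf.stalk x) :=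
  SmoothReg.isRegularLocalRing_stalk_of_mem_smoothLocus f (by
    rw [Scheme.Hom.smoothLocus_eq_top]; trivial)

/-- If all maximal generalizations of `x` have degree `D` then `deg x + dim O_x = D`. -/
theorem exists_dim_stalk [LocallyOfFiniteType f] {D : ℕ} (x : X)
    (h : ∀ η, η ⤳ x → (∀ y, y ⤳ η → y = η) → VarDim.deg f η = D) :
    ∃ b : ℕ, ringKrullDim (X.presheaf.stalk x) = b ∧ VarDim.deg f x + b = D := by
  obtain ⟨b, hb, ⟨η, hη, hηd⟩, hmax⟩ := VarDim.exists_deg_add_stalk f x
  refine ⟨b, hb, ?_⟩
  rw [← hηd]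
  exact h η hη fun y hy => VarDim.eq_of_specializes_of_deg_le f hy (hηd ▸ hmax y (hy.trans hη))

theorem exists_dim_stalk_of_isIntegral [LocallyOfFiniteType f] [IsIntegral X] (x : X) :
    ∃ b : ℕ, ringKrullDim (X.presheaf.stalk x) = b ∧
      VarDim.deg f x + b = VarDim.deg f (genericPoint X) :=
  exists_dim_stalk f x fun η _ hη => by rw [hη _ (genericPoint_specializes η)]

theorem deg_genericPoint_eq [LocallyOfFiniteType f] [IsIntegral X] {n : ℕ}
    (hn : topologicalKrullDim X = n) : VarDim.deg f (genericPoint X) = n := by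
  rw [VarDim.topologicalKrullDim_eq_deg_genericPoint f] at hn
  exact_mod_cast hn

theorem deg_immersion (j : Y ⟶ X) [IsPreimmersion j] (y : Y) :
    VarDim.deg (j ≫ f) y = VarDim.deg f (j y) := by
  have h := VarDim.tdeg_comp j f y
  rw [VarDim.rdeg_preimmersion, add_zero] at h
  exact congrArg Cardinal.toNat h

/-- Maximal points of a product of integral schemes over a field. -/
theorem deg_maximal_pullback {W : Scheme.{u}} (g : W ⟶ Spec (CommRingCat.of k)) [LocallyOfFiniteType f]
    [LocallyOfFiniteType g] [IsIntegral X] [IsIntegral W] (w : ↥(pullback f g))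
    (hw : ∀ y, y ⤳ w → y = w) :
    VarDim.deg (pullback.fst f g ≫ f) w = VarDim.deg f (genericPoint X) + VarDim.deg g (genericPoint W) := by
  have h1 : pullback.fst f g w = genericPoint X := by
    obtain ⟨v, hv, he⟩ := Flat.generalizingMap (pullback.fst f g) (genericPoint_specializes (pullback.fst f g w))
    rw [← he, hw v hv]
  have h2 : pullback.snd f g w = genericPoint W := by
    obtain ⟨v, hv, he⟩ := Flat.generalizingMap (pullback.snd f g) (genericPoint_specializes (pullback.snd f g w))
    rw [← he, hw v hv]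
  have h3 := FibDim.rd_baseChange_eq_of_minimal (IsPullback.of_hasPullback f g).flip w
    fun v hv _ _ => hw v hv
  rw [← rd_eq_deg, ← rd_eq_deg, ← rd_eq_deg, CycLib.rd_comp, h3, h1, h2]

end Groth.Agent.IntMultLib
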