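import Groth.Agent.IntMultLib.Vanish
import Groth.Agent.LC.Sop
import Groth.Agent.LC.PdRegular
import Groth.Agent.Triage.SliceCM
import Groth.Agent.CMOpen5.Params
import Mathlib

/-!
# Local algebra of proper intersections on regular local rings
-/

set_option autoImplicit false
set_option linter.style.haveILetI false

universe u

open CategoryTheory CategoryTheory.Limits RingTheory.Sequence IsLocalRing

namespace Groth.Agent.IntMultLib

/-- A system of parameters of a noetherian local ring. -/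
theorem exists_sop (R : Type u) [CommRing R] [IsLocalRing R] [IsNoetherianRing R] (b : ℕ)
    (hb : ringKrullDim R = b) :
    ∃ rs : List R, rs.length = b ∧ (Ideal.ofList rs).radical = maximalIdeal R := by
  classical
  obtain ⟨s, hs, hcard⟩ := Ideal.exists_finset_card_eq_height_of_isNoetherianRing (maximalIdeal R)
  rw [← IsLocalRing.maximalIdeal_height_eq_ringKrullDim] at hb
  have hb' : (maximalIdeal R).height = (b : ℕ∞) := by exact_mod_cast hb
  rw [hb'] at hcard
  refine ⟨s.toList, by rw [Finset.length_toList]; exact_mod_cast hcard, ?_⟩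
  have he : Ideal.ofList s.toList = Ideal.span (s : Set R) :=
    congrArg Ideal.span (Set.ext fun x => Finset.mem_toList)
  rw [he]
  refine le_antisymm ((maximalIdeal.isMaximal R).isPrime.radical_le_iff.2 hs.1.2) ?_
  rw [Ideal.radical_eq_sInf]
  exact le_sInf fun J hJ => hs.2 ⟨hJ.2, hJ.1⟩ (le_maximalIdeal hJ.2.ne_top)

variable {A : Type u} [CommRing A] [IsLocalRing A] [IsNoetherianRing A]

/-- A Cohen-Macaulay quotient `A/Q` has a regular sequence inside `P` if `P + Q` is primary. -/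
theorem exists_regular_in_ideal (P Q : Ideal A) (hPQ : (P ⊔ Q).radical = maximalIdeal A)
    (hCM : LocCoh.IsCohenMacaulayLocalRing (A ⧸ Q)) (b : ℕ) (hb : ringKrullDim (A ⧸ Q) = b) :
    ∃ ps : List A, ps.length = b ∧ (∀ p ∈ ps, p ∈ P) ∧ IsWeaklyRegular (A ⧸ Q) ps := by
  haveI := hCM.toIsLocalRing
  obtain ⟨rs, hlen, hrad⟩ := exists_sop (A ⧸ Q) b hb
  have hmem : ∀ r ∈ rs, ∃ p ∈ P, ∃ n : ℕ, Ideal.Quotient.mk Q p = r ^ n := by
    intro r hr
    obtain ⟨r, rfl⟩ := Ideal.Quotient.mk_surjective r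
    have hr' : Ideal.Quotient.mk Q r ∈ maximalIdeal (A ⧸ Q) :=
      hrad ▸ Ideal.le_radical (Ideal.subset_span hr)
    have hrm : r ∈ maximalIdeal A := fun h => hr' (h.map _)
    rw [← hPQ] at hrm
    obtain ⟨n, hn⟩ := hrm
    obtain ⟨p, hp, q, hq, hpq⟩ := Submodule.mem_sup.1 hn
    refine ⟨p, hp, n, ?_⟩
    rw [← map_pow, ← hpq, map_add, Ideal.Quotient.eq_zero_iff_mem.2 hq, add_zero]
  choose p hpP n hpn using hmem
  let ps : List A := rs.attach.map fun r => p r.1 r.2
  have hpsP : ∀ x ∈ ps, x ∈ P := fun x hx => by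
    obtain ⟨r, -, rfl⟩ := List.mem_map.1 hx
    exact hpP _ _
  refine ⟨ps, by simp [ps, hlen], hpsP, ?_⟩
  rw [← isWeaklyRegular_map_algebraMap_iff (A ⧸ Q)]
  refine LC.isWeaklyRegular_of_sop hCM.supportDim_eq_depth b hb _ (by simp [ps, hlen]) ?_
  refine le_antisymm ((maximalIdeal.isMaximal _).isPrime.radical_le_iff.2 (Ideal.span_le.2 ?_)) ?_
  · intro x hx
    obtain ⟨y, hy, rfl⟩ := List.mem_map.1 hx
    obtain ⟨r, hr, rfl⟩ := List.mem_map.1 hy
    have hym : p r.1 r.2 ∈ maximalIdeal A :=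
      hPQ ▸ Ideal.le_radical (Ideal.mem_sup_left (hpP _ _))
    haveI : IsLocalHom (Ideal.Quotient.mk Q) := IsLocalHom.of_surjective _ Ideal.Quotient.mk_surjective
    exact fun h => hym ((isUnit_map_iff (Ideal.Quotient.mk Q) _).1 h)
  · rw [← hrad, Ideal.radical_le_radical_iff]
    refine Ideal.span_le.2 fun r hr => ?_
    refine ⟨n r hr, ?_⟩
    rw [← hpn r hr]
    exact Ideal.subset_span (List.mem_map.2 ⟨_, List.mem_map.2 ⟨⟨r, hr⟩, List.mem_attach _ _, rfl⟩, rfl⟩)

/-- The depth of a Cohen-Macaulay quotient over `A`. -/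
theorem le_depth_quotient (P : Ideal A) (hCM : LocCoh.IsCohenMacaulayLocalRing (A ⧸ P)) (a : ℕ)
    (ha : ringKrullDim (A ⧸ P) = a) : (a : ℕ∞) ≤ LocCoh.depth A (A ⧸ P) := by
  have hne : P ≠ ⊤ := by
    intro h
    subst h
    haveI := hCM.toIsLocalRing
    exact not_subsingleton (A ⧸ (⊤ : Ideal A)) inferInstance
  obtain ⟨ps, hlen, hps, hreg⟩ := exists_regular_in_ideal (maximalIdeal A) P
    (by rw [sup_eq_left.2 (le_maximalIdeal hne), (maximalIdeal.isMaximal A).isPrime.radical]) hCM a ha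
  unfold LocCoh.depth LocCoh.idealDepth
  split_ifs with h
  · exact le_top
  · exact le_iSup₂_of_le ps ⟨hreg, hps⟩ (hlen ▸ le_rfl)

/-- `Tor` of two quotients vanishes in positive degrees if a long enough regular sequence exists. -/
theorem chi_eq_length_of_pdLE (P Q : Ideal A) (hPQ : (P ⊔ Q).radical = maximalIdeal A) (L : ℕ)
    [HasProjectiveDimensionLE (ModuleCat.of A (A ⧸ P)) L]
    (hCM : LocCoh.IsCohenMacaulayLocalRing (A ⧸ Q)) (b : ℕ) (hb : ringKrullDim (A ⧸ Q) = b) (hLb : L ≤ b) :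
    IntMult.chi A (A ⧸ P) (A ⧸ Q) = ((Module.length A (A ⧸ (P ⊔ Q))).toNat : ℤ) := by
  obtain ⟨ps, hlen, hps, hreg⟩ := exists_regular_in_ideal P Q hPQ hCM b hb
  refine chi_eq_length_of_vanish P Q fun i =>
    subsingleton_tor_of_regular _ _ L ps hreg (fun x hx m => ?_) i (by omega)
  obtain ⟨m, rfl⟩ := Ideal.Quotient.mk_surjective m
  exact Ideal.Quotient.eq_zero_iff_mem.2 (Ideal.mul_mem_right _ _ (hps x hx))

/-- A quotient by a regular sequence of length `c` has projective dimension `≤ c`. -/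
theorem pdLE_quot_regular {B : Type u} [CommRing B] {c : ℕ} (g : Fin c → B)
    (hreg : IsWeaklyRegular B (List.ofFn g)) :
    HasProjectiveDimensionLE (ModuleCat.of B (B ⧸ Ideal.span (Set.range g))) c := by
  refine (Groth.Agent.S14413.result B _ c).2 ⟨koszulRes g (KRegLib.isExact_of_isWeaklyRegular g hreg), fun i hi => ?_⟩
  haveI := WiebeLib.subsingleton_ko B hi
  exact ModuleCat.isZero_of_subsingleton (ModuleCat.of B (WiebeLib.Ko B c i))

/-- Both quotients Cohen-Macaulay on a regular local ring. -/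
theorem chi_eq_length_of_CM {R : Type u} [CommRing R] [IsRegularLocalRing R] (P Q : Ideal R)
    (hPQ : (P ⊔ Q).radical = maximalIdeal R) (hP : LocCoh.IsCohenMacaulayLocalRing (R ⧸ P))
    (hQ : LocCoh.IsCohenMacaulayLocalRing (R ⧸ Q)) (d a b : ℕ) (hd : ringKrullDim R = d)
    (ha : ringKrullDim (R ⧸ P) = a) (hb : ringKrullDim (R ⧸ Q) = b) (hab : a + b = d) :
    IntMult.chi R (R ⧸ P) (R ⧸ Q) = ((Module.length R (R ⧸ (P ⊔ Q))).toNat : ℤ) := by
  haveI : HasProjectiveDimensionLE (ModuleCat.of R (R ⧸ P)) b :=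
    LC.pdLE_of_le_depth R d hd (R ⧸ P) b (by
      calc (d : ℕ∞) = (a : ℕ∞) + b := by rw [← hab]; push_cast; rfl
        _ ≤ _ := add_le_add (le_depth_quotient P hP a ha) le_rfl)
  exact chi_eq_length_of_pdLE P Q hPQ b hQ b hb le_rfl

/-- One quotient a complete intersection. -/
theorem chi_eq_length_of_regular {R : Type u} [CommRing R] [IsRegularLocalRing R] {c : ℕ} (g : Fin c → R)
    (hreg : IsRegular R (List.ofFn g)) (Q : Ideal R)
    (hPQ : (Ideal.span (Set.range g) ⊔ Q).radical = maximalIdeal R)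
    (hQ : LocCoh.IsCohenMacaulayLocalRing (R ⧸ Q)) (d a b : ℕ) (hd : ringKrullDim R = d)
    (ha : ringKrullDim (R ⧸ Ideal.span (Set.range g)) = a) (hb : ringKrullDim (R ⧸ Q) = b) (hab : a + b = d) :
    IntMult.chi R (R ⧸ Ideal.span (Set.range g)) (R ⧸ Q) =
      ((Module.length R (R ⧸ (Ideal.span (Set.range g) ⊔ Q))).toNat : ℤ) := by
  have h := ringKrullDim_add_length_eq_ringKrullDim_of_isRegular _ hreg
  have he : Ideal.ofList (List.ofFn g) = Ideal.span (Set.range g) :=
    congrArg Ideal.span (Set.ext fun x => List.mem_ofFn)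
  rw [ringKrullDim_eq_of_ringEquiv (Ideal.quotEquivOfEq he), ha, hd, List.length_ofFn] at h
  have hac : a + c = d := by exact_mod_cast h
  haveI := pdLE_quot_regular g hreg.toIsWeaklyRegular
  exact chi_eq_length_of_pdLE _ Q hPQ c hQ b hb (by omega)

end Groth.Agent.IntMultLib
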