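import Groth.Agent.KRegLib.Closed
import Groth.Agent.KRegLib.Regular
import Groth.Agent.KRegLib.Kinds
import Groth.Agent.CotTLib.RegSurj
import Groth.Agent.IntMultLib.Deg
import Groth.Prelude.Def_RegImm
import Mathlib

/-!
# Immersions between regular schemes are regular immersions
-/

set_option autoImplicit false
set_option linter.style.haveILetI false

universe u

open CategoryTheory CategoryTheory.Limits AlgebraicGeometry RingTheory.Sequence

namespace Groth.Agent.IntMultLib

/-- The kernel of the map of local rings of an immersion. -/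
theorem ker_stalkMap_eq_map {Z X : Scheme.{u}} (i : Z ⟶ X) {U : X.Opens} (hU : IsAffineOpen U)
    [IsClosedImmersion (i ∣_ U)] (z : Z) (hz : i z ∈ U) :
    RingHom.ker (i.stalkMap z).hom =
      (RingHom.ker (i.app U).hom).map (X.presheaf.germ U (i z) hz).hom := by
  obtain ⟨hV, hs⟩ := Groth.Agent.Synt29.surjective_app_of_isClosedImmersion_restrict i U hU
  let φ : Γ(X, U) →+* Γ(Z, i ⁻¹ᵁ U) := (i.app U).hom
  letI : Algebra Γ(X, U) (X.presheaf.stalk (i z)) := (X.presheaf.germ U (i z) hz).hom.toAlgebra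
  letI : Algebra Γ(Z, i ⁻¹ᵁ U) (Z.presheaf.stalk z) := (Z.presheaf.germ (i ⁻¹ᵁ U) z hz).hom.toAlgebra
  haveI hX : IsLocalization.AtPrime (X.presheaf.stalk (i z)) (hU.primeIdealOf ⟨i z, hz⟩).asIdeal :=
    hU.isLocalization_stalk ⟨i z, hz⟩
  haveI hZ : IsLocalization.AtPrime (Z.presheaf.stalk z) (hV.primeIdealOf ⟨z, hz⟩).asIdeal :=
    hV.isLocalization_stalk ⟨z, hz⟩
  have hcomap : (hU.primeIdealOf ⟨i z, hz⟩).asIdeal = (hV.primeIdealOf ⟨z, hz⟩).asIdeal.comap φ := by
    have hc := congrArg PrimeSpectrum.asIdeal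
      (IsAffineOpen.comap_primeIdealOf_appLE (f := i) U hU (i ⁻¹ᵁ U) hV le_rfl hz)
    rw [← hc, PrimeSpectrum.comap_asIdeal, ← Scheme.Hom.app_eq_appLE]
  have hf : ∀ a : Γ(X, U), (i.stalkMap z).hom (algebraMap _ _ a) = algebraMap _ _ (φ a) := fun a =>
    Scheme.Hom.germ_stalkMap_apply i U z hz a
  have hM : Submonoid.map φ (hU.primeIdealOf ⟨i z, hz⟩).asIdeal.primeCompl =
      (hV.primeIdealOf ⟨z, hz⟩).asIdeal.primeCompl := by
    ext b
    constructor
    · rintro ⟨a, ha, rfl⟩ hb
      exact ha (by rw [hcomap]; exact hb)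
    · intro hb
      obtain ⟨a, rfl⟩ := hs b
      exact ⟨a, fun h => hb (by rw [hcomap] at h; exact h), rfl⟩
  have hfm : (i.stalkMap z).hom = IsLocalization.map (Z.presheaf.stalk z) φ
      (show (hU.primeIdealOf ⟨i z, hz⟩).asIdeal.primeCompl ≤
        (hV.primeIdealOf ⟨z, hz⟩).asIdeal.primeCompl.comap φ from
        Submonoid.map_le_iff_le_comap.1 hM.le) := by
    refine IsLocalization.ringHom_ext (hU.primeIdealOf ⟨i z, hz⟩).asIdeal.primeCompl (RingHom.ext fun a => ?_)
    rw [RingHom.comp_apply, RingHom.comp_apply, IsLocalization.map_eq]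
    exact hf a
  rw [hfm]
  exact IsLocalization.ker_map (Z.presheaf.stalk z) φ hM

/-- An immersion of regular schemes with constant drop of dimension is regular of that codimension. -/
theorem isRegularImmersionOfCodim_of_regular {Z P : Scheme.{u}} (i : Z ⟶ P) [IsImmersion i]
    [IsLocallyNoetherian P] (hP : ∀ p : P, IsRegularLocalRing (P.presheaf.stalk p))
    (hZ : ∀ z : Z, IsRegularLocalRing (Z.presheaf.stalk z)) (c : ℕ)
    (hdim : ∀ z : Z, ∃ b : ℕ, ringKrullDim (Z.presheaf.stalk z) = b ∧
      ringKrullDim (P.presheaf.stalk (i z)) = (b + c : ℕ)) :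
    RegImm.IsRegularImmersionOfCodim RegImm.Kind.regular c i := by
  refine ⟨inferInstance, fun z => ?_⟩
  obtain ⟨D, hD, hzD, -, hci⟩ := KRegLib.exists_affine_isClosedImmersion_restrict i z ⊤ trivial
  obtain ⟨hD', hDs⟩ := Synt29.surjective_app_of_isClosedImmersion_restrict i D hD
  haveI : IsNoetherianRing Γ(P, D) := IsLocallyNoetherian.component_noetherian ⟨D, hD⟩
  haveI := hP (i z)
  haveI := hZ z
  have hsurj : Function.Surjective (i.stalkMap z).hom := i.stalkMap_surjective z
  obtain ⟨-, rs, hrs, hreg⟩ := CotTLib.regSurj _ _ _ (i.stalkMap z).hom hsurj le_rfl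
  let I : Ideal Γ(P, D) := RingHom.ker (i.app D).hom
  let p : Ideal Γ(P, D) := (hD.primeIdealOf ⟨i z, hzD⟩).asIdeal
  have hIp : I ≤ p := KRegLib.ker_app_le_primeIdealOf i hD hD' z hzD
  let S : Type u := P.presheaf.stalk (i z)
  letI : Algebra Γ(P, D) S := (P.presheaf.germ D (i z) hzD).hom.toAlgebra
  haveI : IsLocalization.AtPrime S p := hD.isLocalization_stalk ⟨i z, hzD⟩
  let e : S ≃ₐ[Γ(P, D)] Localization.AtPrime p := IsLocalization.algEquiv p.primeCompl _ _
  have hker : RingHom.ker (i.stalkMap z).hom = I.map (algebraMap Γ(P, D) S) := ker_stalkMap_eq_map i hD z hzD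
  have hexy : IsWeaklyRegular (Localization.AtPrime p) (rs.map e) := by
    refine (AddEquiv.isWeaklyRegular_congr (e := e.toRingEquiv.toAddEquiv) (as := rs) (bs := rs.map e) ?_).1 hreg
    exact List.forall₂_map_right_iff.2 (List.forall₂_same.2 fun x _ y => map_mul e x y)
  have hgen : Ideal.span (Set.range (rs.map e).get) = I.map (algebraMap Γ(P, D) (Localization.AtPrime p)) := by
    have h1 : Ideal.ofList (rs.map e) = (Ideal.ofList rs).map e.toRingEquiv.toRingHom :=
      (Ideal.map_ofList _ _).symm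
    rw [Set.range_list_get]
    refine h1.trans ?_
    rw [hrs, hker, Ideal.map_map]
    congr 1
    exact RingHom.ext fun x => e.commutes x
  obtain ⟨g, hg, l, hl, hlI⟩ := KRegLib.exists_away_isRegular_of_atPrime I p hIp (rs.map e).get
    (by rw [List.ofFn_get]; exact hexy) hgen
  letI : Algebra Γ(P, D) Γ(P, P.basicOpen g) := (P.presheaf.map (homOfLE (P.basicOpen_le g)).op).hom.toAlgebra
  haveI : IsLocalization.Away g Γ(P, P.basicOpen g) := hD.isLocalization_basicOpen g
  let e' : Localization.Away g ≃ₐ[Γ(P, D)] Γ(P, P.basicOpen g) :=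
    IsLocalization.algEquiv (Submonoid.powers g) _ _
  have hzg : i z ∈ P.basicOpen g := by
    rw [← hD.fromSpec_image_basicOpen g]
    exact ⟨hD.primeIdealOf ⟨i z, hzD⟩, hg, hD.fromSpec_primeIdealOf _⟩
  have hlen : l.length = c := by
    have hu : IsUnit (algebraMap Γ(P, D) S g) :=
      IsLocalization.map_units S (⟨g, hg⟩ : p.primeCompl)
    let ψ : Localization.Away g →+* S := IsLocalization.Away.lift g hu
    have hψ : ψ.comp (algebraMap Γ(P, D) (Localization.Away g)) = algebraMap Γ(P, D) S :=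
      IsLocalization.Away.lift_comp g hu
    letI := ψ.toAlgebra
    haveI : IsScalarTower Γ(P, D) (Localization.Away g) S := IsScalarTower.of_algebraMap_eq' hψ.symm
    have hgp : Submonoid.powers g ≤ p.primeCompl := Submonoid.powers_le.2 hg
    haveI : IsLocalization (p.primeCompl.map (algebraMap Γ(P, D) (Localization.Away g))) S :=
      IsLocalization.isLocalization_of_submonoid_le (Localization.Away g) S _ _ hgp
    haveI : Module.Flat (Localization.Away g) S :=
      IsLocalization.flat S (p.primeCompl.map (algebraMap Γ(P, D) (Localization.Away g)))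
    have hmap : Ideal.ofList (l.map (algebraMap (Localization.Away g) S)) = RingHom.ker (i.stalkMap z).hom := by
      rw [← Ideal.map_ofList, hlI, Ideal.map_map, hker, RingHom.algebraMap_toAlgebra, hψ]
    have hne : Ideal.ofList (l.map (algebraMap (Localization.Away g) S)) ≠ ⊤ := by
      rw [hmap]; exact RingHom.ker_ne_top _
    have hreg' : IsRegular S (l.map (algebraMap (Localization.Away g) S)) :=
      ⟨hl.toIsWeaklyRegular.of_flat, by rw [smul_eq_mul, Ideal.mul_top]; exact hne.symm⟩
    obtain ⟨b, hb, hbc⟩ := hdim z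
    have h := ringKrullDim_add_length_eq_ringKrullDim_of_isRegular _ hreg'
    rw [ringKrullDim_eq_of_ringEquiv ((Ideal.quotEquivOfEq hmap).trans
      (RingHom.quotientKerEquivOfSurjective hsurj)), hb, hbc, List.length_map] at h
    have : b + l.length = b + c := by exact_mod_cast h
    omega
  refine ⟨⟨P.basicOpen g, hD.basicOpen g⟩, hzg,
    KRegLib.isClosedImmersion_restrict_of_le i (P.basicOpen_le g), l.map e', by rw [List.length_map, hlen], ?_, ?_⟩
  · refine (AddEquiv.isRegular_congr (e := e'.toRingEquiv.toAddEquiv) (as := l) (bs := l.map e') ?_).1 hl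
    exact List.forall₂_map_right_iff.2 (List.forall₂_same.2 fun x _ y => map_mul e' x y)
  · refine Eq.trans (KRegLib.app_basicOpen_props i hD hD' hDs g).2.2 ?_
    have h4 : (Ideal.ofList l).map e'.toRingEquiv.toRingHom = Ideal.ofList (l.map e') := Ideal.map_ofList _ _
    rw [← h4, hlI, Ideal.map_map]
    congr 1
    exact (RingHom.ext fun x => (e'.commutes x)).symm

end Groth.Agent.IntMultLib
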