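import Groth.Agent.IntMultLib.StalkIdeal
import Mathlib

/-!
# The ideal sheaf of a product of closed subschemes
-/

set_option autoImplicit false
set_option linter.style.haveILetI false
set_option backward.isDefEq.respectTransparency.types false

universe u

open CategoryTheory CategoryTheory.Limits AlgebraicGeometry

namespace Groth.Agent.IntMultLib

theorem ker_pullback_map_subschemeι {X Y S : Scheme.{u}} (f : X ⟶ S) (g : Y ⟶ S) (I : X.IdealSheafData)
    (J : Y.IdealSheafData) :
    (pullback.map (I.subschemeι ≫ f) (J.subschemeι ≫ g) f g I.subschemeι J.subschemeι (𝟙 _)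
      (Category.comp_id _) (Category.comp_id _)).ker = I.comap (pullback.fst f g) ⊔ J.comap (pullback.snd f g) := by
  set m := pullback.map (I.subschemeι ≫ f) (J.subschemeι ≫ g) f g I.subschemeι J.subschemeι (𝟙 _)
      (Category.comp_id _) (Category.comp_id _) with hm
  have h1 : m ≫ pullback.fst f g = pullback.fst (I.subschemeι ≫ f) (J.subschemeι ≫ g) ≫ I.subschemeι := by
    exact pullback.lift_fst _ _ _
  have h2 : m ≫ pullback.snd f g = pullback.snd (I.subschemeι ≫ f) (J.subschemeι ≫ g) ≫ J.subschemeι := by
    exact pullback.lift_snd _ _ _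
  refine le_antisymm ?_ (sup_le ?_ ?_)
  · set S' := I.comap (pullback.fst f g) ⊔ J.comap (pullback.snd f g) with hS'
    have hI : I ≤ (S'.subschemeι ≫ pullback.fst f g).ker := by
      rw [Scheme.Hom.ker_comp, Scheme.IdealSheafData.ker_subschemeι,
        Scheme.IdealSheafData.le_map_iff_comap_le]
      exact le_sup_left
    have hJ : J ≤ (S'.subschemeι ≫ pullback.snd f g).ker := by
      rw [Scheme.Hom.ker_comp, Scheme.IdealSheafData.ker_subschemeι,
        Scheme.IdealSheafData.le_map_iff_comap_le]
      exact le_sup_right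
    let a := IsClosedImmersion.lift I.subschemeι (S'.subschemeι ≫ pullback.fst f g) (by simpa using hI)
    let b := IsClosedImmersion.lift J.subschemeι (S'.subschemeι ≫ pullback.snd f g) (by simpa using hJ)
    have hab : a ≫ I.subschemeι ≫ f = b ≫ J.subschemeι ≫ g := by
      rw [← Category.assoc, ← Category.assoc b, IsClosedImmersion.lift_fac, IsClosedImmersion.lift_fac,
        Category.assoc, Category.assoc, pullback.condition]
    have hfac : pullback.lift a b hab ≫ m = S'.subschemeι := by
      refine pullback.hom_ext ?_ ?_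
      · rw [Category.assoc, h1, pullback.lift_fst_assoc, IsClosedImmersion.lift_fac]
      · rw [Category.assoc, h2, pullback.lift_snd_assoc, IsClosedImmersion.lift_fac]
    calc m.ker ≤ (pullback.lift a b hab ≫ m).ker := Scheme.Hom.le_ker_comp _ _
      _ = S' := by rw [hfac, Scheme.IdealSheafData.ker_subschemeι]
  · rw [← Scheme.IdealSheafData.le_map_iff_comap_le, ← Scheme.Hom.ker_comp, h1]
    exact le_of_eq_of_le (Scheme.IdealSheafData.ker_subschemeι I).symm (Scheme.Hom.le_ker_comp _ _)
  · rw [← Scheme.IdealSheafData.le_map_iff_comap_le, ← Scheme.Hom.ker_comp, h2]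
    exact le_of_eq_of_le (Scheme.IdealSheafData.ker_subschemeι J).symm (Scheme.Hom.le_ker_comp _ _)

/-- The stalk of the kernel of a closed immersion. -/
theorem stalkIdeal_ker {Z X : Scheme.{u}} (i : Z ⟶ X) [IsClosedImmersion i] (z : Z) :
    IntMult.stalkIdeal i.ker (i z) = RingHom.ker (i.stalkMap z).hom := by
  obtain ⟨_, ⟨U, hU, rfl⟩, hxU, -⟩ :=
    X.isBasis_affineOpens.exists_subset_of_mem_open (Set.mem_univ (i z)) isOpen_univ
  haveI : IsClosedImmersion (i ∣_ U) := IsZariskiLocalAtTarget.restrict ‹_› U
  rw [stalkIdeal_eq_map _ _ ⟨U, hU⟩ hxU, ker_stalkMap_eq_map i hU z hxU, Scheme.Hom.ker_apply]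

end Groth.Agent.IntMultLib
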