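import Groth.Agent.IntMultLib.PullPrime
import Groth.Agent.IntMultLib.ProductKer
import Mathlib

/-!
# Closed subschemes through stalk ideals
-/

set_option autoImplicit false
set_option linter.style.haveILetI false
set_option backward.isDefEq.respectTransparency.types false

universe u

open CategoryTheory CategoryTheory.Limits AlgebraicGeometry

namespace Groth.Agent.IntMultLib

variable {X Y Z : Scheme.{u}}

theorem stalkIdeal_specializes (I : X.IdealSheafData) {ξ x : X} (h : ξ ⤳ x) :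
    IntMult.stalkIdeal I ξ = (IntMult.stalkIdeal I x).map (X.presheaf.stalkSpecializes h).hom := by
  obtain ⟨_, ⟨U, hU, rfl⟩, hx, -⟩ :=
    X.isBasis_affineOpens.exists_subset_of_mem_open (Set.mem_univ x) isOpen_univ
  rw [stalkIdeal_eq_map I x ⟨U, hU⟩ hx, stalkIdeal_eq_map I ξ ⟨U, hU⟩ (h.mem_open U.isOpen hx), Ideal.map_map]
  congr 1
  exact (congrArg CommRingCat.Hom.hom (X.presheaf.germ_stalkSpecializes hx h)).symm

theorem stalkIdeal_sup (I J : X.IdealSheafData) (x : X) :
    IntMult.stalkIdeal (I ⊔ J) x = IntMult.stalkIdeal I x ⊔ IntMult.stalkIdeal J x := by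
  obtain ⟨_, ⟨U, hU, rfl⟩, hx, -⟩ :=
    X.isBasis_affineOpens.exists_subset_of_mem_open (Set.mem_univ x) isOpen_univ
  rw [stalkIdeal_eq_map _ x ⟨U, hU⟩ hx, stalkIdeal_eq_map I x ⟨U, hU⟩ hx, stalkIdeal_eq_map J x ⟨U, hU⟩ hx,
    Scheme.IdealSheafData.ideal_sup, Pi.sup_apply, Ideal.map_sup]

theorem stalkIdeal_eq_top_of_notMem (I : X.IdealSheafData) {x : X} (hx : x ∉ I.support) :
    IntMult.stalkIdeal I x = ⊤ := by
  obtain ⟨_, ⟨U, hU, rfl⟩, hxU, -⟩ :=
    X.isBasis_affineOpens.exists_subset_of_mem_open (Set.mem_univ x) isOpen_univ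
  rw [Scheme.IdealSheafData.mem_support_iff_of_mem (U := ⟨U, hU⟩) hxU, Scheme.mem_zeroLocus_iff] at hx
  push Not at hx
  obtain ⟨s, hs, hxs⟩ := hx
  rw [stalkIdeal_eq_map I x ⟨U, hU⟩ hxU]
  exact Ideal.eq_top_of_isUnit_mem _ (Ideal.mem_map_of_mem _ hs) ((X.mem_basicOpen s x hxU).1 hxs)

variable (i : Y ⟶ X) [IsClosedImmersion i]

theorem mem_support_ker {x : X} : x ∈ i.ker.support ↔ x ∈ Set.range i := by
  rw [← SetLike.mem_coe, Scheme.Hom.support_ker,
    i.isClosedEmbedding.isClosed_range.closure_eq]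

/-- `O_{Y,y}` is the quotient by the stalk ideal. -/
noncomputable def quotStalkKerEquiv (y : Y) :
    X.presheaf.stalk (i y) ⧸ IntMult.stalkIdeal i.ker (i y) ≃+* Y.presheaf.stalk y :=
  (Ideal.quotEquivOfEq (stalkIdeal_ker i y)).trans
    (RingHom.quotientKerEquivOfSurjective (i.stalkMap_surjective y))

theorem length_stalk_closed (y : Y) :
    Module.length (Y.presheaf.stalk y) (Y.presheaf.stalk y) =
      Module.length (X.presheaf.stalk (i y)) (X.presheaf.stalk (i y) ⧸ IntMult.stalkIdeal i.ker (i y)) := by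
  let q := X.presheaf.stalk (i y) ⧸ IntMult.stalkIdeal i.ker (i y)
  rw [← H23.FiniteFibreSum.length_self_of_bijective (quotStalkKerEquiv i y).toRingHom
    (quotStalkKerEquiv i y).bijective]
  exact (Module.length_eq_of_surjective (S := X.presheaf.stalk (i y)) (R := q) (M := q)
    Ideal.Quotient.mk_surjective).symm

/-- The cycle of a closed subscheme near `x` is read off from its stalk ideal at `x`. -/
theorem subschemeFun_eq_locLen (δ : X → ℤ) (r : ℤ) {ξ x : X} (hξ : ξ ⤳ x) :
    Cyc.subschemeFun δ r i ξ =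
      if δ ξ = r then locLen (CDiv6.primeOf hξ) (X.presheaf.stalk x ⧸ IntMult.stalkIdeal i.ker x) else 0 := by
  simp only [Cyc.subschemeFun]
  split_ifs with hd
  swap
  · rfl
  letI := (X.presheaf.stalkSpecializes hξ).hom.toAlgebra
  haveI := H23.StalkPrimes.isLocalization_primeOf hξ
  have e : Module.length (Localization.AtPrime (CDiv6.primeOf hξ).asIdeal)
      (LocalizedModule (CDiv6.primeOf hξ).asIdeal.primeCompl (X.presheaf.stalk x ⧸ IntMult.stalkIdeal i.ker x)) =
      Module.length (X.presheaf.stalk ξ) (X.presheaf.stalk ξ ⧸ IntMult.stalkIdeal i.ker ξ) := by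
    rw [length_localized_quotient (CDiv6.primeOf hξ).asIdeal (X.presheaf.stalk ξ), stalkIdeal_specializes i.ker hξ]
    rfl
  rw [locLen, e]
  by_cases hm : ξ ∈ Set.range i
  · obtain ⟨y, rfl⟩ := hm
    have hs : {z : Y | i z = i y} = {y} := Set.ext fun z => ⟨fun h => i.isClosedEmbedding.injective h, fun h => congrArg _ h⟩
    rw [hs, finsum_mem_singleton, length_stalk_closed i y]
  · have hs : {z : Y | i z = ξ} = ∅ := Set.eq_empty_of_forall_notMem fun z hz => hm ⟨z, hz⟩
    rw [hs, finsum_mem_empty, stalkIdeal_eq_top_of_notMem _ (fun h => hm ((mem_support_ker i).1 h))]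
    haveI : Subsingleton (X.presheaf.stalk ξ ⧸ (⊤ : Ideal (X.presheaf.stalk ξ))) :=
      Submodule.Quotient.subsingleton_iff.2 rfl
    simp [Module.length_eq_zero]

theorem mem_support_closed {ξ x : X} (hξ : ξ ⤳ x) :
    CDiv6.primeOf hξ ∈ Module.support (X.presheaf.stalk x) (X.presheaf.stalk x ⧸ IntMult.stalkIdeal i.ker x) ↔
      ξ ∈ Set.range i := by
  rw [mem_support_quotient, ← mem_support_ker i]
  have key : (IntMult.stalkIdeal i.ker x ≤ (CDiv6.primeOf hξ).asIdeal) ↔ IntMult.stalkIdeal i.ker ξ ≠ ⊤ := by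
    rw [stalkIdeal_specializes i.ker hξ]
    constructor
    · intro h htop
      have h' := Ideal.map_mono (f := (X.presheaf.stalkSpecializes hξ).hom) h
      rw [htop, map_primeOf_self hξ, top_le_iff] at h'
      exact (IsLocalRing.maximalIdeal.isMaximal _).ne_top h'
    · intro h g hg
      rw [CDiv6.mem_primeOf]
      exact fun hu => h (Ideal.eq_top_of_isUnit_mem _ (Ideal.mem_map_of_mem _ hg) hu)
  rw [key]
  exact ⟨fun h => by_contra fun hn => h (stalkIdeal_eq_top_of_notMem _ hn), fun h => stalkIdeal_ne_top _ h⟩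

theorem ker_fst_comp (j : Z ⟶ X) [IsClosedImmersion j] :
    (pullback.fst i j ≫ i).ker = i.ker ⊔ j.ker := by
  refine le_antisymm ?_ (sup_le (Scheme.Hom.le_ker_comp _ _) (pullback.condition (f := i) (g := j) ▸
    Scheme.Hom.le_ker_comp _ _))
  have hI : i.ker ≤ (i.ker ⊔ j.ker).subschemeι.ker := by
    rw [Scheme.IdealSheafData.ker_subschemeι]; exact le_sup_left
  have hJ : j.ker ≤ (i.ker ⊔ j.ker).subschemeι.ker := by
    rw [Scheme.IdealSheafData.ker_subschemeι]; exact le_sup_right
  let l := pullback.lift (IsClosedImmersion.lift i _ hI) (IsClosedImmersion.lift j _ hJ)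
    (by rw [IsClosedImmersion.lift_fac, IsClosedImmersion.lift_fac])
  calc (pullback.fst i j ≫ i).ker ≤ (l ≫ pullback.fst i j ≫ i).ker := Scheme.Hom.le_ker_comp _ _
    _ = _ := by
      rw [pullback.lift_fst_assoc, IsClosedImmersion.lift_fac, Scheme.IdealSheafData.ker_subschemeι]

end Groth.Agent.IntMultLib
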