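import Groth.Agent.IntMultLib.ChiAdd
import Groth.Agent.S2428
import Mathlib.RingTheory.LocalRing.Length

/-!
# `chi` and flat local base change
-/

set_option autoImplicit false

universe u

open TensorProduct

namespace Groth.Agent.IntMultLib

theorem chi_baseChange (A B : Type u) [CommRing A] [CommRing B] [IsLocalRing A] [IsLocalRing B] [Algebra A B]
    [IsLocalHom (algebraMap A B)] [Module.Flat A B] (M N : Type u) [AddCommGroup M] [Module A M]
    [AddCommGroup N] [Module A N] :
    IntMult.chi B (B ⊗[A] M) (B ⊗[A] N) =
      IntMult.chi A M N *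
        ((Module.length B (B ⧸ (IsLocalRing.maximalIdeal A).map (algebraMap A B))).toNat : ℤ) := by
  rw [IntMult.chi, IntMult.chi, finsum_mul]
  refine finsum_congr fun i => ?_
  obtain ⟨e⟩ := Groth.Agent.S2428.result A B M N i
  rw [← e.length_eq, IsLocalRing.length_baseChange, ENat.toNat_mul]
  push_cast
  ring

end Groth.Agent.IntMultLib
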