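import Groth.Agent.IntMultLib.ChiSum
import Groth.Agent.IntMultLib.ChiFlat
import Groth.Agent.H23.FlatShift
import Mathlib

/-!
# Flat pullback of a prime cycle, through stalks
-/

set_option autoImplicit false
set_option linter.style.haveILetI false
set_option backward.isDefEq.respectTransparency.types false

universe u

open CategoryTheory CategoryTheory.Limits AlgebraicGeometry
open scoped TensorProduct

namespace Groth.Agent.IntMultLib

/-- Length of a localization, computed in any model. -/
theorem length_localized_eq {R : Type u} [CommRing R] (P : Ideal R) [P.IsPrime] (S : Type u) [CommRing S]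
    [Algebra R S] [IsLocalization.AtPrime S P] {M M' : Type u} [AddCommGroup M] [Module R M] [AddCommGroup M']
    [Module R M'] [Module S M'] [IsScalarTower R S M'] (g : M →ₗ[R] M') [IsLocalizedModule P.primeCompl g] :
    Module.length (Localization.AtPrime P) (LocalizedModule P.primeCompl M) = Module.length S M' := by
  let e : Localization.AtPrime P ≃ₐ[R] S := IsLocalization.algEquiv P.primeCompl _ _
  letI : Algebra (Localization.AtPrime P) S := e.toRingEquiv.toRingHom.toAlgebra
  letI : Module (Localization.AtPrime P) M' := Module.compHom _ e.toRingEquiv.toRingHom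
  haveI : IsScalarTower (Localization.AtPrime P) S M' := IsScalarTower.of_algebraMap_smul fun _ _ => rfl
  haveI : IsScalarTower R (Localization.AtPrime P) M' :=
    IsScalarTower.of_algebraMap_smul fun r m =>
      (congrArg (fun c => c • m) (e.commutes r)).trans (algebraMap_smul S r m)
  rw [((IsLocalizedModule.iso P.primeCompl g).extendScalarsOfIsLocalization P.primeCompl
    (Localization.AtPrime P)).length_eq,
    Module.length_eq_of_surjective (S := Localization.AtPrime P) (R := S) (M := M') e.surjective]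

theorem length_localized_quotient {R : Type u} [CommRing R] (P : Ideal R) [P.IsPrime] (S : Type u) [CommRing S]
    [Algebra R S] [IsLocalization.AtPrime S P] (I : Ideal R) :
    Module.length (Localization.AtPrime P) (LocalizedModule P.primeCompl (R ⧸ I)) =
      Module.length S (S ⧸ I.map (algebraMap R S)) := by
  let g : (R ⧸ I) →ₗ[R] S ⧸ I.map (algebraMap R S) :=
    (Ideal.quotientMapₐ (I.map (algebraMap R S)) (Algebra.ofId R S) Ideal.le_comap_map).toLinearMap
  haveI : IsLocalizedModule P.primeCompl g := by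
    refine (isLocalizedModule_iff_isBaseChange P.primeCompl S g).2 ?_
    refine IsBaseChange.of_equiv
      (Algebra.TensorProduct.quotIdealMapEquivTensorQuot S I).toLinearEquiv.symm fun x => ?_
    obtain ⟨r, rfl⟩ := Ideal.Quotient.mk_surjective x
    show _ = Ideal.Quotient.mk (I.map (algebraMap R S)) (algebraMap R S r)
    simp [Algebra.smul_def]
    try rfl
  exact length_localized_eq P S g

variable {K : Type u} [Field K] {X Y : Scheme.{u}} (f : X ⟶ Y)

/-- The module whose cycle is the pullback of a prime cycle. -/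
abbrev pullMod {a : Y} {x : X} (ha : a ⤳ f x) : Type u :=
  X.presheaf.stalk x ⧸ (CDiv6.primeOf ha).asIdeal.map (f.stalkMap x).hom

theorem mem_support_pullMod {a : Y} {x ξ : X} (ha : a ⤳ f x) (hξ : ξ ⤳ x) :
    CDiv6.primeOf hξ ∈ Module.support (X.presheaf.stalk x) (pullMod f ha) ↔ a ⤳ f ξ := by
  rw [mem_support_quotient, H23.StalkPrimes.map_le_iff]

theorem map_primeOf_self {a : Y} {y : Y} (h : a ⤳ y) :
    (CDiv6.primeOf h).asIdeal.map (Y.presheaf.stalkSpecializes h).hom =
      IsLocalRing.maximalIdeal (Y.presheaf.stalk a) := by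
  letI := (Y.presheaf.stalkSpecializes h).hom.toAlgebra
  haveI := H23.StalkPrimes.isLocalization_primeOf h
  exact IsLocalization.AtPrime.map_eq_maximalIdeal (CDiv6.primeOf h).asIdeal (Y.presheaf.stalk a)

/-- The multiplicity of the pulled back prime at a point over it. -/
theorem locLen_pullMod {a : Y} {x ξ : X} (ha : a ⤳ f x) (hξ : ξ ⤳ x) (he : f ξ = a) :
    locLen (CDiv6.primeOf hξ) (pullMod f ha) =
      ((Module.length (X.presheaf.stalk ξ) (X.presheaf.stalk ξ ⧸ Ideal.map (f.stalkMap ξ).hom
        (IsLocalRing.maximalIdeal (Y.presheaf.stalk (f ξ))))).toNat : ℤ) := by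
  subst he
  letI := (X.presheaf.stalkSpecializes hξ).hom.toAlgebra
  haveI := H23.StalkPrimes.isLocalization_primeOf hξ
  have hI : ((CDiv6.primeOf ha).asIdeal.map (f.stalkMap x).hom).map
      (algebraMap (X.presheaf.stalk x) (X.presheaf.stalk ξ)) =
      Ideal.map (f.stalkMap ξ).hom (IsLocalRing.maximalIdeal (Y.presheaf.stalk (f ξ))) := by
    rw [← map_primeOf_self (hξ.map f.continuous), Ideal.map_map, Ideal.map_map]
    congr 1
    exact (congrArg CommRingCat.Hom.hom (Scheme.Hom.stalkSpecializes_stalkMap f ξ x hξ)).symm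
  rw [locLen, length_localized_quotient (CDiv6.primeOf hξ).asIdeal (X.presheaf.stalk ξ), hI]

theorem chi_pullMod [Flat f] {a b : Y} {x : X} (ha : a ⤳ f x) (hb : b ⤳ f x) :
    IntMult.chi (X.presheaf.stalk x) (pullMod f ha) (pullMod f hb) =
      IntMult.mult (IntMult.ptIdeal a) (IntMult.ptIdeal b) (f x) *
        ((Module.length (X.presheaf.stalk x) (X.presheaf.stalk x ⧸ Ideal.map (f.stalkMap x).hom
          (IsLocalRing.maximalIdeal (Y.presheaf.stalk (f x))))).toNat : ℤ) := by
  have hflat : (f.stalkMap x).hom.Flat := Flat.stalkMap f x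
  rw [mult_ptIdeal ha hb]
  algebraize [(f.stalkMap x).hom]
  haveI : IsLocalHom (algebraMap (Y.presheaf.stalk (f x)) (X.presheaf.stalk x)) :=
    inferInstanceAs <| IsLocalHom (f.stalkMap x).hom
  refine Eq.trans ?_ (chi_baseChange (Y.presheaf.stalk (f x)) (X.presheaf.stalk x)
    (Y.presheaf.stalk (f x) ⧸ (CDiv6.primeOf ha).asIdeal) (Y.presheaf.stalk (f x) ⧸ (CDiv6.primeOf hb).asIdeal))
  exact chi_congr (Algebra.TensorProduct.quotIdealMapEquivTensorQuot (X.presheaf.stalk x) _).toLinearEquiv
    (Algebra.TensorProduct.quotIdealMapEquivTensorQuot (X.presheaf.stalk x) _).toLinearEquiv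

open Classical in
/-- Bilinearity of the intersection product. -/
theorem interProd_bilinear {ι κ : Type*} (δ : X → ℤ) (n : ℤ) (x : X) (S T : Finset X) (A : Finset ι) (B : Finset κ)
    (c : ι → ℤ) (d : κ → ℤ) (g : ι → X → ℤ) (h : κ → X → ℤ) (α β : X → ℤ)
    (hg : ∀ a ∈ A, ∀ ξ, ξ ⤳ x → g a ξ ≠ 0 → ξ ∈ S) (hh : ∀ b ∈ B, ∀ η, η ⤳ x → h b η ≠ 0 → η ∈ T)
    (hα : ∀ ξ, ξ ⤳ x → α ξ = ∑ a ∈ A, c a * g a ξ) (hβ : ∀ η, η ⤳ x → β η = ∑ b ∈ B, d b * h b η) :
    IntMult.interProd δ n α β x = ∑ a ∈ A, ∑ b ∈ B, c a * d b * IntMult.interProd δ n (g a) (h b) x := by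
  have hS : ∀ ξ, ξ ⤳ x → α ξ ≠ 0 → ξ ∈ S := fun ξ hξ hne => by
    rw [hα ξ hξ] at hne
    obtain ⟨a, ha, hne⟩ := Finset.exists_ne_zero_of_sum_ne_zero hne
    exact hg a ha ξ hξ fun h => hne (by rw [h, mul_zero])
  have hT : ∀ η, η ⤳ x → β η ≠ 0 → η ∈ T := fun η hη hne => by
    rw [hβ η hη] at hne
    obtain ⟨b, hb, hne⟩ := Finset.exists_ne_zero_of_sum_ne_zero hne
    exact hh b hb η hη fun h => hne (by rw [h, mul_zero])
  rw [interProd_eq_sum δ n α β x S T hS hT]
  calc _ = ∑ ξ ∈ S, ∑ η ∈ T, ∑ a ∈ A, ∑ b ∈ B, c a * d b *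
          (if ξ ⤳ x ∧ η ⤳ x ∧ δ ξ + δ η - n = δ x then
            g a ξ * h b η * IntMult.mult (IntMult.ptIdeal ξ) (IntMult.ptIdeal η) x else 0) := by
        refine Finset.sum_congr rfl fun ξ _ => Finset.sum_congr rfl fun η _ => ?_
        split_ifs with hc
        · rw [hα ξ hc.1, hβ η hc.2.1, Finset.sum_mul, Finset.sum_mul]
          refine Finset.sum_congr rfl fun a _ => ?_
          rw [Finset.mul_sum, Finset.sum_mul]
          exact Finset.sum_congr rfl fun b _ => by ring
        · simp
    _ = _ := by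
        rw [Finset.sum_congr rfl fun ξ _ => Finset.sum_comm, Finset.sum_comm]
        refine Finset.sum_congr rfl fun a ha => ?_
        rw [Finset.sum_congr rfl fun ξ _ => Finset.sum_comm, Finset.sum_comm]
        refine Finset.sum_congr rfl fun b hb => ?_
        rw [interProd_eq_sum δ n (g a) (h b) x S T (hg a ha) (hh b hb), Finset.mul_sum]
        exact Finset.sum_congr rfl fun ξ _ => (Finset.mul_sum _ _ _).symm

end Groth.Agent.IntMultLib
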