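import Groth.Agent.IntMultLib.ChiAssoc
import Groth.Agent.IntMultLib.PullPrime
import Groth.Agent.IntMultLib.ClosedSub
import Groth.Agent.S2428
import Mathlib

/-!
# Triple intersection products
-/

set_option autoImplicit false
set_option linter.style.haveILetI false
set_option backward.isDefEq.respectTransparency.types false

universe u

open CategoryTheory CategoryTheory.Limits AlgebraicGeometry
open scoped TensorProduct

namespace Groth.Agent.IntMultLib

variable {K : Type u} [Field K] {X : Scheme.{u}} (f : X ⟶ Spec (CommRingCat.of K)) {δ : X → ℤ}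

theorem mult_comm (IV IW : X.IdealSheafData) (x : X) : IntMult.mult IV IW x = IntMult.mult IW IV x := by
  rw [IntMult.mult, IntMult.mult, chi_symm]

theorem interProd_comm (δ : X → ℤ) (n : ℤ) (α β : X → ℤ) :
    IntMult.interProd δ n α β = IntMult.interProd δ n β α := by
  funext ζ
  rw [IntMult.interProd, IntMult.interProd]
  refine finsum_eq_of_bijective
    (Equiv.subtypeEquiv (p := fun p : X × X => p.1 ⤳ ζ ∧ p.2 ⤳ ζ ∧ δ p.1 + δ p.2 - n = δ ζ)
      (q := fun p : X × X => p.1 ⤳ ζ ∧ p.2 ⤳ ζ ∧ δ p.1 + δ p.2 - n = δ ζ) (Equiv.prodComm X X)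
      fun p => by simp [add_comm, and_left_comm]) (Equiv.bijective _) fun p => ?_
  simp only [Equiv.subtypeEquiv_apply, Equiv.prodComm_apply, Prod.fst_swap, Prod.snd_swap]
  rw [mult_comm]
  ring

open Classical in
/-- The product of two prime cycles at a point. -/
theorem interProd_indicator (δ : X → ℤ) (n : ℤ) (a b x : X) :
    IntMult.interProd δ n (Set.indicator {a} 1) (Set.indicator {b} 1) x =
      if a ⤳ x ∧ b ⤳ x ∧ δ a + δ b - n = δ x then IntMult.mult (IntMult.ptIdeal a) (IntMult.ptIdeal b) x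
      else 0 := by
  rw [interProd_eq_sum δ n _ _ x {a} {b} (fun ξ _ h => by simpa using Set.mem_of_indicator_ne_zero h)
    (fun ξ _ h => by simpa using Set.mem_of_indicator_ne_zero h)]
  simp

variable [LocallyOfFiniteType f]

open Classical in
include f in
/-- The multiplicities of `Tor` of two primes at the generizations. -/
theorem sum_locLen_tor {ζ a b : X} (ha : a ⤳ ζ) (hb : b ⤳ ζ) (D : ℕ) [IsRegularLocalRing (X.presheaf.stalk ζ)]
    (hD : (IsLocalRing.maximalIdeal (X.presheaf.stalk ζ)).spanFinrank = D) {ξ : X} (hξ : ξ ⤳ ζ) :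
    ∑ q ∈ Finset.range (D + 1), (-1 : ℤ) ^ q * locLen (CDiv6.primeOf hξ)
        (DRing.Tor (X.presheaf.stalk ζ) q (X.presheaf.stalk ζ ⧸ (CDiv6.primeOf ha).asIdeal)
          (X.presheaf.stalk ζ ⧸ (CDiv6.primeOf hb).asIdeal)) =
      if a ⤳ ξ ∧ b ⤳ ξ then IntMult.mult (IntMult.ptIdeal a) (IntMult.ptIdeal b) ξ else 0 := by
  split_ifs with h
  swap
  · refine Finset.sum_eq_zero fun q _ => ?_
    by_contra hne
    obtain ⟨h1, h2⟩ := mem_support_of_mem_support_tor _ _ q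
      (mem_support_of_locLen_ne_zero (right_ne_zero_of_mul hne))
    exact h ⟨(H23.StalkPrimes.primeOf_le_iff hξ ha).1 (mem_support_quotient.1 h1),
      (H23.StalkPrimes.primeOf_le_iff hξ hb).1 (mem_support_quotient.1 h2)⟩
  obtain ⟨haξ, hbξ⟩ := h
  haveI := isNoetherianRing_stalk f ξ
  let R := X.presheaf.stalk ζ
  let S := X.presheaf.stalk ξ
  letI : Algebra R S := (X.presheaf.stalkSpecializes hξ).hom.toAlgebra
  haveI := H23.StalkPrimes.isLocalization_primeOf hξ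
  haveI : Module.Flat R S := IsLocalization.flat S (CDiv6.primeOf hξ).asIdeal.primeCompl
  have hI : ∀ {c : X} (hc : c ⤳ ζ) (hcξ : c ⤳ ξ),
      (CDiv6.primeOf hc).asIdeal.map (algebraMap R S) = (CDiv6.primeOf hcξ).asIdeal := fun {c} hc hcξ => by
    rw [← stalkIdeal_ptIdeal hc, ← stalkIdeal_ptIdeal hcξ, stalkIdeal_specializes _ hξ]
    rfl
  let e : ∀ {c : X} (hc : c ⤳ ζ) (hcξ : c ⤳ ξ),
      S ⊗[R] (R ⧸ (CDiv6.primeOf hc).asIdeal) ≃ₗ[S] (S ⧸ (CDiv6.primeOf hcξ).asIdeal) := fun {c} hc hcξ =>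
    (Algebra.TensorProduct.quotIdealMapEquivTensorQuot S (CDiv6.primeOf hc).asIdeal).toLinearEquiv.symm ≪≫ₗ
      (Ideal.quotientEquivAlgOfEq S (hI hc hcξ)).toLinearEquiv
  have hT : ∀ q, Nonempty
      (S ⊗[R] DRing.Tor R q (R ⧸ (CDiv6.primeOf ha).asIdeal) (R ⧸ (CDiv6.primeOf hb).asIdeal) ≃ₗ[S]
        DRing.Tor S q (S ⧸ (CDiv6.primeOf haξ).asIdeal) (S ⧸ (CDiv6.primeOf hbξ).asIdeal)) := fun q => by
    obtain ⟨w⟩ := Groth.Agent.S2428.result R S (R ⧸ (CDiv6.primeOf ha).asIdeal) (R ⧸ (CDiv6.primeOf hb).asIdeal) q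
    exact ⟨w ≪≫ₗ torCongr (e ha haξ) (e hb hbξ) q⟩
  rw [mult_ptIdeal haξ hbξ, chi_eq_sum (A := S) _ _ D fun q hq => by
    obtain ⟨w⟩ := hT q
    haveI := subsingleton_tor_of_regularLocal (A := R) (R ⧸ (CDiv6.primeOf ha).asIdeal)
      (R ⧸ (CDiv6.primeOf hb).asIdeal) (i := q) (by rw [hD]; exact hq)
    exact w.symm.toEquiv.subsingleton]
  refine Finset.sum_congr rfl fun q _ => ?_
  obtain ⟨w⟩ := hT q
  rw [← w.length_eq]
  let T := DRing.Tor R q (R ⧸ (CDiv6.primeOf ha).asIdeal) (R ⧸ (CDiv6.primeOf hb).asIdeal)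
  let g : T →ₗ[R] S ⊗[R] T := TensorProduct.mk R S T 1
  haveI : IsLocalizedModule (CDiv6.primeOf hξ).asIdeal.primeCompl g :=
    (isLocalizedModule_iff_isBaseChange (CDiv6.primeOf hξ).asIdeal.primeCompl S g).2
      (TensorProduct.isBaseChange R T S)
  rw [locLen, length_localized_eq (CDiv6.primeOf hξ).asIdeal S g]

variable [Smooth f] [IsSeparated f] [QuasiCompact f] [IsIntegral X]

omit [LocallyOfFiniteType f] in
open Classical in
/-- `U · (V · W)` at a point. -/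
theorem interProd_triple (hδ : Cyc.DeltaCompat f δ (fun _ => 0)) {n : ℤ} (hn : δ (genericPoint X) = n)
    {U V W ζ : X} (hU : U ⤳ ζ) (hV : V ⤳ ζ) (hW : W ⤳ ζ)
    [IsRegularLocalRing (X.presheaf.stalk ζ)]
    (hVW : ∀ z : X, V ⤳ z → W ⤳ z → z ⤳ ζ → δ z ≤ δ V + δ W - n)
    (hUVW : ∀ z : X, U ⤳ z → V ⤳ z → W ⤳ z → z ⤳ ζ → δ z ≤ δ U + δ V + δ W - 2 * n)
    (hζ : δ ζ = δ U + δ V + δ W - 2 * n) :
    IntMult.interProd δ n (Set.indicator {U} 1)
        (IntMult.interProd δ n (Set.indicator {V} 1) (Set.indicator {W} 1)) ζ =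
      ∑ q ∈ Finset.range ((IsLocalRing.maximalIdeal (X.presheaf.stalk ζ)).spanFinrank + 1),
        (-1 : ℤ) ^ q * IntMult.chi (X.presheaf.stalk ζ) (X.presheaf.stalk ζ ⧸ (CDiv6.primeOf hU).asIdeal)
          (DRing.Tor (X.presheaf.stalk ζ) q (X.presheaf.stalk ζ ⧸ (CDiv6.primeOf hV).asIdeal)
            (X.presheaf.stalk ζ ⧸ (CDiv6.primeOf hW).asIdeal)) := by
  haveI : LocallyOfFiniteType f := inferInstance
  let R := X.presheaf.stalk ζ
  let A := R ⧸ (CDiv6.primeOf hU).asIdeal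
  let B := R ⧸ (CDiv6.primeOf hV).asIdeal
  let C := R ⧸ (CDiv6.primeOf hW).asIdeal
  set D := (IsLocalRing.maximalIdeal R).spanFinrank with hD
  set s := δ V + δ W - n with hs
  haveI : ∀ q, Module.Finite R (DRing.Tor R q B C) := fun q => finite_tor_aux (A := R) C q B
  have hsupp : ∀ (q : ℕ) ξ (hξ : ξ ⤳ ζ), CDiv6.primeOf hξ ∈ Module.support R (DRing.Tor R q B C) →
      V ⤳ ξ ∧ W ⤳ ξ := fun q ξ hξ h => by
    obtain ⟨h1, h2⟩ := mem_support_of_mem_support_tor (R := R) B C q h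
    exact ⟨(H23.StalkPrimes.primeOf_le_iff hξ hV).1 (mem_support_quotient.1 h1),
      (H23.StalkPrimes.primeOf_le_iff hξ hW).1 (mem_support_quotient.1 h2)⟩
  have hle : ∀ (q : ℕ) ξ (hξ : ξ ⤳ ζ), CDiv6.primeOf hξ ∈ Module.support R (DRing.Tor R q B C) → δ ξ ≤ s :=
    fun q ξ hξ h => hVW ξ (hsupp q ξ hξ h).1 (hsupp q ξ hξ h).2 hξ
  let g : ℕ → X → ℤ := fun q ξ =>
    if hξ : ξ ⤳ ζ then (if δ ξ = s then locLen (CDiv6.primeOf hξ) (DRing.Tor R q B C) else 0) else 0
  let T : ℕ → Finset {ξ : X // ξ ⤳ ζ} := fun q => (exists_finset_top f hδ (DRing.Tor R q B C) (hle q)).choose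
  have hT : ∀ q ξ, ξ ⤳ ζ → g q ξ ≠ 0 → ξ ∈ (T q).map (Function.Embedding.subtype _) := fun q ξ hξ h => by
    simp only [g, dif_pos hξ, ne_eq, ite_eq_right_iff, not_forall] at h
    obtain ⟨h1, h2⟩ := h
    exact Finset.mem_map.2 ⟨⟨ξ, hξ⟩, (exists_finset_top f hδ (DRing.Tor R q B C) (hle q)).choose_spec ⟨ξ, hξ⟩ h1
      (mem_support_of_locLen_ne_zero h2), rfl⟩
  rw [interProd_bilinear δ n ζ {U} ((Finset.range (D + 1)).biUnion fun q => (T q).map (Function.Embedding.subtype _))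
    ({()} : Finset Unit) (Finset.range (D + 1)) (fun _ => 1) (fun q => (-1 : ℤ) ^ q)
    (fun _ => Set.indicator {U} 1) g _ _ ?_ ?_ ?_ ?_]
  · rw [Finset.sum_singleton]
    refine Finset.sum_congr rfl fun q _ => ?_
    rw [one_mul]
    congr 1
    refine chi_stalk_eq_interProd f hδ hn A (DRing.Tor R q B C) (r := δ U) (s := s) (by omega) ?_ (hle q) ?_ _ _ ?_ ?_
    · intro ξ hξ h
      exact delta_le_of_specializes f hδ ((H23.StalkPrimes.primeOf_le_iff hξ hU).1 (mem_support_quotient.1 h))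
    · intro p hp hp'
      obtain ⟨⟨ξ, hξ⟩, rfl⟩ := (genEquiv ζ).surjective p
      obtain ⟨h1, h2⟩ := hsupp q ξ hξ hp'
      have h0 := (H23.StalkPrimes.primeOf_le_iff hξ hU).1 (mem_support_quotient.1 hp)
      obtain rfl : ξ = ζ := eq_of_specializes_of_delta_le f hδ hξ (hζ ▸ hUVW ξ h0 h1 h2 hξ)
      show (CDiv6.primeOf hξ).asIdeal.IsMaximal
      rw [primeOf_refl]
      exact IsLocalRing.maximalIdeal.isMaximal _
    · intro ξ hξ
      by_cases hξU : ξ = U
      · subst hξU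
        letI := (X.presheaf.stalkSpecializes hξ).hom.toAlgebra
        haveI := H23.StalkPrimes.isLocalization_primeOf hξ
        rw [if_pos rfl, locLen, length_localized_quotient (CDiv6.primeOf hξ).asIdeal (X.presheaf.stalk ξ),
          RingHom.algebraMap_toAlgebra, map_primeOf_self hξ, Set.indicator_of_mem (Set.mem_singleton _)]
        haveI : IsSimpleModule (X.presheaf.stalk ξ)
            (X.presheaf.stalk ξ ⧸ IsLocalRing.maximalIdeal (X.presheaf.stalk ξ)) :=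
          isSimpleModule_iff_isCoatom.2 (IsLocalRing.maximalIdeal.isMaximal _).out
        rw [Module.length_eq_one]
        rfl
      · rw [Set.indicator_of_notMem (by simpa using hξU)]
        split_ifs with h
        · by_contra hne
          exact hξU (eq_of_specializes_of_delta_le f hδ ((H23.StalkPrimes.primeOf_le_iff hξ hU).1
            (mem_support_quotient.1 (mem_support_of_locLen_ne_zero (Ne.symm hne)))) h.ge).symm
        · rfl
    · intro ξ hξ
      simp only [g, dif_pos hξ]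
  · intro _ _ ξ _ h
    simpa using Set.mem_of_indicator_ne_zero h
  · intro q hq η hη h
    exact Finset.mem_biUnion.2 ⟨q, hq, hT q η hη h⟩
  · intro ξ _
    simp
  · intro η hη
    simp only [g, dif_pos hη, interProd_indicator]
    rcases eq_or_ne (δ η) s with he | he
    · simp only [he, if_true]
      rw [sum_locLen_tor f hV hW D hD.symm hη]
      refine if_congr (and_congr_right fun _ => and_iff_left ?_) rfl rfl
      rw [hs]
    · simp only [if_neg he, mul_zero, Finset.sum_const_zero]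
      rw [if_neg]
      rintro ⟨-, -, h⟩
      exact he (hs ▸ h.symm)

theorem interProd_eq_zero (δ : X → ℤ) (n : ℤ) (U V W ζ : X)
    (h : ¬ (U ⤳ ζ ∧ V ⤳ ζ ∧ W ⤳ ζ ∧ δ ζ = δ U + δ V + δ W - 2 * n)) :
    IntMult.interProd δ n (Set.indicator {U} 1) (IntMult.interProd δ n (Set.indicator {V} 1) (Set.indicator {W} 1)) ζ = 0 := by
  refine finsum_eq_zero_of_forall_eq_zero fun p => ?_
  by_contra hne
  obtain ⟨⟨hne, hne'⟩, -⟩ : ((Set.indicator {U} (1 : X → ℤ) p.1.1 ≠ 0) ∧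
      IntMult.interProd δ n (Set.indicator {V} 1) (Set.indicator {W} 1) p.1.2 ≠ 0) ∧ True :=
    ⟨⟨left_ne_zero_of_mul (left_ne_zero_of_mul hne), right_ne_zero_of_mul (left_ne_zero_of_mul hne)⟩, trivial⟩
  have hU : p.1.1 = U := by simpa using Set.mem_of_indicator_ne_zero hne
  rw [interProd_indicator] at hne'
  simp only [ne_eq, ite_eq_right_iff, not_forall] at hne'
  obtain ⟨⟨h1, h2, h3⟩, -⟩ := hne'
  obtain ⟨h4, h5, h6⟩ := p.2
  rw [hU] at h4 h6
  exact h ⟨h4, h1.trans h5, h2.trans h5, by omega⟩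

omit [LocallyOfFiniteType f] in
open Classical in
include f in
/-- Associativity at one point, with hypotheses only at its generizations. -/
theorem interProd_assoc_at [IsAlgClosed K] (hδ : Cyc.DeltaCompat f δ (fun _ => 0)) {n : ℤ}
    (hn : δ (genericPoint X) = n) (U V W ζ : X)
    (hUV : ∀ z : X, U ⤳ z → V ⤳ z → z ⤳ ζ → δ z ≤ δ U + δ V - n)
    (hVW : ∀ z : X, V ⤳ z → W ⤳ z → z ⤳ ζ → δ z ≤ δ V + δ W - n)
    (hUVW : ∀ z : X, U ⤳ z → V ⤳ z → W ⤳ z → z ⤳ ζ → δ z ≤ δ U + δ V + δ W - 2 * n) :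
    IntMult.interProd δ n (Set.indicator {U} 1) (IntMult.interProd δ n (Set.indicator {V} 1) (Set.indicator {W} 1)) ζ =
      IntMult.interProd δ n (IntMult.interProd δ n (Set.indicator {U} 1) (Set.indicator {V} 1)) (Set.indicator {W} 1) ζ := by
  rw [interProd_comm δ n (IntMult.interProd δ n _ _)]
  by_cases h : U ⤳ ζ ∧ V ⤳ ζ ∧ W ⤳ ζ ∧ δ ζ = δ U + δ V + δ W - 2 * n
  swap
  · rw [interProd_eq_zero δ n U V W ζ h, interProd_eq_zero δ n W U V ζ]
    exact fun ⟨h1, h2, h3, h4⟩ => h ⟨h2, h3, h1, by omega⟩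
  obtain ⟨h1, h2, h3, h4⟩ := h
  haveI := isRegularLocalRing_stalk f ζ
  rw [interProd_triple f hδ hn h1 h2 h3 hVW hUVW h4,
    interProd_triple f hδ hn h3 h1 h2 hUV (fun z hW hU hV hz => by have := hUVW z hU hV hW hz; omega) (by omega)]
  refine (chi_assoc _ _ _ fun p hp hq hr => ?_).trans (Finset.sum_congr rfl fun q _ => by rw [chi_symm])
  obtain ⟨⟨ξ, hξ⟩, rfl⟩ := (genEquiv ζ).surjective p
  have hle := hUVW ξ ((H23.StalkPrimes.primeOf_le_iff hξ h1).1 (mem_support_quotient.1 hp))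
    ((H23.StalkPrimes.primeOf_le_iff hξ h2).1 (mem_support_quotient.1 hq))
    ((H23.StalkPrimes.primeOf_le_iff hξ h3).1 (mem_support_quotient.1 hr)) hξ
  obtain rfl : ξ = ζ := eq_of_specializes_of_delta_le f hδ hξ (h4 ▸ hle)
  show (CDiv6.primeOf hξ).asIdeal.IsMaximal
  rw [primeOf_refl]
  exact IsLocalRing.maximalIdeal.isMaximal _

end Groth.Agent.IntMultLib
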