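import Groth.Agent.IntMultLib.DiagTor
import Groth.Agent.SGA7X.TorSeq
import Groth.Agent.HSLib.Samuel
import Groth.Agent.RegLoc6.Serre
import Groth.Agent.S14414
import Mathlib

/-!
# Additivity of `chi`
-/

set_option autoImplicit false
set_option linter.style.haveILetI false

universe u

open CategoryTheory CategoryTheory.Limits TensorProduct

namespace Groth.Agent.IntMultLib

variable {A : Type u} [CommRing A]

theorem length_eq_range_add_range {X Y Z : Type u} [AddCommGroup X] [Module A X] [AddCommGroup Y] [Module A Y]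
    [AddCommGroup Z] [Module A Z] (f : X →ₗ[A] Y) (g : Y →ₗ[A] Z) (h : Function.Exact f g) :
    Module.length A Y = Module.length A (LinearMap.range f) + Module.length A (LinearMap.range g) :=
  Module.length_eq_add_of_exact (LinearMap.range f).subtype g.rangeRestrict Subtype.val_injective
    g.surjective_rangeRestrict (by
      rw [LinearMap.exact_iff, LinearMap.ker_rangeRestrict, Submodule.range_subtype]
      exact LinearMap.exact_iff.1 h)

theorem exact_homology₁ {T : ShortComplex (ChainComplex (ModuleCat.{u} A) ℕ)} (hT : T.ShortExact) (i : ℕ) :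
    Function.Exact (hT.δ (i + 1) i rfl).hom (HomologicalComplex.homologyMap T.f i).hom :=
  (ShortComplex.ShortExact.moduleCat_exact_iff_function_exact _).1 (hT.homology_exact₁ (i + 1) i rfl)

theorem exact_homology₂ {T : ShortComplex (ChainComplex (ModuleCat.{u} A) ℕ)} (hT : T.ShortExact) (i : ℕ) :
    Function.Exact (HomologicalComplex.homologyMap T.f i).hom (HomologicalComplex.homologyMap T.g i).hom :=
  (ShortComplex.ShortExact.moduleCat_exact_iff_function_exact _).1 (hT.homology_exact₂ i)

theorem exact_homology₃ {T : ShortComplex (ChainComplex (ModuleCat.{u} A) ℕ)} (hT : T.ShortExact) (i : ℕ) :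
    Function.Exact (HomologicalComplex.homologyMap T.g (i + 1)).hom (hT.δ (i + 1) i rfl).hom :=
  (ShortComplex.ShortExact.moduleCat_exact_iff_function_exact _).1 (hT.homology_exact₃ (i + 1) i rfl)

theorem finite_tor_aux [IsNoetherianRing A] (N : Type u) [AddCommGroup N] [Module A N] [Module.Finite A N] :
    ∀ (i : ℕ) (M : Type u) [AddCommGroup M] [Module A M] [Module.Finite A M],
      Module.Finite A (DRing.Tor A i M N) := by
  intro i
  induction i with
  | zero =>
    intro M _ _ _
    haveI : Module.Finite A (((MonoidalCategory.tensoringLeft (ModuleCat.{u} A)).obj (ModuleCat.of A M)).obj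
        (ModuleCat.of A N)) := inferInstanceAs (Module.Finite A (M ⊗[A] N))
    exact Module.Finite.equiv
      ((((MonoidalCategory.tensoringLeft (ModuleCat.{u} A)).obj (ModuleCat.of A M)).leftDerivedZeroIsoSelf).app
        (ModuleCat.of A N)).toLinearEquiv.symm
  | succ i ih =>
    intro M _ _ _
    obtain ⟨n, π, hπ⟩ := Module.Finite.exists_fin' A M
    have w : ModuleCat.ofHom (LinearMap.ker π).subtype ≫ ModuleCat.ofHom π = 0 :=
      ModuleCat.hom_ext (LinearMap.ext fun x => x.2)
    let S := ShortComplex.mk _ _ w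
    have hS : S.ShortExact :=
      { exact := (ShortComplex.ShortExact.moduleCat_exact_iff_function_exact _).2 (LinearMap.exact_subtype_ker_map π)
        mono_f := (ModuleCat.mono_iff_injective _).2 Subtype.val_injective
        epi_g := (ModuleCat.epi_iff_surjective _).2 hπ }
    obtain ⟨T, hT, hi⟩ := SGA7X.exists_torSeq hS (ModuleCat.of A N)
    obtain ⟨-, ⟨e2⟩, ⟨e3⟩⟩ := hi (i + 1)
    obtain ⟨⟨e1⟩, -, -⟩ := hi i
    haveI : Module.Flat A S.X₂ := inferInstanceAs (Module.Flat A (Fin n → A))
    haveI : Subsingleton (T.X₂.homology (i + 1)) := ModuleCat.subsingleton_of_isZero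
      ((SGA7X.isZero_tor_flat S.X₂ (ModuleCat.of A N) i).of_iso e2.symm)
    have hinj : Function.Injective (hT.δ (i + 1) i rfl).hom := by
      rw [← LinearMap.ker_eq_bot, LinearMap.exact_iff.1 (exact_homology₃ hT i)]
      exact le_bot_iff.1 fun y ⟨x, hx⟩ => by
        rw [Subsingleton.elim x 0, map_zero] at hx
        exact hx ▸ Submodule.zero_mem _
    haveI : Module.Finite A (LinearMap.ker π) := inferInstance
    haveI := ih (LinearMap.ker π)
    haveI : Module.Finite A (T.X₁.homology i) := Module.Finite.equiv e1.toLinearEquiv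
    haveI := Module.Finite.of_injective (hT.δ (i + 1) i rfl).hom hinj
    exact Module.Finite.equiv e3.toLinearEquiv.symm

theorem smul_tor_eq_zero (M N : Type u) [AddCommGroup M] [Module A M] [AddCommGroup N] [Module A N] {a : A}
    (ha : ∀ x : N, a • x = 0) (i : ℕ) (z : DRing.Tor A i M N) : a • z = 0 := by
  let P : ProjectiveResolution (ModuleCat.of A M) := ProjectiveResolution.of _
  let e := (Groth.Agent.H9Misc.TorBalance.torIso' P (ModuleCat.of A N) i).toLinearEquiv
  refine e.injective ?_
  rw [map_smul, map_zero]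
  refine smul_homology_eq_zero _ i a (fun x => ?_) _
  suffices H : ∀ x : P.complex.X i ⊗[A] N, a • x = 0 from H x
  intro x
  induction x using TensorProduct.induction_on with
  | zero => rw [smul_zero]
  | tmul p r => rw [← TensorProduct.tmul_smul, ha, TensorProduct.tmul_zero]
  | add p q hp hq => rw [smul_add, hp, hq, add_zero]

/-- The supports meet only in maximal ideals. -/
def Meet (A : Type u) [CommRing A] (M N : Type u) [AddCommGroup M] [Module A M] [AddCommGroup N] [Module A N] :
    Prop :=
  ∀ p : PrimeSpectrum A, p ∈ Module.support A M → p ∈ Module.support A N → p.asIdeal.IsMaximal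

theorem length_tor_ne_top [IsNoetherianRing A] (M N : Type u) [AddCommGroup M] [Module A M] [Module.Finite A M]
    [AddCommGroup N] [Module A N] [Module.Finite A N] (h : Meet A M N) (i : ℕ) :
    Module.length A (DRing.Tor A i M N) ≠ ⊤ := by
  haveI := finite_tor_aux (A := A) N i M
  refine HSLib.length_ne_top_of_forall_isMaximal fun p hp => ?_
  rw [Module.support_eq_zeroLocus, PrimeSpectrum.mem_zeroLocus, SetLike.coe_subset_coe] at hp
  refine h p ?_ ?_ <;>
    rw [Module.support_eq_zeroLocus, PrimeSpectrum.mem_zeroLocus, SetLike.coe_subset_coe] <;>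
    intro a ha <;> refine hp (Module.mem_annihilator.2 fun z => ?_)
  · refine (torSymmEquiv M N i).injective ?_
    rw [map_smul, map_zero]
    exact smul_tor_eq_zero N M (fun x => Module.mem_annihilator.1 ha x) i _
  · exact smul_tor_eq_zero M N (fun x => Module.mem_annihilator.1 ha x) i z

theorem subsingleton_tor_of_regularLocal [IsRegularLocalRing A] (M N : Type u) [AddCommGroup M] [Module A M]
    [AddCommGroup N] [Module A N] [Module.Finite A N] {i : ℕ}
    (hi : (IsLocalRing.maximalIdeal A).spanFinrank < i) : Subsingleton (DRing.Tor A i M N) := by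
  have hpd : RegLoc6.PdLE A (IsLocalRing.maximalIdeal A).spanFinrank N := RegLoc6.pdLE_of_isRegularLocalRing _ _
  haveI : HasProjectiveDimensionLE (ModuleCat.of A N) (IsLocalRing.maximalIdeal A).spanFinrank := hpd
  exact ModuleCat.subsingleton_of_isZero (S14414.result _ _ _ _ i hi)

theorem sum_range_telescope (u : ℕ → ℤ) (n : ℕ) :
    ∑ i ∈ Finset.range n, (-1 : ℤ) ^ i * (u (i + 1) + u i) = u 0 - (-1 : ℤ) ^ n * u n := by
  induction n with
  | zero => simp
  | succ n ih => rw [Finset.sum_range_succ, ih, pow_succ]; ring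

/-- Additivity of `chi` in the first variable. -/
theorem chi_add [IsRegularLocalRing A] {M₁ M₂ M₃ : Type u} [AddCommGroup M₁] [Module A M₁] [Module.Finite A M₁]
    [AddCommGroup M₂] [Module A M₂] [Module.Finite A M₂] [AddCommGroup M₃] [Module A M₃] [Module.Finite A M₃]
    (f : M₁ →ₗ[A] M₂) (g : M₂ →ₗ[A] M₃) (hf : Function.Injective f) (hg : Function.Surjective g)
    (hfg : Function.Exact f g) (N : Type u) [AddCommGroup N] [Module A N] [Module.Finite A N]
    (h₂ : Meet A M₂ N) :
    IntMult.chi A M₂ N = IntMult.chi A M₁ N + IntMult.chi A M₃ N := by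
  let S := ShortComplex.mk (ModuleCat.ofHom f) (ModuleCat.ofHom g)
    (ModuleCat.hom_ext (LinearMap.ext fun x => hfg.apply_apply_eq_zero x))
  have hS : S.ShortExact :=
    { exact := (ShortComplex.ShortExact.moduleCat_exact_iff_function_exact _).2 hfg
      mono_f := (ModuleCat.mono_iff_injective _).2 hf
      epi_g := (ModuleCat.epi_iff_surjective _).2 hg }
  obtain ⟨T, hT, hi⟩ := SGA7X.exists_torSeq hS (ModuleCat.of A N)
  have hb := fun (M : Type u) [AddCommGroup M] [Module A M] (i : ℕ)
      (h : (IsLocalRing.maximalIdeal A).spanFinrank < i) => subsingleton_tor_of_regularLocal M N h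
  rw [chi_eq_sum M₁ N _ (hb M₁), chi_eq_sum M₂ N _ (hb M₂), chi_eq_sum M₃ N _ (hb M₃), ← Finset.sum_add_distrib]
  set D := (IsLocalRing.maximalIdeal A).spanFinrank with hD
  let l : ∀ (M : Type u) [AddCommGroup M] [Module A M], ℕ → ℤ := fun M _ _ i =>
    ((Module.length A (DRing.Tor A i M N)).toNat : ℤ)
  let fi := fun i => Module.length A (LinearMap.range (HomologicalComplex.homologyMap T.f i).hom)
  let gi := fun i => Module.length A (LinearMap.range (HomologicalComplex.homologyMap T.g i).hom)
  let di := fun i => Module.length A (LinearMap.range (hT.δ (i + 1) i rfl).hom)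
  have e₁ : ∀ i, Module.length A (DRing.Tor A i M₁ N) = di i + fi i := fun i => by
    obtain ⟨⟨e⟩, -, -⟩ := hi i
    exact e.toLinearEquiv.length_eq.trans (length_eq_range_add_range _ _ (exact_homology₁ hT i))
  have e₂ : ∀ i, Module.length A (DRing.Tor A i M₂ N) = fi i + gi i := fun i => by
    obtain ⟨-, ⟨e⟩, -⟩ := hi i
    exact e.toLinearEquiv.length_eq.trans (length_eq_range_add_range _ _ (exact_homology₂ hT i))
  have e₃ : ∀ i, Module.length A (DRing.Tor A (i + 1) M₃ N) = gi (i + 1) + di i := fun i => by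
    obtain ⟨-, -, ⟨e⟩⟩ := hi (i + 1)
    exact e.toLinearEquiv.length_eq.trans (length_eq_range_add_range _ _ (exact_homology₃ hT i))
  have e₃₀ : Module.length A (DRing.Tor A 0 M₃ N) = gi 0 := by
    obtain ⟨-, -, ⟨e⟩⟩ := hi 0
    refine e.toLinearEquiv.length_eq.trans ?_
    show _ = Module.length A (LinearMap.range (HomologicalComplex.homologyMap T.g 0).hom)
    haveI := hT.epi_g
    haveI : Epi (HomologicalComplex.homologyMap T.g 0) :=
      HomologicalComplex.epi_homologyMap_of_epi_of_not_rel T.g 0 (by simp)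
    rw [LinearMap.range_eq_top.2 ((ModuleCat.epi_iff_surjective _).1 inferInstance), Module.length_top]
  have h₁ : Meet A M₁ N := fun p hp hq => h₂ p (Module.support_subset_of_injective f hf hp) hq
  have h₃ : Meet A M₃ N := fun p hp hq => h₂ p (Module.support_subset_of_surjective g hg hp) hq
  have hfin₁ : ∀ i, di i ≠ ⊤ ∧ fi i ≠ ⊤ := fun i =>
    WithTop.add_ne_top.1 (e₁ i ▸ length_tor_ne_top M₁ N h₁ i)
  have hfin₂ : ∀ i, gi i ≠ ⊤ := fun i => (WithTop.add_ne_top.1 (e₂ i ▸ length_tor_ne_top M₂ N h₂ i)).2
  let u : ℕ → ℤ := fun i => if i = 0 then 0 else ((di (i - 1)).toNat : ℤ)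
  have key : ∀ i, l M₁ i + l M₃ i = l M₂ i + (u (i + 1) + u i) := fun i => by
    rcases Nat.eq_zero_or_pos i with rfl | hpos
    · simp only [l, u, e₁, e₂, e₃₀, ENat.toNat_add (hfin₁ 0).1 (hfin₁ 0).2,
        ENat.toNat_add (hfin₁ 0).2 (hfin₂ 0)]
      push_cast
      simp
      ring
    · obtain ⟨j, rfl⟩ : ∃ j, i = j + 1 := ⟨i - 1, by omega⟩
      simp only [l, u, e₁, e₂, e₃, ENat.toNat_add (hfin₁ (j + 1)).1 (hfin₁ (j + 1)).2,
        ENat.toNat_add (hfin₁ (j + 1)).2 (hfin₂ (j + 1)), ENat.toNat_add (hfin₂ (j + 1)) (hfin₁ j).1]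
      simp
      ring
  have hlast : u (D + 1) = 0 := by
    haveI := subsingleton_tor_of_regularLocal M₃ N (show D < D + 1 from Nat.lt_succ_self D)
    have h := e₃ D
    rw [Module.length_eq_zero] at h
    have h' : di D = 0 := (add_eq_zero.1 h.symm).2
    simp [u, h']
  have htel : ∑ i ∈ Finset.range (D + 1), (-1 : ℤ) ^ i * (u (i + 1) + u i) = 0 := by
    rw [sum_range_telescope, hlast]
    simp [u]
  calc ∑ i ∈ Finset.range (D + 1), (-1 : ℤ) ^ i * l M₂ i
      = ∑ i ∈ Finset.range (D + 1), (-1 : ℤ) ^ i * l M₂ i +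
          ∑ i ∈ Finset.range (D + 1), (-1 : ℤ) ^ i * (u (i + 1) + u i) := by rw [htel, add_zero]
    _ = _ := by
      rw [← Finset.sum_add_distrib]
      refine Finset.sum_congr rfl fun i _ => ?_
      show _ = (-1 : ℤ) ^ i * l M₁ i + (-1 : ℤ) ^ i * l M₃ i
      rw [← mul_add, ← mul_add, key i]

end Groth.Agent.IntMultLib
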