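import Groth.Agent.IntMultLib.KoszulEuler
import Groth.Agent.NodeTor.Basic
import Groth.Agent.KRegLib.WeakReg
import Groth.Agent.H9Misc.TorBalance
import Groth.Prelude.Def_IntMult
import Mathlib

/-!
# `Tor` from resolutions, the symmetry of `chi`, and Koszul resolutions
-/

set_option autoImplicit false
set_option linter.style.haveILetI false

universe u

open CategoryTheory CategoryTheory.Limits TensorProduct Groth.Agent.WiebeLib

namespace Groth.Agent.IntMultLib

variable {A : Type u} [CommRing A]

/-- Lengths of the homology of an `ℕ`-chain complex of modules. -/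
theorem length_homology_chain (K : ChainComplex (ModuleCat.{u} A) ℕ) :
    ∀ k, Module.length A (K.homology k) =
      hlen (T := fun n => K.X n) (fun n => (K.d (n + 1) n).hom) k := by
  intro k
  cases k with
  | zero =>
    let S := K.sc' 1 0 0
    let iso : K.homology 0 ≅ ModuleCat.of A (LinearMap.ker S.g.hom ⧸ LinearMap.range S.moduleCatToCycles) :=
      K.homologyIsoSc' 1 0 0 (by simp) (by simp) ≪≫ S.moduleCatHomologyIso
    rw [iso.toLinearEquiv.length_eq]
    have hg : LinearMap.ker S.g.hom = cyc (T := fun n => K.X n) (fun n => (K.d (n + 1) n).hom) 0 := by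
      refine top_le_iff.1 fun z _ => ?_
      show K.d 0 0 z = 0
      rw [K.shape 0 0 (by simp)]
      rfl
    refine (Submodule.Quotient.equiv _ _ (LinearEquiv.ofEq _ _ hg) ?_).length_eq
    ext t
    constructor
    · rintro ⟨_, ⟨w, rfl⟩, rfl⟩; exact ⟨w, rfl⟩
    · rintro ⟨w, hw⟩; exact ⟨S.moduleCatToCycles w, ⟨w, rfl⟩, Subtype.ext hw⟩
  | succ k =>
    let S := K.sc' (k + 2) (k + 1) k
    let iso : K.homology (k + 1) ≅ ModuleCat.of A (LinearMap.ker S.g.hom ⧸ LinearMap.range S.moduleCatToCycles) :=
      K.homologyIsoSc' (k + 2) (k + 1) k (by simp) (by simp) ≪≫ S.moduleCatHomologyIso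
    rw [iso.toLinearEquiv.length_eq]
    refine (Submodule.Quotient.equiv _ _ (LinearEquiv.refl A _) ?_).length_eq
    ext t
    constructor
    · rintro ⟨_, ⟨w, rfl⟩, rfl⟩; exact ⟨w, rfl⟩
    · rintro ⟨w, hw⟩; exact ⟨S.moduleCatToCycles w, ⟨w, rfl⟩, Subtype.ext hw⟩

/-- `Tor` from a resolution of the first variable. -/
theorem length_tor_eq_hlen {M : ModuleCat.{u} A} (P : ProjectiveResolution M)
    (N : Type u) [AddCommGroup N] [Module A N] (k : ℕ) :
    Module.length A (((Tor (ModuleCat.{u} A) k).obj M).obj (ModuleCat.of A N)) =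
      hlen (T := fun n => P.complex.X n ⊗[A] N) (fun n => (P.complex.d (n + 1) n).hom.rTensor N) k := by
  rw [(Groth.Agent.H9Misc.TorBalance.torIso' P (ModuleCat.of A N) k).toLinearEquiv.length_eq,
    length_homology_chain]
  rfl

theorem length_tor_symm (M N : Type u) [AddCommGroup M] [Module A M] [AddCommGroup N] [Module A N] (i : ℕ) :
    Module.length A (DRing.Tor A i M N) = Module.length A (DRing.Tor A i N M) :=
  (Groth.Agent.H9Misc.TorBalance.torSymm (ModuleCat.of A M) (ModuleCat.of A N) i).toLinearEquiv.length_eq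

/-- `chi` is symmetric. -/
theorem chi_symm (M N : Type u) [AddCommGroup M] [Module A M] [AddCommGroup N] [Module A N] :
    IntMult.chi A M N = IntMult.chi A N M :=
  finsum_congr fun i => by rw [length_tor_symm M N i]

/-- `chi` as a finite sum. -/
theorem chi_eq_sum (M N : Type u) [AddCommGroup M] [Module A M] [AddCommGroup N] [Module A N] (r : ℕ)
    (h : ∀ i, r < i → Subsingleton (DRing.Tor A i M N)) :
    IntMult.chi A M N =
      ∑ i ∈ Finset.range (r + 1), (-1 : ℤ) ^ i * ((Module.length A (DRing.Tor A i M N)).toNat : ℤ) := by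
  refine finsum_eq_sum_of_support_subset _ fun i hi => ?_
  by_contra hc
  have hri : r < i := by simpa using hc
  haveI := h i hri
  exact hi (by simp only []; rw [Module.length_eq_zero]; simp)

variable {r : ℕ} (g : Fin r → A)

/-- The augmentation of the Koszul complex. -/
noncomputable def aug : Ko A r 0 →ₗ[A] A ⧸ Ideal.span (Set.range g) :=
  (Ideal.span (Set.range g)).mkQ ∘ₗ (base r).toLinearMap

theorem exact_aug : Function.Exact (d r g 0) (aug g) := by
  intro y
  constructor
  · intro hy
    obtain ⟨v, hv⟩ := Ideal.mem_span_range_iff_exists_fun.1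
      ((Submodule.Quotient.mk_eq_zero (Ideal.span (Set.range g))).1 hy)
    refine ⟨eta r v 0 ((base r).symm 1), (base r).injective ?_⟩
    rw [d_eta_zero, map_smul, LinearEquiv.apply_symm_apply, smul_eq_mul, mul_one, hv]
    rfl
  · rintro ⟨x, rfl⟩
    exact (Submodule.Quotient.mk_eq_zero _).2
      (base_apply_mem (d_apply_mem r g (fun i => Ideal.subset_span (Set.mem_range_self i)) 0 x))

/-- The Koszul resolution of the quotient by a regular sequence. -/
noncomputable def koszulRes (hex : WiebeLib.IsExact g) :
    ProjectiveResolution (ModuleCat.of A (A ⧸ Ideal.span (Set.range g))) :=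
  NodeTor.resolution _ (fun k => ModuleCat.of A (Ko A r k))
    (fun _ => (IsProjective.iff_projective _).1 inferInstance)
    (fun k => ModuleCat.ofHom (d r g k))
    (fun k => ModuleCat.hom_ext (LinearMap.ext (d_d r g k)))
    (ModuleCat.ofHom (aug g))
    (ModuleCat.hom_ext (LinearMap.ext fun x => (exact_aug g).apply_apply_eq_zero x))
    (fun q => by
      obtain ⟨a, rfl⟩ := Submodule.Quotient.mk_surjective _ q
      exact ⟨(base r).symm a, congrArg Submodule.Quotient.mk ((base r).apply_symm_apply a)⟩)
    (exact_aug g)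
    (fun k x => ⟨fun hx => hex k x hx, fun ⟨y, hy⟩ => hy ▸ d_d r g k y⟩)

/-- Serre's formula: for a regular sequence `chi (A ⧸ (g), M)` is the Koszul Euler characteristic. -/
theorem chi_quot_eq_kchi (hreg : RingTheory.Sequence.IsWeaklyRegular A (List.ofFn g))
    (M : Type u) [AddCommGroup M] [Module A M] :
    IntMult.chi A (A ⧸ Ideal.span (Set.range g)) M = kchi M g := by
  let P := koszulRes g (KRegLib.isExact_of_isWeaklyRegular g hreg)
  have hP : ∀ k, (P.complex.d (k + 1) k).hom = d r g k := fun k =>
    congrArg ModuleCat.Hom.hom (NodeTor.resolution_d _ _ _ _ _ _ _ _ _ _ k)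
  have hlen_eq : ∀ k, Module.length A (DRing.Tor A k (A ⧸ Ideal.span (Set.range g)) M) =
      hlen (T := KT (A := A) M r) (dT M g) k := fun k => by
    show Module.length A (((Tor (ModuleCat.{u} A) k).obj (ModuleCat.of A _)).obj (ModuleCat.of A M)) = _
    rw [length_tor_eq_hlen P M k]
    have hd : (fun n => (P.complex.d (n + 1) n).hom.rTensor M) = dT M g := funext fun n => by rw [hP n]; rfl
    exact congrArg (fun D => hlen (T := KT (A := A) M r) D k) hd
  rw [chi_eq_sum _ _ r fun i hi => ?_, kchi]
  · exact Finset.sum_congr rfl fun k _ => by rw [hlen_eq k]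
  · rw [← Module.length_eq_zero_iff (R := A), hlen_eq i, hlen, Module.length_eq_zero_iff]
    haveI := subsingleton_ko A hi
    infer_instance

end Groth.Agent.IntMultLib
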