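import Groth.Agent.IntMultLib.DiagTor
import Groth.Agent.IntMultLib.ChiAdd
import Groth.Agent.IntMultLib.TorKoszul
import Mathlib

/-!
# `chi` along a retraction
-/

set_option autoImplicit false
set_option linter.style.haveILetI false

universe u

open CategoryTheory TensorProduct

namespace Groth.Agent.IntMultLib

/-- If `R → S → R₂` composes to a bijection with `S` flat over `R` and `S → R₂` surjective, then `chi` of an
`R₂`-module against the base change of an `R`-quotient is the same over `S` and over `R₂`. -/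
theorem chi_retraction (R S R₂ : Type u) [CommRing R] [CommRing S] [CommRing R₂] [Algebra R S] [Algebra S R₂]
    [Algebra R R₂] [IsScalarTower R S R₂] [Module.Flat R S] (hbij : Function.Bijective (algebraMap R R₂))
    (I : Ideal R) (Q : Type u) [AddCommGroup Q] [Module R₂ Q] [Module S Q] [IsScalarTower S R₂ Q] :
    IntMult.chi S Q (S ⧸ I.map (algebraMap R S)) = IntMult.chi R₂ Q (R₂ ⧸ I.map (algebraMap R R₂)) := by
  letI : Module R Q := Module.compHom Q (algebraMap R R₂)
  haveI : IsScalarTower R R₂ Q := IsScalarTower.of_algebraMap_smul fun _ _ => rfl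
  haveI : IsScalarTower R S Q := IsScalarTower.of_algebraMap_smul fun r q => by
    show algebraMap R S r • q = algebraMap R R₂ r • q
    rw [IsScalarTower.algebraMap_apply R S R₂, algebraMap_smul R₂ (algebraMap R S r) q]
  let e₂ : R ≃ₗ[R] R₂ := LinearEquiv.ofBijective (Algebra.linearMap R R₂) hbij
  haveI : Module.Flat R R₂ := Module.Flat.of_linearEquiv e₂.symm
  rw [chi_symm (A := S), chi_symm (A := R₂)]
  refine finsum_congr fun n => ?_
  obtain ⟨f₁, hf₁⟩ := exists_bij_tor_baseChange S
    (Algebra.TensorProduct.quotIdealMapEquivTensorQuot S I).toLinearEquiv.symm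
    (fun q => subsingleton_tor_flat (R ⧸ I) S q) Q n
  obtain ⟨f₂, hf₂⟩ := exists_bij_tor_baseChange R₂
    (Algebra.TensorProduct.quotIdealMapEquivTensorQuot R₂ I).toLinearEquiv.symm
    (fun q => subsingleton_tor_flat (R ⧸ I) R₂ q) Q n
  congr 2
  let T₁ := DRing.Tor S n (S ⧸ I.map (algebraMap R S)) Q
  let T₂ := DRing.Tor R₂ n (R₂ ⧸ I.map (algebraMap R R₂)) Q
  obtain ⟨g₁, hg₁, hg₁a, hg₁s⟩ := inv_semilinear f₁ hf₁
  have hcompat : ∀ (l : S) (z : T₁), f₂ (g₁ (l • z)) = algebraMap S R₂ l • f₂ (g₁ z) := fun l z => by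
    obtain ⟨a, ha⟩ := hbij.2 (algebraMap S R₂ l)
    have h0 : (l - algebraMap R S a) • z = 0 := smul_tor_eq_zero _ Q (fun q => by
      rw [← algebraMap_smul R₂, map_sub, ← IsScalarTower.algebraMap_apply R S R₂, ha, sub_self, zero_smul]) n z
    rw [sub_smul, sub_eq_zero] at h0
    rw [h0, hg₁s, map_smulₛₗ, ha]
  letI : Module S T₂ := Module.compHom T₂ (algebraMap S R₂)
  haveI : IsScalarTower S R₂ T₂ := IsScalarTower.of_algebraMap_smul fun _ _ => rfl
  let E : T₁ ≃ₗ[S] T₂ := LinearEquiv.ofBijective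
    ({ toFun := fun z => f₂ (g₁ z)
       map_add' := fun x y => by rw [hg₁a, map_add]
       map_smul' := fun l z => hcompat l z } : T₁ →ₗ[S] T₂) (hf₂.comp hg₁)
  have hsurj : Function.Surjective (algebraMap S R₂) := fun y => by
    obtain ⟨a, ha⟩ := hbij.2 y
    exact ⟨algebraMap R S a, by rw [← IsScalarTower.algebraMap_apply, ha]⟩
  exact congrArg ENat.toNat (E.length_eq.trans (Module.length_eq_of_surjective hsurj))

end Groth.Agent.IntMultLib
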