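import Groth.Agent.IntMultLib.TensorEuler
import Mathlib

/-!
# Associativity of `chi`
-/

set_option autoImplicit false
set_option linter.style.haveILetI false
set_option backward.isDefEq.respectTransparency.types false

universe u

open CategoryTheory CategoryTheory.Limits MonoidalCategory
open Groth.Agent.KFlatLib Groth.Agent.H9Misc.DRingLTensor Groth.Agent.H9Misc

namespace Groth.Agent.IntMultLib

variable {R : Type u} [CommRing R]

theorem annihilator_le_tor (B C : Type u) [AddCommGroup B] [Module R B] [AddCommGroup C] [Module R C] (q : ℕ) :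
    Module.annihilator R B ≤ Module.annihilator R (DRing.Tor R q B C) ∧
      Module.annihilator R C ≤ Module.annihilator R (DRing.Tor R q B C) := by
  refine ⟨fun a ha => Module.mem_annihilator.2 fun z => (torSymmEquiv B C q).injective ?_,
    fun a ha => Module.mem_annihilator.2 fun z => smul_tor_eq_zero B C (fun x => Module.mem_annihilator.1 ha x) q z⟩
  rw [map_smul, map_zero]
  exact smul_tor_eq_zero C B (fun x => Module.mem_annihilator.1 ha x) q _

theorem mem_support_of_mem_support_tor [IsNoetherianRing R] (B C : Type u) [AddCommGroup B] [Module R B]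
    [Module.Finite R B] [AddCommGroup C] [Module R C] [Module.Finite R C] (q : ℕ) {p : PrimeSpectrum R}
    (hp : p ∈ Module.support R (DRing.Tor R q B C)) : p ∈ Module.support R B ∧ p ∈ Module.support R C := by
  haveI := finite_tor_aux (A := R) C q B
  obtain ⟨h1, h2⟩ := annihilator_le_tor (R := R) B C q
  rw [Module.support_eq_zeroLocus, PrimeSpectrum.mem_zeroLocus, SetLike.coe_subset_coe] at hp
  constructor <;> rw [Module.support_eq_zeroLocus, PrimeSpectrum.mem_zeroLocus, SetLike.coe_subset_coe]
  exacts [h1.trans hp, h2.trans hp]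

variable [IsRegularLocalRing R]

/-- The triple Euler characteristic, computed in two steps. -/
theorem eul_tensRes_tor (A B C : ModuleCat.{u} R) [Module.Finite R A] [Module.Finite R B] [Module.Finite R C]
    (P : ProjectiveResolution A) (PB : ProjectiveResolution B) (PC : ProjectiveResolution C)
    (h : ∀ p : PrimeSpectrum R, p ∈ Module.support R A → p ∈ Module.support R B → p ∈ Module.support R C →
      p.asIdeal.IsMaximal) :
    eul ((tensRes P).obj ((TorBalance.T.obj PB.cochainComplex).obj PC.cochainComplex)) =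
      ∑ q ∈ Finset.range ((IsLocalRing.maximalIdeal R).spanFinrank + 1),
        (-1 : ℤ) ^ q * IntMult.chi R (DRing.Tor R q B C) A := by
  set D := (IsLocalRing.maximalIdeal R).spanFinrank
  set K := (TorBalance.T.obj PB.cochainComplex).obj PC.cochainComplex
  haveI := TorBalance.quasiIso_cmpL PB PC
  have eTor : ∀ q : ℕ, Nonempty (K.homology (-q) ≃ₗ[R] DRing.Tor R q B C) := fun q =>
    ⟨(isoOfQuasiIsoAt (TorBalance.cmpL PB PC) (-q : ℤ) ≪≫ (TorBalance.torIso B PC q).symm).toLinearEquiv⟩
  have hpos : ∀ i : ℤ, 0 < i → Subsingleton (K.homology i) := fun i hi =>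
    ModuleCat.subsingleton_of_isZero
      ((homology_isZero_of_pos PC B hi).of_iso (isoOfQuasiIsoAt (TorBalance.cmpL PB PC) i))
  rw [eul_tensRes_eq P K (-D) (D + 1) ?_ ?_ ?_]
  · have hIco : Finset.Ico (-(D : ℤ)) (-(D : ℤ) + ((D + 1 : ℕ) : ℤ)) =
        (Finset.range (D + 1)).image (fun q : ℕ => -(q : ℤ)) := by
      ext i
      simp only [Finset.mem_Ico, Finset.mem_image, Finset.mem_range]
      exact ⟨fun h => ⟨(-i).toNat, by omega, by omega⟩, by rintro ⟨q, hq, rfl⟩; omega⟩
    rw [hIco, Finset.sum_image (fun a _ b _ hab => by simpa using hab)]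
    refine Finset.sum_congr rfl fun q _ => ?_
    obtain ⟨e⟩ := eTor q
    rw [chi_congr e (LinearEquiv.refl R A), Int.negOnePow_neg, Int.coe_negOnePow_natCast]
  · intro i
    rcases le_or_gt i 0 with hi | hi
    · obtain ⟨q, rfl⟩ : ∃ q : ℕ, i = -q := ⟨(-i).toNat, by omega⟩
      obtain ⟨e⟩ := eTor q
      haveI := finite_tor_aux (A := R) C q B
      exact Module.Finite.equiv e.symm
    · haveI := hpos i hi
      infer_instance
  · intro i p hp hq
    rcases le_or_gt i 0 with hi | hi
    · obtain ⟨q, rfl⟩ : ∃ q : ℕ, i = -q := ⟨(-i).toNat, by omega⟩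
      obtain ⟨e⟩ := eTor q
      obtain ⟨hb, hc⟩ := mem_support_of_mem_support_tor (R := R) B C q (e.support_eq ▸ hp)
      exact h p hq hb hc
    · haveI := hpos i hi
      rw [Module.support_eq_empty] at hp
      exact absurd hp (Set.notMem_empty p)
  · intro i hi
    rcases le_or_gt i 0 with hi0 | hi0
    · obtain ⟨q, rfl⟩ : ∃ q : ℕ, i = -q := ⟨(-i).toNat, by omega⟩
      obtain ⟨e⟩ := eTor q
      haveI := subsingleton_tor_of_regularLocal (A := R) B C (i := q) (by omega)
      exact e.toEquiv.subsingleton
    · exact hpos i hi0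

/-- Associativity of `chi`. -/
theorem chi_assoc (A B C : Type u) [AddCommGroup A] [Module R A] [Module.Finite R A] [AddCommGroup B] [Module R B]
    [Module.Finite R B] [AddCommGroup C] [Module R C] [Module.Finite R C]
    (h : ∀ p : PrimeSpectrum R, p ∈ Module.support R A → p ∈ Module.support R B → p ∈ Module.support R C →
      p.asIdeal.IsMaximal) :
    ∑ q ∈ Finset.range ((IsLocalRing.maximalIdeal R).spanFinrank + 1),
        (-1 : ℤ) ^ q * IntMult.chi R A (DRing.Tor R q B C) =
      ∑ q ∈ Finset.range ((IsLocalRing.maximalIdeal R).spanFinrank + 1),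
        (-1 : ℤ) ^ q * IntMult.chi R (DRing.Tor R q A B) C := by
  let PA := ProjectiveResolution.of (ModuleCat.of R A)
  let PB := ProjectiveResolution.of (ModuleCat.of R B)
  let PC := ProjectiveResolution.of (ModuleCat.of R C)
  let e : (tensRes PC).obj ((TorBalance.T.obj PA.cochainComplex).obj PB.cochainComplex) ≅
      (tensRes PA).obj ((TorBalance.T.obj PB.cochainComplex).obj PC.cochainComplex) :=
    (symmIso curriedTensorFlipIso PC.cochainComplex).symm.app _ ≪≫
      α_ PA.cochainComplex PB.cochainComplex PC.cochainComplex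
  have key := eul_of_equiv (fun i => ((HomologicalComplex.homologyFunctor _ _ i).mapIso e).toLinearEquiv)
  rw [eul_tensRes_tor (ModuleCat.of R C) (ModuleCat.of R A) (ModuleCat.of R B) PC PA PB
      (fun p hc ha hb => h p ha hb hc),
    eul_tensRes_tor (ModuleCat.of R A) (ModuleCat.of R B) (ModuleCat.of R C) PA PB PC h] at key
  refine Eq.trans (Finset.sum_congr rfl fun q _ => ?_) key.symm
  rw [chi_symm]

end Groth.Agent.IntMultLib
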