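import Groth.Agent.IntMultLib.ChiAdd
import Groth.Agent.CycLib.SamuelAssoc
import Mathlib

/-!
# `chi` by dévissage
-/

set_option autoImplicit false
set_option linter.style.haveILetI false

universe u

open CategoryTheory CategoryTheory.Limits

namespace Groth.Agent.IntMultLib

variable {A : Type u} [CommRing A] [IsLocalRing A] [IsNoetherianRing A]

/-- The multiplicity of `M` at a prime. -/
noncomputable def locLen (p : PrimeSpectrum A) (M : Type u) [AddCommGroup M] [Module A M] : ℤ :=
  ((Module.length (Localization.AtPrime p.asIdeal) (LocalizedModule p.asIdeal.primeCompl M)).toNat : ℤ)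

open Classical in
/-- An additive function on modules of dimension at most `a` is determined by the primes of dimension `a`. -/
theorem additive_formula (a : ℕ) (C : ∀ (M : Type u) [AddCommGroup M] [Module A M], Prop)
    (φ : ∀ (M : Type u) [AddCommGroup M] [Module A M], ℤ)
    (hC : ∀ (M₁ M₂ M₃ : Type u) [AddCommGroup M₁] [Module A M₁] [AddCommGroup M₂] [Module A M₂]
      [AddCommGroup M₃] [Module A M₃] (f : M₁ →ₗ[A] M₂) (g : M₂ →ₗ[A] M₃),
      Function.Injective f → Function.Surjective g → C M₂ → C M₁ ∧ C M₃)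
    (hadd : ∀ (M₁ M₂ M₃ : Type u) [AddCommGroup M₁] [Module A M₁] [Module.Finite A M₁] [AddCommGroup M₂]
      [Module A M₂] [Module.Finite A M₂] [AddCommGroup M₃] [Module A M₃] [Module.Finite A M₃]
      (f : M₁ →ₗ[A] M₂) (g : M₂ →ₗ[A] M₃), Function.Injective f → Function.Surjective g → Function.Exact f g →
      C M₂ → φ M₂ = φ M₁ + φ M₃)
    (hlow : ∀ q : PrimeSpectrum A, ringKrullDim (A ⧸ q.asIdeal) < (a : WithBot ℕ∞) → C (A ⧸ q.asIdeal) →
      φ (A ⧸ q.asIdeal) = 0)
    (M : Type u) [AddCommGroup M] [Module A M] [Module.Finite A M] (hM : C M)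
    (hdM : Module.supportDim A M ≤ a) :
    φ M = ∑ᶠ (p : PrimeSpectrum A) (_ : ringKrullDim (A ⧸ p.asIdeal) = a), locLen p M * φ (A ⧸ p.asIdeal) := by
  suffices h : C M → Module.supportDim A M ≤ a →
      ∃ T : Finset (PrimeSpectrum A), (∀ p, ringKrullDim (A ⧸ p.asIdeal) = a →
        Module.length (Localization.AtPrime p.asIdeal) (LocalizedModule p.asIdeal.primeCompl M) ≠ ⊤ ∧
        (p ∉ T → locLen p M = 0)) ∧
      ∀ S : Finset (PrimeSpectrum A), T ⊆ S →
        φ M = ∑ p ∈ S.filter (fun p => ringKrullDim (A ⧸ p.asIdeal) = a), locLen p M * φ (A ⧸ p.asIdeal) by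
    obtain ⟨T, hT, hsum⟩ := h hM hdM
    rw [hsum T le_rfl]
    refine (finsum_mem_eq_sum_of_subset (s := {p : PrimeSpectrum A | ringKrullDim (A ⧸ p.asIdeal) = a}) _ ?_ ?_).symm
    · intro p hp
      rw [Finset.coe_filter]
      refine ⟨?_, hp.1⟩
      by_contra hn
      exact hp.2 (by simp [(hT p hp.1).2 hn])
    · intro p hp
      exact (Finset.mem_filter.1 hp).2
  refine IsNoetherianRing.induction_on_isQuotientEquivQuotientPrime (A := A) (M := M) ‹_›
    (motive := fun M _ _ _ => C M → Module.supportDim A M ≤ a →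
      ∃ T : Finset (PrimeSpectrum A), (∀ p, ringKrullDim (A ⧸ p.asIdeal) = a →
        Module.length (Localization.AtPrime p.asIdeal) (LocalizedModule p.asIdeal.primeCompl M) ≠ ⊤ ∧
        (p ∉ T → locLen p M = 0)) ∧
      ∀ S : Finset (PrimeSpectrum A), T ⊆ S →
        φ M = ∑ p ∈ S.filter (fun p => ringKrullDim (A ⧸ p.asIdeal) = a), locLen p M * φ (A ⧸ p.asIdeal))
    ?_ ?_ ?_
  · intro N _ _ _ _ hN _
    have h0 : ∀ p : PrimeSpectrum A,
        Module.length (Localization.AtPrime p.asIdeal) (LocalizedModule p.asIdeal.primeCompl N) = 0 := fun p => by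
      haveI : Subsingleton (LocalizedModule p.asIdeal.primeCompl N) := ⟨fun a b => by
        induction a using LocalizedModule.induction_on with
        | _ m s =>
          induction b using LocalizedModule.induction_on with
          | _ m' s' => exact LocalizedModule.mk_eq.2 ⟨1, Subsingleton.elim _ _⟩⟩
      exact Module.length_eq_zero
    have hφ : φ N = 0 := by
      have h := hadd N N N LinearMap.id LinearMap.id Function.injective_id Function.surjective_id
        (fun x => ⟨fun _ => ⟨x, rfl⟩, fun _ => Subsingleton.elim _ _⟩) hN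
      linarith
    exact ⟨∅, fun p _ => ⟨by simp [h0 p], fun _ => by simp [locLen, h0 p]⟩,
      fun S _ => by simp [hφ, locLen, h0]⟩
  · intro N _ _ _ q eq hN hq
    rw [Module.supportDim_eq_of_equiv eq, Module.supportDim_quotient_eq_ringKrullDim] at hq
    have hCq : C (A ⧸ q.asIdeal) := (hC N N (A ⧸ q.asIdeal) LinearMap.id eq.toLinearMap Function.injective_id
      eq.surjective hN).2
    have hφ : φ N = φ (A ⧸ q.asIdeal) := by
      let Z : Submodule A N := ⊥
      have hCZ : C Z := (hC Z N N Z.subtype LinearMap.id Subtype.val_injective Function.surjective_id hN).1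
      have h0 := hadd Z Z Z LinearMap.id LinearMap.id Function.injective_id Function.surjective_id
        (fun x => ⟨fun _ => ⟨x, rfl⟩, fun _ => Subsingleton.elim _ _⟩) hCZ
      have h1 := hadd Z N (A ⧸ q.asIdeal) Z.subtype eq.toLinearMap Subtype.val_injective eq.surjective
        (LinearMap.exact_iff.2 (by rw [LinearEquiv.ker, Submodule.range_subtype])) hN
      linarith
    have hlen : ∀ p : PrimeSpectrum A, ringKrullDim (A ⧸ p.asIdeal) = a →
        Module.length (Localization.AtPrime p.asIdeal) (LocalizedModule p.asIdeal.primeCompl N) =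
          if q = p then 1 else 0 := fun p hp => by
      rw [← CycLib.length_localized_quot_prime q p a hq hp]
      exact le_antisymm
        (Module.length_le_of_injective (LocalizedModule.map p.asIdeal.primeCompl eq.toLinearMap)
          (IsLocalizedModule.map_injective p.asIdeal.primeCompl (LocalizedModule.mkLinearMap _ _)
            (LocalizedModule.mkLinearMap _ _) eq.toLinearMap eq.injective))
        (Module.length_le_of_surjective (LocalizedModule.map p.asIdeal.primeCompl eq.toLinearMap)
          (IsLocalizedModule.map_surjective p.asIdeal.primeCompl (LocalizedModule.mkLinearMap _ _)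
            (LocalizedModule.mkLinearMap _ _) eq.toLinearMap eq.surjective))
    refine ⟨{q}, fun p hp => ⟨?_, fun hpq => ?_⟩, fun S hS => ?_⟩
    · rw [hlen p hp]
      split_ifs <;> simp
    · rw [locLen, hlen p hp, if_neg fun h => hpq (by simp [h])]
      simp
    rw [hφ]
    rcases hq.lt_or_eq with hlt | heq
    · rw [hlow q hlt hCq, Finset.sum_eq_zero fun p hp => ?_]
      have hp' := (Finset.mem_filter.1 hp).2
      rw [locLen, hlen p hp', if_neg fun h : q = p => hlt.ne (h.symm ▸ hp')]
      simp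
    · rw [Finset.sum_eq_single q]
      · rw [locLen, hlen q heq, if_pos rfl]
        simp
      · intro p hp hpq
        rw [locLen, hlen p (Finset.mem_filter.1 hp).2, if_neg (Ne.symm hpq)]
        simp
      · exact fun h => absurd (Finset.mem_filter.2 ⟨hS (by simp), heq⟩) h
  · intro N₁ _ _ _ N₂ _ _ _ N₃ _ _ _ f g hf hg hfg h₁ h₃ hN hdN
    obtain ⟨hC₁, hC₃⟩ := hC N₁ N₂ N₃ f g hf hg hN
    obtain ⟨T₁, hT₁, hl₁⟩ := h₁ hC₁ ((Module.supportDim_le_of_injective f hf).trans hdN)
    obtain ⟨T₃, hT₃, hl₃⟩ := h₃ hC₃ ((Module.supportDim_le_of_surjective g hg).trans hdN)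
    have hsplit : ∀ p, ringKrullDim (A ⧸ p.asIdeal) = a → locLen p N₂ = locLen p N₁ + locLen p N₃ := fun p hp => by
      simp only [locLen, CycLib.length_localized_add p f g hf hg hfg,
        ENat.toNat_add (hT₁ p hp).1 (hT₃ p hp).1]
      push_cast
      ring
    refine ⟨T₁ ∪ T₃, fun p hp => ⟨?_, fun h => ?_⟩, fun S hS => ?_⟩
    · rw [CycLib.length_localized_add p f g hf hg hfg]
      exact WithTop.add_ne_top.2 ⟨(hT₁ p hp).1, (hT₃ p hp).1⟩
    · rw [Finset.mem_union, not_or] at h
      rw [hsplit p hp, (hT₁ p hp).2 h.1, (hT₃ p hp).2 h.2, add_zero]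
    · rw [hadd N₁ N₂ N₃ f g hf hg hfg hN, hl₁ S (Finset.union_subset_left hS),
        hl₃ S (Finset.union_subset_right hS), ← Finset.sum_add_distrib]
      refine Finset.sum_congr rfl fun p hp => ?_
      rw [hsplit p (Finset.mem_filter.1 hp).2, add_mul]

set_option maxHeartbeats 200000 in
/-- `chi` is the sum over the components of maximal dimension. -/
theorem chi_formula {R : Type u} [CommRing R] [IsRegularLocalRing R] {d a b : ℕ} (hab : a + b ≤ d)
    (hvanish : ∀ p q : PrimeSpectrum R, Meet R (R ⧸ p.asIdeal) (R ⧸ q.asIdeal) →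
      ∀ a' b' : ℕ, ringKrullDim (R ⧸ p.asIdeal) = a' → ringKrullDim (R ⧸ q.asIdeal) = b' → a' + b' < d →
      IntMult.chi R (R ⧸ p.asIdeal) (R ⧸ q.asIdeal) = 0)
    (M N : Type u) [AddCommGroup M] [Module R M] [Module.Finite R M] [AddCommGroup N] [Module R N]
    [Module.Finite R N] (hM : Module.supportDim R M ≤ a) (hN : Module.supportDim R N ≤ b) (hMN : Meet R M N) :
    IntMult.chi R M N = ∑ᶠ (p : PrimeSpectrum R) (_ : ringKrullDim (R ⧸ p.asIdeal) = a),
      locLen p M * ∑ᶠ (q : PrimeSpectrum R) (_ : ringKrullDim (R ⧸ q.asIdeal) = b),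
        locLen q N * IntMult.chi R (R ⧸ p.asIdeal) (R ⧸ q.asIdeal) := by
  have hdim : ∀ p : PrimeSpectrum R, ∀ e : ℕ, ringKrullDim (R ⧸ p.asIdeal) ≤ e →
      ∃ a' : ℕ, ringKrullDim (R ⧸ p.asIdeal) = a' ∧ a' ≤ e := by
    intro p e hp
    haveI : Nontrivial (R ⧸ p.asIdeal) := Ideal.Quotient.nontrivial_iff.2 p.2.ne_top
    have h0 : (0 : WithBot ℕ∞) ≤ ringKrullDim (R ⧸ p.asIdeal) := ringKrullDim_nonneg_of_nontrivial
    revert hp h0
    cases ringKrullDim (R ⧸ p.asIdeal) with
    | bot => intro _ h; simp at h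
    | coe x =>
      intro hp _
      rw [show (e : WithBot ℕ∞) = (((e : ℕ) : ℕ∞) : WithBot ℕ∞) from rfl, WithBot.coe_le_coe] at hp
      obtain ⟨j, rfl⟩ := ENat.ne_top_iff_exists.1 (ne_top_of_le_ne_top (ENat.coe_ne_top e) hp)
      exact ⟨j, rfl, by exact_mod_cast hp⟩
  have key : ∀ (p : PrimeSpectrum R), Meet R (R ⧸ p.asIdeal) N →
      (∀ a' : ℕ, ringKrullDim (R ⧸ p.asIdeal) = a' → a' + b ≤ d →
      IntMult.chi R (R ⧸ p.asIdeal) N = ∑ᶠ (q : PrimeSpectrum R) (_ : ringKrullDim (R ⧸ q.asIdeal) = b),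
        locLen q N * IntMult.chi R (R ⧸ p.asIdeal) (R ⧸ q.asIdeal)) := by
    intro p hp a' ha' hab'
    have hmain := additive_formula (A := R) b (fun N' _ _ => Meet R (R ⧸ p.asIdeal) N')
      (fun N' _ _ => IntMult.chi R (R ⧸ p.asIdeal) N')
    refine hmain ?_ ?_ ?_ N hp hN
    · intro N₁ N₂ N₃ _ _ _ _ _ _ f g hf hg h
      exact ⟨fun x hx hy => h x hx (Module.support_subset_of_injective f hf hy),
        fun x hx hy => h x hx (Module.support_subset_of_surjective g hg hy)⟩
    · intro N₁ N₂ N₃ _ _ _ _ _ _ _ _ _ f g hf hg hfg h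
      show IntMult.chi R (R ⧸ p.asIdeal) N₂ = _
      rw [chi_symm, chi_symm (R ⧸ p.asIdeal) N₁, chi_symm (R ⧸ p.asIdeal) N₃]
      exact chi_add f g hf hg hfg _ fun x hx hy => h x hy hx
    · intro q hq h
      obtain ⟨b', hb', hle⟩ := hdim q b hq.le
      have hlt : b' < b := by rw [hb'] at hq; exact_mod_cast hq
      exact hvanish p q h a' b' ha' hb' (by omega)
  rw [additive_formula a (fun M' _ _ => Meet R M' N) (fun M' _ _ => IntMult.chi R M' N) ?_ ?_ ?_ M hMN hM]
  · refine finsum_congr fun p => finsum_congr fun hp => ?_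
    by_cases h0 : locLen p M = 0
    · rw [h0, zero_mul, zero_mul]
    · rw [key p ?_ a hp (by omega)]
      intro x hx hy
      refine hMN x ?_ hy
      rw [Module.support_eq_zeroLocus, Ideal.annihilator_quotient, PrimeSpectrum.mem_zeroLocus,
        SetLike.coe_subset_coe] at hx
      refine Module.mem_support_mono hx ?_
      rw [Module.mem_support_iff]
      by_contra hs
      rw [not_nontrivial_iff_subsingleton] at hs
      exact h0 (by simp [locLen, Module.length_eq_zero])
  · intro N₁ N₂ N₃ _ _ _ _ _ _ f g hf hg h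
    exact ⟨fun x hx hy => h x (Module.support_subset_of_injective f hf hx) hy,
      fun x hx hy => h x (Module.support_subset_of_surjective g hg hx) hy⟩
  · intro N₁ N₂ N₃ _ _ _ _ _ _ _ _ _ f g hf hg hfg h
    exact chi_add f g hf hg hfg N h
  · intro p hp h
    obtain ⟨a', ha', hle⟩ := hdim p a hp.le
    have hlt : a' < a := by rw [ha'] at hp; exact_mod_cast hp
    show IntMult.chi R (R ⧸ p.asIdeal) N = 0
    rw [key p h a' ha' (by omega)]
    refine finsum_eq_zero_of_forall_eq_zero fun q => ?_
    classical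
    rw [finsum_eq_if]
    split_ifs with hq
    swap
    · rfl
    by_cases h0 : locLen q N = 0
    · rw [h0, zero_mul]
    · rw [hvanish p q ?_ a' b ha' hq (by omega), mul_zero]
      intro x hx hy
      refine h x hx ?_
      rw [Module.support_eq_zeroLocus, Ideal.annihilator_quotient, PrimeSpectrum.mem_zeroLocus,
        SetLike.coe_subset_coe] at hy
      refine Module.mem_support_mono hy ?_
      rw [Module.mem_support_iff]
      by_contra hs
      rw [not_nontrivial_iff_subsingleton] at hs
      exact h0 (by simp [locLen, Module.length_eq_zero])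

end Groth.Agent.IntMultLib
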