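import Groth.Agent.IntMultLib.MultPt
import Mathlib

/-!
# `chi` of two modules over a stalk is the intersection product of their cycles
-/

set_option autoImplicit false
set_option linter.style.haveILetI false
set_option backward.isDefEq.respectTransparency.types false

universe u

open CategoryTheory CategoryTheory.Limits AlgebraicGeometry

namespace Groth.Agent.IntMultLib

variable {X : Scheme.{u}}

open Classical in
/-- The intersection product as a finite sum. -/
theorem interProd_eq_sum (δ : X → ℤ) (n : ℤ) (α β : X → ℤ) (x : X) (S T : Finset X)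
    (hS : ∀ ξ, ξ ⤳ x → α ξ ≠ 0 → ξ ∈ S) (hT : ∀ η, η ⤳ x → β η ≠ 0 → η ∈ T) :
    IntMult.interProd δ n α β x = ∑ ξ ∈ S, ∑ η ∈ T,
      if ξ ⤳ x ∧ η ⤳ x ∧ δ ξ + δ η - n = δ x then
        α ξ * β η * IntMult.mult (IntMult.ptIdeal ξ) (IntMult.ptIdeal η) x else 0 := by
  rw [IntMult.interProd, finsum_subtype_eq_finsum_cond
    (f := fun p : X × X => α p.1 * β p.2 * IntMult.mult (IntMult.ptIdeal p.1) (IntMult.ptIdeal p.2) x),
    ← Finset.sum_product']
  simp only [finsum_eq_if]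
  refine finsum_eq_sum_of_support_subset _ fun p hp => ?_
  simp only [Function.mem_support, ne_eq, ite_eq_right_iff, not_forall] at hp
  obtain ⟨⟨h1, h2, -⟩, h3⟩ := hp
  rw [Finset.coe_product]
  exact ⟨hS _ h1 fun h => h3 (by rw [h, zero_mul, zero_mul]), hT _ h2 fun h => h3 (by rw [h, mul_zero, zero_mul])⟩

theorem chi_eq_zero_of_subsingleton {R : Type u} [CommRing R] [IsRegularLocalRing R] (M N : Type u)
    [AddCommGroup M] [Module R M] [AddCommGroup N] [Module R N] [Module.Finite R N] [Subsingleton M] :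
    IntMult.chi R M N = 0 := by
  have h := chi_add (LinearMap.id : M →ₗ[R] M) LinearMap.id Function.injective_id Function.surjective_id
    (fun y => ⟨fun _ => ⟨y, rfl⟩, fun _ => Subsingleton.elim _ _⟩) N fun p hp => by
      rw [Module.support_eq_empty] at hp
      exact absurd hp (Set.notMem_empty p)
  linarith

theorem subsingleton_of_closedPoint_notMem {R : Type u} [CommRing R] [IsLocalRing R] {M : Type u}
    [AddCommGroup M] [Module R M] (h : IsLocalRing.closedPoint R ∉ Module.support R M) : Subsingleton M := by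
  rw [← not_nontrivial_iff_subsingleton]
  intro hn
  obtain ⟨p, hp⟩ := Module.nonempty_support_of_nontrivial (R := R) (M := M)
  exact h (Module.mem_support_mono (IsLocalRing.le_maximalIdeal p.2.ne_top) hp)

theorem primeOf_refl (x : X) : CDiv6.primeOf (specializes_refl x) = IsLocalRing.closedPoint (X.presheaf.stalk x) :=
  PrimeSpectrum.ext (H23.ZeroSec.primeOf_refl' x)

theorem mem_support_of_locLen_ne_zero {R : Type u} [CommRing R] [IsLocalRing R] [IsNoetherianRing R]
    {p : PrimeSpectrum R} {M : Type u}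
    [AddCommGroup M] [Module R M] (h : locLen p M ≠ 0) : p ∈ Module.support R M := by
  rw [Module.mem_support_iff]
  by_contra hs
  rw [not_nontrivial_iff_subsingleton] at hs
  exact h (by simp [locLen, Module.length_eq_zero])

variable {K : Type u} [Field K] (f : X ⟶ Spec (CommRingCat.of K)) {δ : X → ℤ}

theorem isNoetherianRing_stalk [LocallyOfFiniteType f] (x : X) : IsNoetherianRing (X.presheaf.stalk x) := by
  haveI := LocallyOfFiniteType.isLocallyNoetherian f
  infer_instance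

/-- Finitely many points of maximal dimension in a support. -/
theorem exists_finset_top [LocallyOfFiniteType f] (hδ : Cyc.DeltaCompat f δ (fun _ => 0)) {x : X} {r : ℤ}
    (M : Type u) [AddCommGroup M] [Module (X.presheaf.stalk x) M] [Module.Finite (X.presheaf.stalk x) M]
    (hr : ∀ ξ (hξ : ξ ⤳ x), CDiv6.primeOf hξ ∈ Module.support (X.presheaf.stalk x) M → δ ξ ≤ r) :
    ∃ T : Finset {ξ : X // ξ ⤳ x}, ∀ ξ : {ξ : X // ξ ⤳ x},
      δ ξ.1 = r → CDiv6.primeOf ξ.2 ∈ Module.support (X.presheaf.stalk x) M → ξ ∈ T := by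
  haveI := isNoetherianRing_stalk f x
  let S : Set {ξ : X // ξ ⤳ x} :=
    {ξ | δ ξ.1 = r ∧ CDiv6.primeOf ξ.2 ∈ Module.support (X.presheaf.stalk x) M}
  have hfin : S.Finite := by
    refine Set.Finite.of_finite_image (f := fun ξ : {ξ : X // ξ ⤳ x} => (CDiv6.primeOf ξ.2).asIdeal)
      (((Module.annihilator (X.presheaf.stalk x) M).finite_minimalPrimes_of_isNoetherianRing).subset ?_)
      fun a _ b _ h => Subtype.ext (H23.StalkPrimes.primeOf_inj a.2 b.2 h)
    rintro _ ⟨⟨ξ, hξ⟩, ⟨hd, hs⟩, rfl⟩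
    rw [Module.support_eq_zeroLocus] at hs
    refine ⟨⟨(CDiv6.primeOf hξ).2, hs⟩, fun q hq hle => ?_⟩
    haveI := hq.1
    obtain ⟨w, hw, rfl⟩ := H23.StalkPrimes.exists_point q
    have hwξ := (H23.StalkPrimes.primeOf_le_iff hξ hw).1 hle
    obtain rfl : w = ξ := eq_of_specializes_of_delta_le f hδ hwξ
      (hd ▸ hr w hw (by rw [Module.support_eq_zeroLocus]; exact hq.2))
    exact le_rfl
  exact ⟨hfin.toFinset, fun ξ h1 h2 => hfin.mem_toFinset.2 ⟨h1, h2⟩⟩

open Classical in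
theorem finsum_primes_eq_sum [LocallyOfFiniteType f] (hδ : Cyc.DeltaCompat f δ (fun _ => 0)) {x : X} {r : ℤ} {a : ℕ}
    (ha : δ x + a = r) (M : Type u) [AddCommGroup M] [Module (X.presheaf.stalk x) M]
    [IsNoetherianRing (X.presheaf.stalk x)] (T : Finset {ξ : X // ξ ⤳ x})
    (hT : ∀ ξ : {ξ : X // ξ ⤳ x}, δ ξ.1 = r → CDiv6.primeOf ξ.2 ∈ Module.support (X.presheaf.stalk x) M → ξ ∈ T)
    (φ : PrimeSpectrum (X.presheaf.stalk x) → ℤ) :
    (∑ᶠ (p : PrimeSpectrum (X.presheaf.stalk x)) (_ : ringKrullDim (X.presheaf.stalk x ⧸ p.asIdeal) = a),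
      locLen p M * φ p) =
      ∑ ξ ∈ T, (if δ ξ.1 = r then locLen (CDiv6.primeOf ξ.2) M else 0) * φ (CDiv6.primeOf ξ.2) := by
  have key : ∀ ξ : {ξ : X // ξ ⤳ x},
      ringKrullDim (X.presheaf.stalk x ⧸ (CDiv6.primeOf ξ.2).asIdeal) = a ↔ δ ξ.1 = r := fun ξ => by
    obtain ⟨a', ha', he⟩ := exists_dim_quot_primeOf f hδ ξ.2
    rw [ha']
    constructor
    · intro h
      have : a' = a := by exact_mod_cast h
      omega
    · intro h
      exact_mod_cast (show a' = a by omega)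
  simp only [finsum_eq_if]
  rw [← finsum_comp_equiv (genEquiv x)]
  rw [finsum_eq_sum_of_support_subset (s := T)]
  · refine Finset.sum_congr rfl fun ξ _ => ?_
    show (if ringKrullDim (X.presheaf.stalk x ⧸ (CDiv6.primeOf ξ.2).asIdeal) = a then
      locLen (CDiv6.primeOf ξ.2) M * φ (CDiv6.primeOf ξ.2) else 0) = _
    simp only [key]
    split_ifs <;> simp
  · intro ξ hξ
    simp only [Function.mem_support, ne_eq, ite_eq_right_iff, not_forall] at hξ
    obtain ⟨h1, h2⟩ := hξ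
    exact hT ξ ((key ξ).1 h1) (mem_support_of_locLen_ne_zero fun h => h2 (mul_eq_zero_of_left h _))

variable [Smooth f] [IsSeparated f] [QuasiCompact f] [IsIntegral X]

open Classical in
/-- `chi` of two finite modules over a stalk is the intersection product of their cycles. -/
theorem chi_stalk_eq_interProd (hδ : Cyc.DeltaCompat f δ (fun _ => 0)) {n : ℤ} (hn : δ (genericPoint X) = n)
    {x : X} (M N : Type u) [AddCommGroup M] [Module (X.presheaf.stalk x) M] [Module.Finite (X.presheaf.stalk x) M]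
    [AddCommGroup N] [Module (X.presheaf.stalk x) N] [Module.Finite (X.presheaf.stalk x) N] {r s : ℤ}
    (hx : δ x = r + s - n)
    (hr : ∀ ξ (hξ : ξ ⤳ x), CDiv6.primeOf hξ ∈ Module.support (X.presheaf.stalk x) M → δ ξ ≤ r)
    (hs : ∀ ξ (hξ : ξ ⤳ x), CDiv6.primeOf hξ ∈ Module.support (X.presheaf.stalk x) N → δ ξ ≤ s)
    (hMN : Meet (X.presheaf.stalk x) M N) (α β : X → ℤ)
    (hα : ∀ ξ (hξ : ξ ⤳ x), α ξ = if δ ξ = r then locLen (CDiv6.primeOf hξ) M else 0)
    (hβ : ∀ ξ (hξ : ξ ⤳ x), β ξ = if δ ξ = s then locLen (CDiv6.primeOf hξ) N else 0) :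
    IntMult.interProd δ n α β x = IntMult.chi (X.presheaf.stalk x) M N := by
  haveI := isRegularLocalRing_stalk f x
  have hzero : ∀ (P : Type u) [AddCommGroup P] [Module (X.presheaf.stalk x) P] (t : ℤ) (γ : X → ℤ), t < δ x →
      (∀ ξ (hξ : ξ ⤳ x), CDiv6.primeOf hξ ∈ Module.support (X.presheaf.stalk x) P → δ ξ ≤ t) →
      (∀ ξ (hξ : ξ ⤳ x), γ ξ = if δ ξ = t then locLen (CDiv6.primeOf hξ) P else 0) →
      Subsingleton P ∧ ∀ ξ, ξ ⤳ x → γ ξ = 0 := by
    intro P _ _ t γ ht hP hγ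
    refine ⟨subsingleton_of_closedPoint_notMem (R := X.presheaf.stalk x) fun h => ?_, fun ξ hξ => ?_⟩
    · have := hP x (specializes_refl x) (primeOf_refl x ▸ h)
      omega
    · rw [hγ ξ hξ, if_neg]
      have := delta_le_of_specializes f hδ hξ
      omega
  rcases lt_or_ge r (δ x) with hrx | hrx
  · obtain ⟨hsub, h0⟩ := hzero M r α hrx hr hα
    rw [chi_eq_zero_of_subsingleton, interProd_eq_sum δ n α β x ∅ ∅ (fun ξ h h' => absurd (h0 ξ h) h')]
    · simp
    · intro η h hη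
      exfalso
      have h1 : δ η = s := by
        by_contra hne
        exact hη (by rw [hβ η h, if_neg hne])
      obtain ⟨d, -, hd⟩ := exists_dim_stalk_delta f hδ hn η
      omega
  rcases lt_or_ge s (δ x) with hsx | hsx
  · obtain ⟨hsub, h0⟩ := hzero N s β hsx hs hβ
    rw [chi_symm, chi_eq_zero_of_subsingleton, interProd_eq_sum δ n α β x ∅ ∅ _ (fun ξ h h' => absurd (h0 ξ h) h')]
    · simp
    · intro η h hη
      exfalso
      have h1 : δ η = r := by
        by_contra hne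
        exact hη (by rw [hα η h, if_neg hne])
      obtain ⟨d, -, hd⟩ := exists_dim_stalk_delta f hδ hn η
      omega
  obtain ⟨a, ha⟩ : ∃ a : ℕ, δ x + a = r := ⟨(r - δ x).toNat, by omega⟩
  obtain ⟨b, hb⟩ : ∃ b : ℕ, δ x + b = s := ⟨(s - δ x).toNat, by omega⟩
  obtain ⟨d, -, hd⟩ := exists_dim_stalk_delta f hδ hn x
  obtain ⟨TA, hTA⟩ := exists_finset_top f hδ M hr
  obtain ⟨TB, hTB⟩ := exists_finset_top f hδ N hs
  have hloc : ∀ (P : Type u) [AddCommGroup P] [Module (X.presheaf.stalk x) P] (t : ℤ) (γ : X → ℤ)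
      (_ : ∀ ξ (hξ : ξ ⤳ x), γ ξ = if δ ξ = t then locLen (CDiv6.primeOf hξ) P else 0)
      (T : Finset {ξ : X // ξ ⤳ x})
      (_ : ∀ ξ : {ξ : X // ξ ⤳ x}, δ ξ.1 = t → CDiv6.primeOf ξ.2 ∈ Module.support (X.presheaf.stalk x) P → ξ ∈ T)
      (ξ : X), ξ ⤳ x → γ ξ ≠ 0 → ξ ∈ T.map (Function.Embedding.subtype _) := by
    intro P _ _ t γ hγ T hT ξ hξ h
    rw [hγ ξ hξ] at h
    simp only [ne_eq, ite_eq_right_iff, not_forall] at h
    obtain ⟨h1, h2⟩ := h
    exact Finset.mem_map.2 ⟨⟨ξ, hξ⟩, hT ⟨ξ, hξ⟩ h1 (mem_support_of_locLen_ne_zero h2), rfl⟩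
  rw [interProd_eq_sum δ n α β x _ _ (hloc M r α hα TA hTA) (hloc N s β hβ TB hTB),
    chi_formula (d := d) (a := a) (b := b) (by omega)
      (fun p q h a' b' h1 h2 h3 => chi_vanish_stalk f hδ x (by omega) p q h a' b' h1 h2 h3) M N
      (supportDim_le_of_delta f hδ x M fun ξ hξ h => by have := hr ξ hξ h; omega)
      (supportDim_le_of_delta f hδ x N fun ξ hξ h => by have := hs ξ hξ h; omega) hMN,
    finsum_primes_eq_sum f hδ ha M TA hTA, Finset.sum_map]
  refine Finset.sum_congr rfl fun ξ _ => ?_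
  rw [finsum_primes_eq_sum f hδ hb N TB hTB, Finset.sum_map, Finset.mul_sum]
  refine Finset.sum_congr rfl fun η _ => ?_
  simp only [Function.Embedding.coe_subtype]
  rw [hα ξ.1 ξ.2, hβ η.1 η.2, mult_ptIdeal ξ.2 η.2]
  by_cases h : δ ξ.1 = r ∧ δ η.1 = s
  · rw [if_pos ⟨ξ.2, η.2, by omega⟩, if_pos h.1, if_pos h.2]
    ring
  · rcases not_and_or.1 h with h1 | h1 <;> simp [h1]

end Groth.Agent.IntMultLib
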