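import Groth.Agent.QCoh.PullbackBC
import Groth.Agent.QCoh.Pullback
import Groth.Agent.QCoh.Stalk
import Groth.Agent.QCoh.FT

/-!
# Coherence of pullbacks, without the cohomological imports of `ZClosLib.CohDescent`
-/

set_option backward.isDefEq.respectTransparency false
set_option backward.isDefEq.respectTransparency.types false
set_option linter.style.haveILetI false

universe u

open CategoryTheory CategoryTheory.Limits AlgebraicGeometry TopologicalSpace Opposite
open scoped TensorProduct

namespace Groth.Agent.IntMultLib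

variable {X X' : Scheme.{u}} (f : X' ⟶ X)

theorem isCoh_pullback {M : X.Modules} (hM : Coh.IsCoh M) : Coh.IsCoh ((Scheme.Modules.pullback f).obj M) := by
  let N := (Scheme.Modules.pullback f).obj M
  refine ⟨QCoh.isQCoh_pullback f hM.1, ?_⟩
  choose V hV hxV hle using fun x : X' => exists_isAffineOpen_mem_and_subset (x := f x) (U := ⊤) trivial
  choose W hW hxW hWle using fun x : X' => exists_isAffineOpen_mem_and_subset (x := x) (U := f ⁻¹ᵁ V x) (hxV x)
  refine QCoh.isFT_of_finite (QCoh.isQCoh_pullback f hM.1) W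
    (top_unique fun x _ => Opens.mem_iSup.2 ⟨x, hxW x⟩) hW fun x => ?_
  have hWV : W x ≤ f ⁻¹ᵁ V x := hWle x
  letI : Algebra Γ(X, V x) Γ(X', W x) := (f.appLE (V x) (W x) hWV).hom.toAlgebra
  letI : Module Γ(X, V x) Γ(N, W x) := Module.compHom _ (f.appLE (V x) (W x) hWV).hom
  haveI : IsScalarTower Γ(X, V x) Γ(X', W x) Γ(N, W x) := .of_algebraMap_smul fun _ _ => rfl
  haveI := QCoh.finite_of_isFT hM.1 hM.2 (hV x)
  let l : Γ(M, V x) →ₗ[Γ(X, V x)] Γ(N, W x) :=
    { toFun := QCoh.pullSec f M hWV
      map_add' := QCoh.pullSec_add f M hWV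
      map_smul' := fun r m => QCoh.pullSec_smul f M hWV r m }
  exact Module.Finite.equiv (QCoh.isBaseChange_pullback (hV x) f (hW x) hM.1 hWV (fun _ => rfl) l fun _ => rfl).equiv

end Groth.Agent.IntMultLib
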