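import Groth.Agent.IntMultLib.RegImm
import Groth.Agent.DimFormula.Stalk
import Mathlib

/-!
# The regular diagonal of a smooth variety and the dimension bound for intersections
-/

set_option autoImplicit false
set_option linter.style.haveILetI false
set_option backward.isDefEq.respectTransparency.types false

universe u

open CategoryTheory CategoryTheory.Limits AlgebraicGeometry RingTheory.Sequence

namespace Groth.Agent.IntMultLib

variable {k : Type u} [Field k] {X : Scheme.{u}} (f : X ⟶ Spec (CommRingCat.of k))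

/-- All maximal points of `X ×_k X` have dimension `2 n`. -/
theorem exists_dim_stalk_diagonal [LocallyOfFiniteType f] [IsIntegral X] {n : ℕ}
    (hn : VarDim.deg f (genericPoint X) = n) (w : ↥(pullback f f)) :
    ∃ b : ℕ, ringKrullDim ((pullback f f).presheaf.stalk w) = b ∧
      VarDim.deg (pullback.fst f f ≫ f) w + b = n + n :=
  exists_dim_stalk (pullback.fst f f ≫ f) w fun η _ hη => by
    rw [deg_maximal_pullback f f η hη, hn]

/-- The diagonal of a smooth variety of dimension `n` is regular of codimension `n`. -/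
theorem diagonal_regular [Smooth f] [IsSeparated f] [IsIntegral X] {n : ℕ}
    (hn : VarDim.deg f (genericPoint X) = n) :
    RegImm.IsRegularImmersionOfCodim RegImm.Kind.regular n (pullback.diagonal f) := by
  haveI : Smooth (pullback.fst f f ≫ f) := inferInstance
  haveI : IsLocallyNoetherian (pullback f f) := LocallyOfFiniteType.isLocallyNoetherian (pullback.fst f f ≫ f)
  refine isRegularImmersionOfCodim_of_regular (pullback.diagonal f)
    (isRegularLocalRing_stalk (pullback.fst f f ≫ f)) (isRegularLocalRing_stalk f) n fun z => ?_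
  obtain ⟨b, hb, hbd⟩ := exists_dim_stalk_of_isIntegral f z
  obtain ⟨b', hb', hbd'⟩ := exists_dim_stalk_diagonal f hn (pullback.diagonal f z)
  refine ⟨b, hb, hb'.trans ?_⟩
  have hdeg : VarDim.deg (pullback.fst f f ≫ f) (pullback.diagonal f z) = VarDim.deg f z := by
    rw [← deg_immersion (pullback.fst f f ≫ f) (pullback.diagonal f) z]
    exact congrArg (fun q => VarDim.deg q z) (by rw [pullback.diagonal_fst_assoc])
  rw [hdeg] at hbd'
  rw [hn] at hbd
  exact_mod_cast congrArg (Nat.cast : ℕ → WithBot ℕ∞) (show b' = b + n by omega)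

/-- At a maximal point of the inverse image of `Z` under a regular immersion of codimension `c` the local
ring of `Z` has dimension at most `c`. -/
theorem dim_stalk_le_of_regularImmersion {Y W Z : Scheme.{u}} (i : W ⟶ Y) (c : ℕ)
    (h : RegImm.IsRegularImmersionOfCodim RegImm.Kind.regular c i) (ι : Z ⟶ Y) [IsClosedImmersion ι]
    [IsLocallyNoetherian Z] (t : ↥(pullback i ι)) (ht : ∀ t', t' ⤳ t → t' = t) :
    ringKrullDim (Z.presheaf.stalk (pullback.snd i ι t)) ≤ (c : WithBot ℕ∞) := by
  haveI := h.1
  set z := pullback.snd i ι t with hz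
  set w := pullback.fst i ι t with hw
  obtain ⟨U, hwU, hci, rs, hlen, -, hker⟩ := h.2 w
  have hiz : ι z = i w := by
    rw [hz, hw, ← Scheme.Hom.comp_apply, ← Scheme.Hom.comp_apply, pullback.condition]
  let ψ : Y.presheaf.stalk (i w) →+* Z.presheaf.stalk z :=
    ((Y.presheaf.stalkSpecializes (specializes_of_eq hiz)) ≫ ι.stalkMap z).hom
  let gs : List (Z.presheaf.stalk z) := rs.map fun a => ψ (Y.presheaf.germ U.1 (i w) hwU a)
  have hmem : ∀ q : PrimeSpectrum (Z.presheaf.stalk z), Ideal.ofList gs ≤ q.asIdeal →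
      q.asIdeal = IsLocalRing.maximalIdeal (Z.presheaf.stalk z) := by
    intro q hq
    haveI := hci
    have hsurj : Function.Surjective (i.stalkMap w).hom := i.stalkMap_surjective w
    let P : PrimeSpectrum (Y.presheaf.stalk (i w)) := PrimeSpectrum.comap ψ q
    have hkP : RingHom.ker (i.stalkMap w).hom ≤ P.asIdeal := by
      rw [ker_stalkMap_eq_map i U.2 w hwU, hker, Ideal.map_ofList, Ideal.span_le]
      intro a ha
      obtain ⟨a', ha', rfl⟩ := List.mem_map.1 ha
      exact hq (Ideal.subset_span (List.mem_map.2 ⟨a', ha', rfl⟩))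
    obtain ⟨Q, hQ⟩ : ∃ Q : PrimeSpectrum (W.presheaf.stalk w), PrimeSpectrum.comap (i.stalkMap w).hom Q = P := by
      refine ⟨⟨P.asIdeal.map (i.stalkMap w).hom, Ideal.map_isPrime_of_surjective hsurj hkP⟩, PrimeSpectrum.ext ?_⟩
      rw [PrimeSpectrum.comap_asIdeal, Ideal.comap_map_of_surjective _ hsurj]
      exact sup_eq_left.2 hkP
    let z' : Z := Z.fromSpecStalk z q
    let w' : W := W.fromSpecStalk w Q
    have h1 : ι z' = Y.fromSpecStalk (ι z) (PrimeSpectrum.comap (ι.stalkMap z).hom q) := by
      show (Z.fromSpecStalk z ≫ ι) q = _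
      rw [← Scheme.SpecMap_stalkMap_fromSpecStalk]
      rfl
    have h2 : i w' = Y.fromSpecStalk (i w) P := by
      show (W.fromSpecStalk w ≫ i) Q = _
      rw [← Scheme.SpecMap_stalkMap_fromSpecStalk, ← hQ]
      rfl
    have h3 : Y.fromSpecStalk (ι z) (PrimeSpectrum.comap (ι.stalkMap z).hom q) = Y.fromSpecStalk (i w) P := by
      show _ = Y.fromSpecStalk (i w) (PrimeSpectrum.comap
        ((Y.presheaf.stalkSpecializes (specializes_of_eq hiz)) ≫ ι.stalkMap z).hom q)
      rw [← Scheme.SpecMap_stalkSpecializes_fromSpecStalk (specializes_of_eq hiz)]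
      rfl
    have hzz : z' ⤳ z := DimFormula.fromSpecStalk_specializes z q
    obtain ⟨t', ht'1, ht'2⟩ := Scheme.Pullback.exists_preimage_pullback w' z' (by rw [h2, ← h3, ← h1])
    have htt : t' ⤳ t := (pullback.snd i ι).isEmbedding.isInducing.specializes_iff.1 (by rw [ht'2]; exact hzz)
    have hzeq : z' = z := by rw [← ht'2, ht t' htt]
    have := (Z.fromSpecStalk z).isEmbedding.injective (hzeq.trans Scheme.fromSpecStalk_closedPoint.symm)
    exact congrArg PrimeSpectrum.asIdeal this
  have hle : (IsLocalRing.maximalIdeal (Z.presheaf.stalk z)).height ≤ c := by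
    by_cases htop : Ideal.ofList gs = ⊤
    · exfalso
      have hmem' : ∀ a ∈ gs, a ∈ IsLocalRing.maximalIdeal (Z.presheaf.stalk z) := by
        intro a ha
        obtain ⟨a', ha', rfl⟩ := List.mem_map.1 ha
        have h0 : (Y.presheaf.germ U.1 (i w) hwU a') ∈ RingHom.ker (i.stalkMap w).hom := by
          rw [ker_stalkMap_eq_map i U.2 w hwU, hker]
          exact Ideal.mem_map_of_mem _ (Ideal.subset_span ha')
        have h1 : (Y.presheaf.germ U.1 (i w) hwU a') ∈ IsLocalRing.maximalIdeal _ :=
          IsLocalRing.le_maximalIdeal (RingHom.ker_ne_top _) h0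
        haveI : IsLocalHom ψ := by
          show IsLocalHom ((ι.stalkMap z).hom.comp (Y.presheaf.stalkSpecializes (specializes_of_eq hiz)).hom)
          haveI : IsLocalHom (Y.presheaf.stalkSpecializes (specializes_of_eq hiz)).hom :=
            isLocalHom_of_isIso (Y.presheaf.stalkCongr (.of_eq hiz)).inv
          exact RingHom.isLocalHom_comp _ _
        exact map_nonunit ψ _ h1
      exact (IsLocalRing.maximalIdeal.isMaximal (Z.presheaf.stalk z)).ne_top
        (top_le_iff.1 (htop ▸ Ideal.span_le.2 hmem'))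
    · have hmin : IsLocalRing.maximalIdeal (Z.presheaf.stalk z) ∈ (Ideal.ofList gs).minimalPrimes := by
        obtain ⟨P, hP⟩ := Ideal.nonempty_minimalPrimes htop
        rw [← hmem ⟨P, hP.1.1⟩ hP.1.2]
        exact hP
      refine (Ideal.height_le_card_of_mem_minimalPrimes_span (List.finite_toSet gs) hmin).trans ?_
      refine Nat.cast_le.2 ?_
      classical
      refine le_trans ?_ (le_of_eq (show gs.length = c by simp [gs, hlen]))
      rw [show {x | x ∈ gs} = (gs.toFinset : Set _) by ext; simp, Set.ncard_coe_finset]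
      exact List.toFinset_card_le gs
  rw [← IsLocalRing.maximalIdeal_height_eq_ringKrullDim]
  exact_mod_cast hle

/-- The dimension inequality for a regular immersion. -/
theorem le_deg_add_of_regularImmersion {Y W Z : Scheme.{u}} (i : W ⟶ Y) (c : ℕ)
    (h : RegImm.IsRegularImmersionOfCodim RegImm.Kind.regular c i) (ι : Z ⟶ Y) [IsClosedImmersion ι]
    (q : Y ⟶ Spec (CommRingCat.of k)) [LocallyOfFiniteType q]
    (t : ↥(pullback i ι)) (ht : ∀ t', t' ⤳ t → t' = t) {D : ℕ}
    (hD : ∀ η : Z, (∀ y, y ⤳ η → y = η) → D ≤ VarDim.deg (ι ≫ q) η) :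
    D ≤ VarDim.deg (pullback.snd i ι ≫ ι ≫ q) t + c := by
  haveI := h.1
  haveI : IsLocallyNoetherian Z := LocallyOfFiniteType.isLocallyNoetherian (ι ≫ q)
  have hb := dim_stalk_le_of_regularImmersion i c h ι t ht
  obtain ⟨b, hb', -, hmax⟩ := VarDim.exists_deg_add_stalk (ι ≫ q) (pullback.snd i ι t)
  rw [hb'] at hb
  obtain ⟨η, hη, hηmax⟩ := VarDim.exists_maximal_generalization (ι ≫ q) (pullback.snd i ι t)
  have h1 := (hD η hηmax).trans (hmax η hη)
  rw [deg_immersion (ι ≫ q) (pullback.snd i ι) t]
  have : b ≤ c := by exact_mod_cast hb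
  omega

end Groth.Agent.IntMultLib
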