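import Groth.Agent.IntMultLib.DiagTor
import Groth.Agent.IntMultLib.ProductKer
import Groth.Agent.HTopCov.AlmostBlowUp
import Mathlib

/-!
# Reduction to the diagonal for multiplicities
-/

set_option autoImplicit false
set_option linter.style.haveILetI false
set_option backward.isDefEq.respectTransparency.types false

universe u

open CategoryTheory CategoryTheory.Limits AlgebraicGeometry TensorProduct

namespace Groth.Agent.IntMultLib

theorem flat_includeRight (k A : Type u) [Field k] [CommRing A] [Algebra k A] :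
    (Algebra.TensorProduct.includeRight (R := k) (A := A) (B := A)).toRingHom.Flat := by
  have h : (algebraMap A (A ⊗[k] A)).Flat := RingHom.flat_algebraMap_iff.2 inferInstance
  have := h.comp (RingHom.Flat.of_bijective (f := (Algebra.TensorProduct.comm k A A : A ⊗[k] A →+* A ⊗[k] A))
    (Algebra.TensorProduct.comm k A A).bijective)
  convert this using 1
  ext a
  simp

theorem flat_quot_includeRight (k A : Type u) [Field k] [CommRing A] [Algebra k A] (I : Ideal A) :
    Module.Flat A ((A ⊗[k] A) ⧸ I.map (Algebra.TensorProduct.includeRight (R := k) (A := A)).toRingHom) := by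
  let φ : A ⊗[k] A →ₐ[A] A ⊗[k] (A ⧸ I) :=
    Algebra.TensorProduct.map (AlgHom.id A A) (Ideal.Quotient.mkₐ k I)
  have hφ : Function.Surjective φ :=
    LinearMap.lTensor_surjective A (g := (Ideal.Quotient.mkₐ k I).toLinearMap) Ideal.Quotient.mk_surjective
  have hker : RingHom.ker φ = I.map (Algebra.TensorProduct.includeRight (R := k) (A := A)).toRingHom := by
    have h := Algebra.TensorProduct.lTensor_ker (A := A) (Ideal.Quotient.mkₐ k I) Ideal.Quotient.mk_surjective
    rw [show RingHom.ker (Ideal.Quotient.mkₐ k I) = I from Ideal.Quotient.mkₐ_ker k I] at h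
    exact h
  exact Module.Flat.of_linearEquiv
    ((Ideal.quotientEquivAlgOfEq A hker.symm).toLinearEquiv ≪≫ₗ
      (Ideal.quotientKerAlgEquivOfSurjective hφ).toLinearEquiv)

theorem appLE_congr' {X Y : Scheme.{u}} {f g : X ⟶ Y} (h : f = g) (U : Y.Opens) (V : X.Opens) (e) :
    f.appLE U V e = g.appLE U V (h ▸ e) := by subst h; rfl

set_option maxHeartbeats 1000000 in
/-- The `Tor` modules at a point of the diagonal. -/
theorem length_tor_diag_scheme {k : Type u} [Field k] {X : Scheme.{u}} (f : X ⟶ Spec (CommRingCat.of k))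
    [IsSeparated f] (IV IW : X.IdealSheafData) (ξ : X) (n : ℕ) :
    Module.length ((pullback f f).presheaf.stalk (pullback.diagonal f ξ))
      (DRing.Tor ((pullback f f).presheaf.stalk (pullback.diagonal f ξ)) n
        (↑((pullback f f).presheaf.stalk (pullback.diagonal f ξ)) ⧸ IntMult.stalkIdeal (pullback.map
          (IV.subschemeι ≫ f) (IW.subschemeι ≫ f) f f IV.subschemeι
          IW.subschemeι (𝟙 _) (Category.comp_id _) (Category.comp_id _)).ker (pullback.diagonal f ξ))
        (↑((pullback f f).presheaf.stalk (pullback.diagonal f ξ)) ⧸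
          IntMult.stalkIdeal (pullback.diagonal f).ker (pullback.diagonal f ξ))) =
      Module.length (X.presheaf.stalk ξ) (DRing.Tor (X.presheaf.stalk ξ) n
        (↑(X.presheaf.stalk ξ) ⧸ IntMult.stalkIdeal IV ξ) (↑(X.presheaf.stalk ξ) ⧸ IntMult.stalkIdeal IW ξ)) := by
  obtain ⟨_, ⟨U, hU, rfl⟩, hxU, -⟩ :=
    X.isBasis_affineOpens.exists_subset_of_mem_open (Set.mem_univ ξ) isOpen_univ
  replace hU : IsAffineOpen U := hU
  let P := pullback f f
  let d := pullback.diagonal f
  let A : Type u := Γ(X, U)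
  letI algA : Algebra k A := (Spec.preimage (hU.fromSpec ≫ f)).hom.toAlgebra
  have hκ : Spec.map (CommRingCat.ofHom (algebraMap k A)) = hU.fromSpec ≫ f := Spec.map_preimage _
  let sA := Spec.map (CommRingCat.ofHom (algebraMap k A))
  let jU : pullback sA sA ⟶ P :=
    pullback.map sA sA f f hU.fromSpec hU.fromSpec (𝟙 _) (by simp [sA, hκ]) (by simp [sA, hκ])
  haveI : IsOpenImmersion hU.fromSpec := inferInstance
  haveI : IsOpenImmersion jU :=
    MorphismProperty.pullback_map (P := @IsOpenImmersion.{u}) inferInstance inferInstance hκ hκ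
  let j : Spec (CommRingCat.of (A ⊗[k] A)) ⟶ P := (pullbackSpecIso k A A).inv ≫ jU
  let il : CommRingCat.of A ⟶ CommRingCat.of (A ⊗[k] A) :=
    CommRingCat.ofHom (Algebra.TensorProduct.includeLeftRingHom : A →+* A ⊗[k] A)
  let ir : CommRingCat.of A ⟶ CommRingCat.of (A ⊗[k] A) :=
    CommRingCat.ofHom (Algebra.TensorProduct.includeRight (R := k) (A := A) (B := A)).toRingHom
  have hj1 : j ≫ pullback.fst f f = Spec.map il ≫ hU.fromSpec := by
    simp only [j, jU, pullback.map, Category.assoc, pullback.lift_fst]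
    rw [← Category.assoc]
    congr 1
    exact pullbackSpecIso_inv_fst k A A
  have hj2 : j ≫ pullback.snd f f = Spec.map ir ≫ hU.fromSpec := by
    simp only [j, jU, pullback.map, Category.assoc, pullback.lift_snd]
    rw [← Category.assoc]
    congr 1
    exact pullbackSpecIso_inv_snd k A A
  let V : P.Opens := j.opensRange
  have hV : IsAffineOpen V := isAffineOpen_opensRange j
  have hV1 : V ≤ pullback.fst f f ⁻¹ᵁ U := by
    rintro _ ⟨q, rfl⟩
    show (j ≫ pullback.fst f f) q ∈ U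
    rw [hj1]
    exact Set.ext_iff.1 hU.range_fromSpec _ |>.1 ⟨Spec.map il q, rfl⟩
  have hV2 : V ≤ pullback.snd f f ⁻¹ᵁ U := by
    rintro _ ⟨q, rfl⟩
    show (j ≫ pullback.snd f f) q ∈ U
    rw [hj2]
    exact Set.ext_iff.1 hU.range_fromSpec _ |>.1 ⟨Spec.map ir q, rfl⟩
  have htopV : ⊤ ≤ j ⁻¹ᵁ V := fun q _ => ⟨q, rfl⟩
  have happ : IsIso (j.appLE V ⊤ htopV) := by
    have : ∀ (W : P.Opens) (hW : W = j ''ᵁ ⊤) (hle : ⊤ ≤ j ⁻¹ᵁ W), IsIso (j.appLE W ⊤ hle) := by
      rintro _ rfl hle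
      rw [← Scheme.Hom.appIso_hom']
      infer_instance
    exact this V j.image_top_eq_opensRange.symm _
  let ψ : Γ(P, V) ⟶ CommRingCat.of (A ⊗[k] A) :=
    j.appLE V ⊤ htopV ≫ (Scheme.ΓSpecIso (CommRingCat.of (A ⊗[k] A))).hom
  haveI : IsIso ψ := inferInstance
  have hfrom : ∀ e, hU.fromSpec.appLE U ⊤ e = (Scheme.ΓSpecIso (CommRingCat.of A)).inv := fun e => by
    rw [Scheme.Hom.appLE, hU.fromSpec_app_self, Category.assoc, ← Functor.map_comp]
    refine (congrArg (fun t => (Scheme.ΓSpecIso Γ(X, U)).inv ≫ t) ?_).trans (Category.comp_id _)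
    exact (congrArg (Spec Γ(X, U)).presheaf.map (Subsingleton.elim _ (𝟙 _))).trans (CategoryTheory.Functor.map_id _ _)
  have hψ : ∀ (p : P ⟶ X) (hVp : V ≤ p ⁻¹ᵁ U) (i : CommRingCat.of A ⟶ CommRingCat.of (A ⊗[k] A)),
      j ≫ p = Spec.map i ≫ hU.fromSpec → p.appLE U V hVp ≫ ψ = i := by
    intro p hVp i hp
    have hle : ⊤ ≤ (j ≫ p) ⁻¹ᵁ U := fun q _ => hVp (htopV (TopologicalSpace.Opens.mem_top q))
    simp only [ψ, ← Category.assoc, Scheme.Hom.appLE_comp_appLE]
    rw [appLE_congr' hp U ⊤ hle]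
    have hU' : ⊤ ≤ hU.fromSpec ⁻¹ᵁ U := hU.fromSpec_preimage_self.ge
    rw [← Scheme.Hom.appLE_comp_appLE (Spec.map i) hU.fromSpec U ⊤ ⊤ hU' (by simp), hfrom]
    have hh : ∀ e, (Spec.map i).appLE ⊤ ⊤ e = (Spec.map i).appTop := fun e =>
      (Scheme.Hom.app_eq_appLE (Spec.map i) (U := ⊤)).symm
    erw [hh, ← Scheme.ΓSpecIso_inv_naturality i]
    rw [Category.assoc,
      Iso.inv_hom_id, Category.comp_id]
  have h1 : il ≫ inv ψ = (pullback.fst f f).appLE U V hV1 := by rw [IsIso.comp_inv_eq, hψ _ hV1 il hj1]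
  have h2 : ir ≫ inv ψ = (pullback.snd f f).appLE U V hV2 := by rw [IsIso.comp_inv_eq, hψ _ hV2 ir hj2]
  have hdV : d ξ ∈ V := by
    let μ : CommRingCat.of (A ⊗[k] A) ⟶ CommRingCat.of A :=
      CommRingCat.ofHom (Algebra.TensorProduct.lmul' k).toRingHom
    have hμ1 : il ≫ μ = 𝟙 _ := CommRingCat.hom_ext (RingHom.ext fun a => by simp [il, μ])
    have hμ2 : ir ≫ μ = 𝟙 _ := CommRingCat.hom_ext (RingHom.ext fun a => by simp [ir, μ])
    have hdj : hU.fromSpec ≫ d = Spec.map μ ≫ j := by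
      refine pullback.hom_ext ?_ ?_
      · rw [Category.assoc, Category.assoc, pullback.diagonal_fst, hj1, ← Category.assoc, ← Spec.map_comp, hμ1]
        simp only [Spec.map_id]
        exact (Category.id_comp _).symm
      · rw [Category.assoc, Category.assoc, pullback.diagonal_snd, hj2, ← Category.assoc, ← Spec.map_comp, hμ2]
        simp only [Spec.map_id]
        exact (Category.id_comp _).symm
    suffices d (hU.fromSpec (hU.primeIdealOf ⟨ξ, hxU⟩)) ∈ V by rwa [hU.fromSpec_primeIdealOf] at this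
    exact ⟨Spec.map μ (hU.primeIdealOf ⟨ξ, hxU⟩), by rw [← Scheme.Hom.comp_apply, ← hdj]; rfl⟩
  -- algebra structures
  let B : Type u := A ⊗[k] A
  let L : Type u := P.presheaf.stalk (d ξ)
  let R : Type u := X.presheaf.stalk ξ
  let φ : B →+* L := ((inv ψ) ≫ P.presheaf.germ V (d ξ) hdV).hom
  letI algBL : Algebra B L := φ.toAlgebra
  letI algLR : Algebra L R := (d.stalkMap ξ).hom.toAlgebra
  letI algAR : Algebra A R := (X.presheaf.germ U ξ hxU).hom.toAlgebra
  letI algBR : Algebra B R := ((d.stalkMap ξ).hom.comp φ).toAlgebra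
  haveI : IsScalarTower B L R := IsScalarTower.of_algebraMap_eq fun _ => rfl
  have hside : ∀ (p : P ⟶ X) (hVp : V ≤ p ⁻¹ᵁ U) (i : CommRingCat.of A ⟶ CommRingCat.of B),
      d ≫ p = 𝟙 X → i ≫ inv ψ = p.appLE U V hVp → (algebraMap B R).comp i.hom = algebraMap A R := by
    intro p hVp i hdp hi
    have : i ≫ inv ψ ≫ P.presheaf.germ V (d ξ) hdV ≫ d.stalkMap ξ = X.presheaf.germ U ξ hxU := by
      rw [← Category.assoc, hi, Scheme.Hom.germ_stalkMap, Scheme.Hom.app_eq_appLE, ← Category.assoc,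
        Scheme.Hom.appLE_comp_appLE, appLE_congr' hdp, Scheme.Hom.appLE, Scheme.Hom.id_app]
      erw [Category.id_comp]
      exact X.presheaf.germ_res _ _ _
    exact congrArg CommRingCat.Hom.hom this
  haveI : IsScalarTower A B R :=
    IsScalarTower.of_algebraMap_eq' (hside _ hV1 il (pullback.diagonal_fst f) h1).symm
  have hr := hside _ hV2 ir (pullback.diagonal_snd f) h2
  haveI : Module.Flat B L := by
    have hflat : φ.Flat := by
      refine RingHom.Flat.comp (RingHom.Flat.of_bijective (f := (inv ψ).hom)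
        (ConcreteCategory.bijective_of_isIso (inv ψ))) ?_
      letI : Algebra Γ(P, V) L := (P.presheaf.germ V (d ξ) hdV).hom.toAlgebra
      haveI : IsLocalization.AtPrime L (hV.primeIdealOf ⟨d ξ, hdV⟩).asIdeal := hV.isLocalization_stalk ⟨d ξ, hdV⟩
      exact RingHom.flat_algebraMap_iff.2 (IsLocalization.flat L (hV.primeIdealOf ⟨d ξ, hdV⟩).asIdeal.primeCompl)
    exact hflat
  haveI hloc : IsLocalization.AtPrime R (hU.primeIdealOf ⟨ξ, hxU⟩).asIdeal := hU.isLocalization_stalk ⟨ξ, hxU⟩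
  haveI : Module.Flat A R := IsLocalization.flat R (hU.primeIdealOf ⟨ξ, hxU⟩).asIdeal.primeCompl
  have hsurj : Function.Surjective (algebraMap L R) := d.stalkMap_surjective ξ
  have hfrac : ∀ x : R, ∃ a s : A, IsUnit (algebraMap A R s) ∧ x * algebraMap A R s = algebraMap A R a := by
    intro x
    obtain ⟨⟨a, s⟩, h⟩ := IsLocalization.surj (hU.primeIdealOf ⟨ξ, hxU⟩).asIdeal.primeCompl x
    exact ⟨a, s.1, IsLocalization.map_units R s, h⟩
  -- the ideals
  let I : Ideal A := IV.ideal ⟨U, hU⟩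
  let I' : Ideal A := IW.ideal ⟨U, hU⟩
  haveI hB₂ : Module.Flat A (B ⧸ I'.map ir.hom) := flat_quot_includeRight k A I'
  let J : Ideal L := (I.map (algebraMap A B) ⊔ I'.map ir.hom).map (algebraMap B L)
  have hlenT : Module.length L (DRing.Tor L n (L ⧸ J) R) =
      Module.length R (DRing.Tor R n (R ⧸ I.map (algebraMap A R)) (R ⧸ I'.map (algebraMap A R))) :=
    length_tor_diag B L R ir.hom hr (flat_includeRight k A) hsurj hfrac I I' n
  have hsIV : IntMult.stalkIdeal IV ξ = I.map (algebraMap A R) := stalkIdeal_eq_map IV ξ ⟨U, hU⟩ hxU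
  have hsIW : IntMult.stalkIdeal IW ξ = I'.map (algebraMap A R) := stalkIdeal_eq_map IW ξ ⟨U, hU⟩ hxU
  have hsJ : IntMult.stalkIdeal (pullback.map (IV.subschemeι ≫ f) (IW.subschemeι ≫ f) f f IV.subschemeι
      IW.subschemeι (𝟙 _) (Category.comp_id _) (Category.comp_id _)).ker (d ξ) = J := by
    rw [ker_pullback_map_subschemeι, stalkIdeal_eq_map _ _ ⟨V, hV⟩ hdV, Scheme.IdealSheafData.ideal_sup,
      Pi.sup_apply, Ideal.map_sup, HTopCov.ideal_comap_appLE _ IV ⟨U, hU⟩ ⟨V, hV⟩ hV1,
      HTopCov.ideal_comap_appLE _ IW ⟨U, hU⟩ ⟨V, hV⟩ hV2, ← h1, ← h2, Ideal.map_map, Ideal.map_map]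
    simp only [J, Ideal.map_sup, Ideal.map_map]
    rfl
  have hsD : IntMult.stalkIdeal d.ker (d ξ) = RingHom.ker (d.stalkMap ξ).hom := stalkIdeal_ker d ξ
  let eR : (L ⧸ IntMult.stalkIdeal d.ker (d ξ)) ≃ₗ[L] R :=
    ((Ideal.quotientEquivAlgOfEq L hsD).trans
      (Ideal.quotientKerAlgEquivOfSurjective (f := Algebra.ofId L R) hsurj)).toLinearEquiv
  rw [hsIV, hsIW, ← hlenT]
  exact (torCongr (Ideal.quotientEquivAlgOfEq L hsJ).toLinearEquiv eR n).length_eq

/-- Reduction to the diagonal. -/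
theorem mult_eq_mult_diag {k : Type u} [Field k] {X : Scheme.{u}} (f : X ⟶ Spec (CommRingCat.of k))
    [IsSeparated f] (IV IW : X.IdealSheafData) (ξ : X) :
    IntMult.mult IV IW ξ = IntMult.mult (pullback.map (IV.subschemeι ≫ f) (IW.subschemeι ≫ f) f f IV.subschemeι
      IW.subschemeι (𝟙 _) (Category.comp_id _) (Category.comp_id _)).ker (pullback.diagonal f).ker
      (pullback.diagonal f ξ) := by
  rw [IntMult.mult, IntMult.mult, chi_symm]
  conv_rhs => rw [chi_symm]
  exact finsum_congr fun n => by rw [length_tor_diag_scheme f IV IW ξ n]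

end Groth.Agent.IntMultLib
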