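import Groth.Agent.IntMultLib.TorKoszul
import Groth.Agent.H9Misc.TorBaseChange
import Mathlib

/-!
# Reduction to the diagonal for `Tor`
-/

set_option autoImplicit false
set_option linter.style.haveILetI false

universe u

open CategoryTheory CategoryTheory.Limits TensorProduct

namespace Groth.Agent.IntMultLib

variable {A : Type u} [CommRing A]

noncomputable def torCongr {P P' Q Q' : Type u} [AddCommGroup P] [Module A P] [AddCommGroup P'] [Module A P']
    [AddCommGroup Q] [Module A Q] [AddCommGroup Q'] [Module A Q'] (e : P ≃ₗ[A] P') (e' : Q ≃ₗ[A] Q') (n : ℕ) :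
    DRing.Tor A n P Q ≃ₗ[A] DRing.Tor A n P' Q' :=
  (((Tor (ModuleCat.{u} A) n).mapIso e.toModuleIso).app (ModuleCat.of A Q) ≪≫
    ((Tor (ModuleCat.{u} A) n).obj (ModuleCat.of A P')).mapIso e'.toModuleIso).toLinearEquiv

noncomputable def torSymmEquiv (P Q : Type u) [AddCommGroup P] [Module A P] [AddCommGroup Q] [Module A Q]
    (n : ℕ) : DRing.Tor A n P Q ≃ₗ[A] DRing.Tor A n Q P :=
  (Groth.Agent.H9Misc.TorBalance.torSymm (ModuleCat.of A P) (ModuleCat.of A Q) n).toLinearEquiv

theorem chi_congr {P P' Q Q' : Type u} [AddCommGroup P] [Module A P] [AddCommGroup P'] [Module A P']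
    [AddCommGroup Q] [Module A Q] [AddCommGroup Q'] [Module A Q'] (e : P ≃ₗ[A] P') (e' : Q ≃ₗ[A] Q') :
    IntMult.chi A P Q = IntMult.chi A P' Q' :=
  finsum_congr fun i => by rw [(torCongr e e' i).length_eq]

theorem subsingleton_tor_flat (P F : Type u) [AddCommGroup P] [Module A P] [AddCommGroup F] [Module A F]
    [Module.Flat A F] (q : ℕ) : Subsingleton (DRing.Tor A (q + 1) P F) := by
  let R : ProjectiveResolution (ModuleCat.of A P) := ProjectiveResolution.of _
  rw [← Module.length_eq_zero_iff (R := A)]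
  refine (length_tor_eq_hlen R F (q + 1)).trans ?_
  rw [hlen, Module.length_eq_zero_iff]
  refine Submodule.Quotient.subsingleton_iff.2 (top_le_iff.1 fun z _ => ?_)
  exact ((Module.Flat.rTensor_exact F
    ((ShortComplex.ShortExact.moduleCat_exact_iff_function_exact _).1 (R.exact_succ q))) z.1).1 z.2

theorem inv_semilinear {A B : Type u} [CommRing A] [CommRing B] {σ : A →+* B} {X Y : Type u} [AddCommGroup X]
    [Module A X] [AddCommGroup Y] [Module B Y] (f : X →ₛₗ[σ] Y) (hf : Function.Bijective f) :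
    ∃ g : Y → X, Function.Bijective g ∧ (∀ y y', g (y + y') = g y + g y') ∧ ∀ a y, g (σ a • y) = a • g y := by
  let e := Equiv.ofBijective f hf
  have h : ∀ y, f (e.symm y) = y := e.apply_symm_apply
  exact ⟨e.symm, e.symm.bijective, fun y y' => hf.1 ((h _).trans (by rw [map_add, h, h])),
    fun a y => hf.1 ((h _).trans (by rw [map_smulₛₗ, h]))⟩

/-- An element killing all terms of a complex kills its homology. -/
theorem smul_homology_eq_zero {L : Type u} [CommRing L] (K : ChainComplex (ModuleCat.{u} L) ℕ) (n : ℕ) (l : L)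
    (h : ∀ x : K.X n, l • x = 0) (z : K.homology n) : l • z = 0 := by
  obtain ⟨y, rfl⟩ := (ModuleCat.epi_iff_surjective (K.homologyπ n)).1 inferInstance z
  have hy : l • y = 0 := (ModuleCat.mono_iff_injective (K.iCycles n)).1 inferInstance (by rw [map_smul, h, map_zero])
  rw [← map_smul, hy, map_zero]

/-- `Tor` and base change, with a given model of the base change. -/
theorem exists_bij_tor_baseChange (A' : Type u) [CommRing A'] [Algebra A A'] {P P' : Type u} [AddCommGroup P]
    [Module A P] [AddCommGroup P'] [Module A' P'] (e : A' ⊗[A] P ≃ₗ[A'] P')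
    (hP : ∀ q : ℕ, Subsingleton (DRing.Tor A (q + 1) P A'))
    (Q : Type u) [AddCommGroup Q] [Module A' Q] [Module A Q] [IsScalarTower A A' Q] (n : ℕ) :
    ∃ f : DRing.Tor A n P Q →ₛₗ[algebraMap A A'] DRing.Tor A' n P' Q, Function.Bijective f := by
  obtain ⟨φ, hφ⟩ := Groth.Agent.H9Misc.TorBaseChange.exists_semilinear A A' Q P (fun q hq => by
    obtain ⟨q, rfl⟩ : ∃ k, q = k + 1 := ⟨q - 1, by omega⟩
    exact hP q) n
  exact ⟨(torCongr e (LinearEquiv.refl A' Q) n).toLinearMap.comp φ, (torCongr e _ n).bijective.comp hφ⟩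

/-- `Tor` of a base change of a quotient against a flat module vanishes. -/
theorem subsingleton_tor_quot_map (B : Type u) [CommRing B] [Algebra A B] [Module.Flat A B] (I : Ideal A)
    (R : Type u) [AddCommGroup R] [Module B R] [Module A R] [IsScalarTower A B R] [Module.Flat A R] (q : ℕ) :
    Subsingleton (DRing.Tor B (q + 1) (B ⧸ I.map (algebraMap A B)) R) := by
  obtain ⟨f, hf⟩ := exists_bij_tor_baseChange B
    (Algebra.TensorProduct.quotIdealMapEquivTensorQuot B I).toLinearEquiv.symm
    (fun q => subsingleton_tor_flat _ _ q) R (q + 1)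
  haveI := subsingleton_tor_flat (A := A) (A ⧸ I) R q
  exact (Equiv.ofBijective f hf).symm.subsingleton

/-- Reduction to the diagonal: `B` is `A ⊗ A`, `L` a local ring of it at a point of the diagonal, `R` the local
ring of `A` there. -/
theorem length_tor_diag (B L R : Type u) [CommRing B] [CommRing L] [CommRing R] [Algebra A B] [Algebra B L]
    [Algebra A R] [Algebra B R] [Algebra L R] [IsScalarTower A B R] [IsScalarTower B L R]
    [Module.Flat B L] [Module.Flat A R] (r : A →+* B) (hr : (algebraMap B R).comp r = algebraMap A R)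
    (hrflat : r.Flat) (hsurj : Function.Surjective (algebraMap L R))
    (hfrac : ∀ x : R, ∃ a s : A, IsUnit (algebraMap A R s) ∧ x * algebraMap A R s = algebraMap A R a)
    (I I' : Ideal A) [hB₂ : Module.Flat A (B ⧸ I'.map r)] (n : ℕ) :
    Module.length L (DRing.Tor L n (L ⧸ (I.map (algebraMap A B) ⊔ I'.map r).map (algebraMap B L)) R) =
      Module.length R (DRing.Tor R n (R ⧸ I.map (algebraMap A R)) (R ⧸ I'.map (algebraMap A R))) := by
  let K : Ideal B := I'.map r
  let B₂ : Type u := B ⧸ K
  let C : Type u := R ⧸ I'.map (algebraMap A R)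
  have hKR : K.map (algebraMap B R) = I'.map (algebraMap A R) := by rw [Ideal.map_map, hr]
  letI algC : Algebra B₂ C := (Ideal.Quotient.lift K (algebraMap B C) fun x hx => by
    show Ideal.Quotient.mk _ (algebraMap B R x) = 0
    exact Ideal.Quotient.eq_zero_iff_mem.2 (hKR ▸ Ideal.mem_map_of_mem _ hx)).toAlgebra
  haveI : IsScalarTower B B₂ C := IsScalarTower.of_algebraMap_eq fun _ => rfl
  haveI : IsScalarTower A B₂ C := IsScalarTower.of_algebraMap_eq fun a => by
    rw [IsScalarTower.algebraMap_apply A B B₂, ← IsScalarTower.algebraMap_apply B B₂ C,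
      ← IsScalarTower.algebraMap_apply A B C]
  let P : Type u := B₂ ⧸ I.map (algebraMap A B₂)
  let J : Ideal B := I.map (algebraMap A B) ⊔ K
  -- `P ≅ B / J`
  have hmap : I.map (algebraMap A B₂) = (I.map (algebraMap A B)).map (Ideal.Quotient.mkₐ B K) := by
    show _ = (I.map (algebraMap A B)).map (Ideal.Quotient.mk K)
    rw [Ideal.map_map]
    rfl
  let eP : P ≃ₗ[B] B ⧸ J :=
    (Ideal.quotientEquivAlgOfEq B hmap).toLinearEquiv ≪≫ₗ
      (DoubleQuot.quotQuotEquivQuotSupₐ B K (I.map (algebraMap A B))).toLinearEquiv ≪≫ₗ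
      (Ideal.quotientEquivAlgOfEq B (sup_comm K (I.map (algebraMap A B)))).toLinearEquiv
  let eL : L ⊗[B] P ≃ₗ[L] L ⧸ J.map (algebraMap B L) :=
    (TensorProduct.AlgebraTensorModule.congr (LinearEquiv.refl L L) eP) ≪≫ₗ
      (Algebra.TensorProduct.quotIdealMapEquivTensorQuot L J).toLinearEquiv.symm
  obtain ⟨f₁, hf₁⟩ := exists_bij_tor_baseChange L eL (fun q => subsingleton_tor_flat _ _ q) R n
  -- `Tor^B(R, P)` from `B₂`
  let eC₀ : B₂ ⊗[B] R ≃ₗ[B] C :=
    (TensorProduct.quotTensorEquivQuotSMul R K) ≪≫ₗ Submodule.quotEquivOfEq _ _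
        (Ideal.smul_top_eq_map K) ≪≫ₗ
      Submodule.quotEquivOfEq _ ((I'.map (algebraMap A R)).restrictScalars B)
        (congrArg (Submodule.restrictScalars B) hKR) ≪≫ₗ
      Submodule.Quotient.restrictScalarsEquiv B (I'.map (algebraMap A R))
  let eC : B₂ ⊗[B] R ≃ₗ[B₂] C :=
    eC₀.toAddEquiv.toLinearEquiv fun c x => by
      obtain ⟨b, rfl⟩ := Ideal.Quotient.mk_surjective c
      show eC₀ (algebraMap B B₂ b • x) = algebraMap B B₂ b • eC₀ x
      rw [algebraMap_smul, algebraMap_smul, map_smul]
  obtain ⟨f₂, hf₂⟩ := exists_bij_tor_baseChange B₂ eC (fun q => by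
    letI algR : Algebra A B := r.toAlgebra
    haveI : @Module.Flat A B _ _ algR.toModule := hrflat
    haveI : @IsScalarTower A B R algR.toSMul inferInstance inferInstance :=
      @IsScalarTower.of_algebraMap_eq' A B R _ _ _ algR _ _ hr.symm
    haveI := subsingleton_tor_quot_map B I' R q
    exact (torSymmEquiv R B₂ (q + 1)).toEquiv.subsingleton) P n
  -- `Tor^{B₂}(P, C)` from `A`
  obtain ⟨f₃, hf₃⟩ := exists_bij_tor_baseChange B₂
    (Algebra.TensorProduct.quotIdealMapEquivTensorQuot B₂ I).toLinearEquiv.symm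
    (fun q => subsingleton_tor_flat (A ⧸ I) B₂ q) C n
  obtain ⟨f₄, hf₄⟩ := exists_bij_tor_baseChange R
    (Algebra.TensorProduct.quotIdealMapEquivTensorQuot R I).toLinearEquiv.symm
    (fun q => subsingleton_tor_flat (A ⧸ I) R q) C n
  -- compose
  let T1 := DRing.Tor L n (L ⧸ J.map (algebraMap B L)) R
  let T4 := DRing.Tor R n (R ⧸ I.map (algebraMap A R)) C
  obtain ⟨g₁, hg₁, hg₁a, hg₁s⟩ := inv_semilinear f₁ hf₁
  obtain ⟨g₃, hg₃, hg₃a, hg₃s⟩ := inv_semilinear f₃ hf₃
  let e : T1 → T4 := fun z => f₄ (g₃ (torSymmEquiv C P n (f₂ (torSymmEquiv P R n (g₁ z)))))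
  have he : Function.Bijective e :=
    hf₄.comp (hg₃.comp ((torSymmEquiv C P n).bijective.comp
      (hf₂.comp ((torSymmEquiv P R n).bijective.comp hg₁))))
  have he_add : ∀ x y, e (x + y) = e x + e y := fun x y => by
    simp only [e, hg₁a, map_add, hg₃a]
  have he_A : ∀ (a : A) z, e (algebraMap B L (algebraMap A B a) • z) = algebraMap A R a • e z := fun a z => by
    simp only [e, hg₁s, map_smul, map_smulₛₗ, ← IsScalarTower.algebraMap_apply A B B₂, hg₃s]
  -- `L` acts through `R`
  have hker : ∀ l : L, algebraMap L R l = 0 → ∀ z : T1, l • z = 0 := fun l hl => by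
    intro z
    let P₀ : ProjectiveResolution (ModuleCat.of L (L ⧸ J.map (algebraMap B L))) := ProjectiveResolution.of _
    let e₀ := (Groth.Agent.H9Misc.TorBalance.torIso' P₀ (ModuleCat.of L R) n).toLinearEquiv
    refine e₀.injective ?_
    rw [map_smul, map_zero]
    refine smul_homology_eq_zero _ n l (fun x => ?_) _
    suffices H : ∀ x : P₀.complex.X n ⊗[L] R, l • x = 0 from H x
    intro x
    induction x using TensorProduct.induction_on with
    | zero => rw [smul_zero]
    | tmul p r => rw [← TensorProduct.tmul_smul, Algebra.smul_def, hl, zero_mul, TensorProduct.tmul_zero]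
    | add p q hp hq => rw [smul_add, hp, hq, add_zero]
  have he_L : ∀ (l : L) z, e (l • z) = algebraMap L R l • e z := by
    intro l z
    obtain ⟨a, s, hs, hls⟩ := hfrac (algebraMap L R l)
    have hsub := hker (algebraMap B L (algebraMap A B s) * l - algebraMap B L (algebraMap A B a)) (by
      rw [map_sub, map_mul, ← IsScalarTower.algebraMap_apply B L R, ← IsScalarTower.algebraMap_apply B L R,
        ← IsScalarTower.algebraMap_apply A B R, ← IsScalarTower.algebraMap_apply A B R, mul_comm, hls, sub_self]) z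
    rw [sub_smul, mul_smul, sub_eq_zero] at hsub
    have h := congrArg e hsub
    rw [he_A, he_A, ← hls, mul_comm, mul_smul] at h
    exact hs.smul_left_cancel.1 h
  letI : Module L T4 := Module.compHom T4 (algebraMap L R)
  haveI : IsScalarTower L R T4 := ⟨fun l r x => by
    show (l • r) • x = algebraMap L R l • r • x
    rw [Algebra.smul_def, mul_smul]⟩
  let E : T1 ≃ₗ[L] T4 := LinearEquiv.ofBijective ({ toFun := e, map_add' := he_add, map_smul' := fun l z => he_L l z } : T1 →ₗ[L] T4) he
  exact E.length_eq.trans (Module.length_eq_of_surjective hsurj)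

end Groth.Agent.IntMultLib
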