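import Groth.Agent.IntMultLib.ChiAdd
import Groth.Prelude.Def_DRing2
import Mathlib

/-!
# Euler characteristic of the cohomology of a complex of modules
-/

set_option autoImplicit false
set_option linter.style.haveILetI false

universe u

open CategoryTheory CategoryTheory.Limits

namespace Groth.Agent.IntMultLib

variable {R : Type u} [CommRing R]

/-- Length of a cohomology module, as an integer. -/
noncomputable def hLen (L : DRing.Cx R) (i : ℤ) : ℤ := ((Module.length R (L.homology i)).toNat : ℤ)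

/-- Euler characteristic of the cohomology. -/
noncomputable def eul (L : DRing.Cx R) : ℤ := ∑ᶠ i : ℤ, (i.negOnePow : ℤ) * hLen L i

/-- Bounded cohomology of finite length. -/
structure FinLen (L : DRing.Cx R) : Prop where
  ne_top : ∀ i, Module.length R (L.homology i) ≠ ⊤
  bounded : {i : ℤ | ¬ Subsingleton (L.homology i)}.Finite

theorem hLen_eq_zero (L : DRing.Cx R) (i : ℤ) [Subsingleton (L.homology i)] : hLen L i = 0 := by
  simp [hLen, Module.length_eq_zero]

theorem FinLen.finite_support {L : DRing.Cx R} (h : FinLen L) :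
    (Function.support fun i : ℤ => (i.negOnePow : ℤ) * hLen L i).Finite := by
  refine h.bounded.subset fun i hi hs => hi ?_
  show (i.negOnePow : ℤ) * hLen L i = 0
  rw [hLen_eq_zero, mul_zero]

theorem subsingleton_homology_of_quasiIso {K L : DRing.Cx R} (f : K ⟶ L) [QuasiIso f] (i : ℤ) :
    Subsingleton (K.homology i) ↔ Subsingleton (L.homology i) :=
  (isoOfQuasiIsoAt f i).toLinearEquiv.toEquiv.subsingleton_congr

theorem eul_of_equiv {K L : DRing.Cx R} (e : ∀ i, K.homology i ≃ₗ[R] L.homology i) : eul K = eul L :=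
  finsum_congr fun i => by rw [hLen, hLen, (e i).length_eq]

theorem FinLen.of_equiv {K L : DRing.Cx R} (e : ∀ i, K.homology i ≃ₗ[R] L.homology i) (h : FinLen L) :
    FinLen K where
  ne_top i := (e i).length_eq ▸ h.ne_top i
  bounded := h.bounded.subset fun i hi hs => hi (e i).toEquiv.subsingleton

theorem exact_les₁ {S : ShortComplex (DRing.Cx R)} (hS : S.ShortExact) (i : ℤ) :
    Function.Exact (hS.δ i (i + 1) rfl).hom (HomologicalComplex.homologyMap S.f (i + 1)).hom :=
  (ShortComplex.ShortExact.moduleCat_exact_iff_function_exact _).1 (hS.homology_exact₁ i (i + 1) rfl)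

theorem exact_les₂ {S : ShortComplex (DRing.Cx R)} (hS : S.ShortExact) (i : ℤ) :
    Function.Exact (HomologicalComplex.homologyMap S.f i).hom (HomologicalComplex.homologyMap S.g i).hom :=
  (ShortComplex.ShortExact.moduleCat_exact_iff_function_exact _).1 (hS.homology_exact₂ i)

theorem exact_les₃ {S : ShortComplex (DRing.Cx R)} (hS : S.ShortExact) (i : ℤ) :
    Function.Exact (HomologicalComplex.homologyMap S.g i).hom (hS.δ i (i + 1) rfl).hom :=
  (ShortComplex.ShortExact.moduleCat_exact_iff_function_exact _).1 (hS.homology_exact₃ i (i + 1) rfl)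

/-- The middle of a short exact sequence. -/
theorem eul_add {S : ShortComplex (DRing.Cx R)} (hS : S.ShortExact) (h₁ : FinLen S.X₁) (h₃ : FinLen S.X₃) :
    FinLen S.X₂ ∧ eul S.X₂ = eul S.X₁ + eul S.X₃ := by
  let fi := fun i => Module.length R (LinearMap.range (HomologicalComplex.homologyMap S.f i).hom)
  let gi := fun i => Module.length R (LinearMap.range (HomologicalComplex.homologyMap S.g i).hom)
  let di := fun i => Module.length R (LinearMap.range (hS.δ i (i + 1) rfl).hom)
  have e₁ : ∀ i, Module.length R (S.X₁.homology (i + 1)) = di i + fi (i + 1) := fun i =>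
    length_eq_range_add_range _ _ (exact_les₁ hS i)
  have e₂ : ∀ i, Module.length R (S.X₂.homology i) = fi i + gi i := fun i =>
    length_eq_range_add_range _ _ (exact_les₂ hS i)
  have e₃ : ∀ i, Module.length R (S.X₃.homology i) = gi i + di i := fun i =>
    length_eq_range_add_range _ _ (exact_les₃ hS i)
  have hf : ∀ i, fi i ≠ ⊤ := fun i => by
    obtain ⟨j, rfl⟩ : ∃ j, i = j + 1 := ⟨i - 1, by ring⟩
    exact (WithTop.add_ne_top.1 (e₁ j ▸ h₁.ne_top (j + 1))).2
  have hg : ∀ i, gi i ≠ ⊤ := fun i => (WithTop.add_ne_top.1 (e₃ i ▸ h₃.ne_top i)).1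
  have hd : ∀ i, di i ≠ ⊤ := fun i => (WithTop.add_ne_top.1 (e₃ i ▸ h₃.ne_top i)).2
  have h₂ : FinLen S.X₂ := by
    refine ⟨fun i => e₂ i ▸ WithTop.add_ne_top.2 ⟨hf i, hg i⟩, (h₁.bounded.union h₃.bounded).subset ?_⟩
    intro i hi
    by_contra hc
    simp only [Set.mem_union, Set.mem_setOf_eq, not_or, not_not] at hc
    haveI := hc.1
    haveI := hc.2
    refine hi ((Module.length_eq_zero_iff (R := R)).1 ?_)
    obtain ⟨j, rfl⟩ : ∃ j, i = j + 1 := ⟨i - 1, by ring⟩
    rw [e₂, (add_eq_zero.1 ((e₁ j).symm.trans Module.length_eq_zero)).2,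
      (add_eq_zero.1 ((e₃ (j + 1)).symm.trans Module.length_eq_zero)).1, add_zero]
  refine ⟨h₂, ?_⟩
  have key : ∀ i, hLen S.X₁ i + hLen S.X₃ i =
      hLen S.X₂ i + (((di (i - 1)).toNat : ℤ) + (di i).toNat) := fun i => by
    obtain ⟨j, rfl⟩ : ∃ j, i = j + 1 := ⟨i - 1, by ring⟩
    simp only [hLen, e₁, e₂, e₃, ENat.toNat_add (hd j) (hf (j + 1)), ENat.toNat_add (hf (j + 1)) (hg (j + 1)),
      ENat.toNat_add (hg (j + 1)) (hd (j + 1)), add_sub_cancel_right]
    push_cast
    ring
  have hdsupp : (Function.support fun i : ℤ => (i.negOnePow : ℤ) * ((di i).toNat : ℤ)).Finite := by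
    refine h₃.bounded.subset fun i hi hs => hi ?_
    have h := e₃ i
    rw [Module.length_eq_zero] at h
    show (i.negOnePow : ℤ) * ((di i).toNat : ℤ) = 0
    simp [(add_eq_zero.1 h.symm).2]
  have hshift : ∀ i : ℤ, (i.negOnePow : ℤ) * ((di (i - 1)).toNat : ℤ) =
      -((fun j : ℤ => (j.negOnePow : ℤ) * ((di j).toNat : ℤ)) ((Equiv.subRight (1 : ℤ)) i)) := fun i => by
    simp only [Equiv.subRight_apply, Int.negOnePow_sub, Int.negOnePow_one]
    simp
  have hds' : (Function.support fun i : ℤ => (i.negOnePow : ℤ) * ((di (i - 1)).toNat : ℤ)).Finite := by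
    refine ((hdsupp.image fun j => j + 1)).subset fun i hi => ⟨i - 1, ?_, by ring⟩
    simp only [Function.mem_support, hshift i, neg_ne_zero] at hi
    exact hi
  have hsum : ∑ᶠ i : ℤ, ((i.negOnePow : ℤ) * hLen S.X₁ i + (i.negOnePow : ℤ) * hLen S.X₃ i) =
      ∑ᶠ i : ℤ, ((i.negOnePow : ℤ) * hLen S.X₂ i + ((i.negOnePow : ℤ) * ((di (i - 1)).toNat : ℤ) +
        (i.negOnePow : ℤ) * ((di i).toNat : ℤ))) :=
    finsum_congr fun i => by rw [← mul_add, key, mul_add, mul_add]
  rw [finsum_add_distrib h₁.finite_support h₃.finite_support,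
    finsum_add_distrib h₂.finite_support ((hds'.union hdsupp).subset (Function.support_add _ _)),
    finsum_add_distrib hds' hdsupp, finsum_congr hshift,
    finsum_comp_equiv (Equiv.subRight (1 : ℤ)) (f := fun i => -((i.negOnePow : ℤ) * ((di i).toNat : ℤ))),
    finsum_neg_distrib] at hsum
  simp only [eul]
  linarith

end Groth.Agent.IntMultLib
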