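import Groth.Agent.IntMultLib.ClosedSub
import Groth.Agent.IntMultLib.DiagScheme
import Groth.Agent.S1582
import Groth.Agent.HTopCov.AlmostBlowUp
import Mathlib

/-!
# The generic point of the product of two subvarieties
-/

set_option autoImplicit false
set_option linter.style.haveILetI false
set_option backward.isDefEq.respectTransparency.types false

universe u

open CategoryTheory CategoryTheory.Limits AlgebraicGeometry

namespace Groth.Agent.IntMultLib

theorem stalkIdeal_comap {P X : Scheme.{u}} (p : P ⟶ X) (I : X.IdealSheafData) (z : P) :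
    IntMult.stalkIdeal (I.comap p) z = (IntMult.stalkIdeal I (p z)).map (p.stalkMap z).hom := by
  obtain ⟨_, ⟨U, hU, rfl⟩, hxU, -⟩ :=
    X.isBasis_affineOpens.exists_subset_of_mem_open (Set.mem_univ (p z)) isOpen_univ
  obtain ⟨_, ⟨V, hV, rfl⟩, hzV, hle⟩ :=
    P.isBasis_affineOpens.exists_subset_of_mem_open (show z ∈ p ⁻¹ᵁ U from hxU) (p ⁻¹ᵁ U).isOpen
  rw [stalkIdeal_eq_map _ z ⟨V, hV⟩ hzV, stalkIdeal_eq_map I (p z) ⟨U, hU⟩ hxU,
    HTopCov.ideal_comap_appLE p I ⟨U, hU⟩ ⟨V, hV⟩ hle, Ideal.map_map, Ideal.map_map,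
    ← CommRingCat.hom_comp, ← CommRingCat.hom_comp]
  congr 2
  rw [Scheme.Hom.germ_stalkMap, Scheme.Hom.appLE, Category.assoc]
  congr 1
  exact P.presheaf.germ_res (homOfLE hle) z hzV

theorem mem_support_iff_stalkIdeal {X : Scheme.{u}} (I : X.IdealSheafData) (x : X) :
    x ∈ I.support ↔ IntMult.stalkIdeal I x ≠ ⊤ :=
  ⟨stalkIdeal_ne_top I, fun h => by_contra fun hn => h (stalkIdeal_eq_top_of_notMem I hn)⟩

theorem mem_support_comap {P X : Scheme.{u}} (p : P ⟶ X) (I : X.IdealSheafData) (z : P) :
    z ∈ (I.comap p).support ↔ p z ∈ I.support := by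
  rw [mem_support_iff_stalkIdeal, mem_support_iff_stalkIdeal, stalkIdeal_comap]
  refine ⟨fun h h' => h (by rw [h', Ideal.map_top]), fun h h' => ?_⟩
  have := Ideal.map_mono (f := (p.stalkMap z).hom) (IsLocalRing.le_maximalIdeal h)
  rw [h'] at this
  exact (IsLocalRing.maximalIdeal.isMaximal (P.presheaf.stalk z)).ne_top
    (top_le_iff.1 (this.trans (Ideal.map_le_iff_le_comap.2
      fun r hr => map_nonunit (p.stalkMap z).hom r hr)))

/-- The stalk ideal of an integral closed subscheme is the prime of its generic point. -/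
theorem stalkIdeal_ker_eq_primeOf {W X : Scheme.{u}} (i : W ⟶ X) [IsClosedImmersion i] [IsIntegral W] (w : W) :
    IntMult.stalkIdeal i.ker (i w) =
      (CDiv6.primeOf ((genericPoint_specializes w).map i.continuous)).asIdeal := by
  have hz := (genericPoint_specializes w).map i.continuous
  have hp : (IntMult.stalkIdeal i.ker (i w)).IsPrime := by
    rw [stalkIdeal_ker]; exact RingHom.ker_isPrime _
  obtain ⟨v, hv, hvP⟩ := H23.StalkPrimes.exists_point (IntMult.stalkIdeal i.ker (i w))
  have h1 : v ∈ Set.range i :=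
    (mem_support_closed i hv).1 (mem_support_quotient.2 hvP.ge)
  obtain ⟨v', rfl⟩ := h1
  have h2 : IntMult.stalkIdeal i.ker (i w) ≤ (CDiv6.primeOf hz).asIdeal :=
    mem_support_quotient.1 ((mem_support_closed i hz).2 ⟨_, rfl⟩)
  rw [← hvP] at h2 ⊢
  exact le_antisymm h2
    ((H23.StalkPrimes.primeOf_le_iff hv hz).2 ((genericPoint_specializes v').map i.continuous))

theorem subschemeι_genericPoint {X : Scheme.{u}} (a : X) :
    (IntMult.ptIdeal a).subschemeι (genericPoint (IntMult.ptIdeal a).subscheme) = a := by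
  obtain ⟨v, hv⟩ := exists_eq_of_mem_support (IntMult.ptIdeal a) (mem_ptIdeal_support.2 (specializes_refl a))
  have h1 : (IntMult.ptIdeal a).subschemeι (genericPoint (IntMult.ptIdeal a).subscheme) ⤳ a :=
    ((genericPoint_specializes v).map (IntMult.ptIdeal a).subschemeι.continuous).trans (specializes_of_eq hv)
  have h2 : a ⤳ (IntMult.ptIdeal a).subschemeι (genericPoint (IntMult.ptIdeal a).subscheme) :=
    mem_ptIdeal_support.1 (by
      rw [← SetLike.mem_coe, ← Scheme.IdealSheafData.range_subschemeι]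
      exact Set.mem_range_self _)
  exact (h1.antisymm h2).eq

variable {K : Type u} [Field K] [IsAlgClosed K] {X Y : Scheme.{u}}
  (f : X ⟶ Spec (CommRingCat.of K)) (g : Y ⟶ Spec (CommRingCat.of K))

theorem mem_support_prodIdeal {a : X} {b : Y} {z : ↥(pullback f g)} :
    z ∈ ((IntMult.ptIdeal a).comap (pullback.fst f g) ⊔ (IntMult.ptIdeal b).comap (pullback.snd f g)).support ↔
      a ⤳ pullback.fst f g z ∧ b ⤳ pullback.snd f g z := by
  rw [Scheme.IdealSheafData.support_sup, ← SetLike.mem_coe, TopologicalSpace.Closeds.coe_inf, Set.mem_inter_iff,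
    SetLike.mem_coe, SetLike.mem_coe, mem_support_comap, mem_support_comap, mem_ptIdeal_support, mem_ptIdeal_support]

variable [LocallyOfFiniteType f] [IsSeparated f] [QuasiCompact f]
  [LocallyOfFiniteType g] [IsSeparated g] [QuasiCompact g]

theorem exists_extPoint {δX : X → ℤ} {δY : Y → ℤ} {δ : ↥(pullback f g) → ℤ}
    (hX : Cyc.DeltaCompat f δX (fun _ => 0)) (hY : Cyc.DeltaCompat g δY (fun _ => 0))
    (hXY : Cyc.DeltaCompat (pullback.fst f g ≫ f) δ (fun _ => 0)) (a : X) (b : Y) :
    ∃ ζ : ↥(pullback f g), pullback.fst f g ζ = a ∧ pullback.snd f g ζ = b ∧ δ ζ = δX a + δY b ∧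
      ∀ z, a ⤳ pullback.fst f g z → b ⤳ pullback.snd f g z → ∃ h : ζ ⤳ z,
        (CDiv6.primeOf h).asIdeal = IntMult.stalkIdeal
          ((IntMult.ptIdeal a).comap (pullback.fst f g) ⊔ (IntMult.ptIdeal b).comap (pullback.snd f g)) z := by
  set A := IntMult.ptIdeal a
  set B := IntMult.ptIdeal b
  let m := pullback.map (A.subschemeι ≫ f) (B.subschemeι ≫ g) f g A.subschemeι B.subschemeι (𝟙 _)
    (Category.comp_id _) (Category.comp_id _)
  haveI hm : IsClosedImmersion m :=
    MorphismProperty.pullback_map (P := @IsClosedImmersion.{u}) inferInstance inferInstance rfl rfl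
  haveI : IsIntegral (pullback (A.subschemeι ≫ f) (B.subschemeι ≫ g)) :=
    Groth.Agent.S1582.result K _ _ (A.subschemeι ≫ f) (B.subschemeι ≫ g)
  let P := pullback (A.subschemeι ≫ f) (B.subschemeι ≫ g)
  have h1 : pullback.fst (A.subschemeι ≫ f) (B.subschemeι ≫ g) (genericPoint P) = genericPoint A.subscheme := by
    obtain ⟨v, hv, he⟩ := Flat.generalizingMap (pullback.fst (A.subschemeι ≫ f) (B.subschemeι ≫ g))
      (genericPoint_specializes (pullback.fst (A.subschemeι ≫ f) (B.subschemeι ≫ g) (genericPoint P)))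
    rwa [(hv.antisymm (genericPoint_specializes v)).eq] at he
  have h2 : pullback.snd (A.subschemeι ≫ f) (B.subschemeι ≫ g) (genericPoint P) = genericPoint B.subscheme := by
    obtain ⟨v, hv, he⟩ := Flat.generalizingMap (pullback.snd (A.subschemeι ≫ f) (B.subschemeι ≫ g))
      (genericPoint_specializes (pullback.snd (A.subschemeι ≫ f) (B.subschemeι ≫ g) (genericPoint P)))
    rwa [(hv.antisymm (genericPoint_specializes v)).eq] at he
  have e1 : m ≫ pullback.fst f g = pullback.fst (A.subschemeι ≫ f) (B.subschemeι ≫ g) ≫ A.subschemeι := by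
    exact pullback.lift_fst _ _ _
  have e2 : m ≫ pullback.snd f g = pullback.snd (A.subschemeι ≫ f) (B.subschemeι ≫ g) ≫ B.subschemeι := by
    exact pullback.lift_snd _ _ _
  have hker : m.ker = A.comap (pullback.fst f g) ⊔ B.comap (pullback.snd f g) :=
    ker_pullback_map_subschemeι f g A B
  refine ⟨m (genericPoint P), ?_, ?_, ?_, fun z hza hzb => ?_⟩
  · rw [← Scheme.Hom.comp_apply, e1, Scheme.Hom.comp_apply, h1, subschemeι_genericPoint]
  · rw [← Scheme.Hom.comp_apply, e2, Scheme.Hom.comp_apply, h2, subschemeι_genericPoint]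
  · rw [delta_eq_deg _ hXY, delta_eq_deg f hX, delta_eq_deg g hY, ← deg_immersion (pullback.fst f g ≫ f) m,
      VarDim.deg_congr (show m ≫ pullback.fst f g ≫ f =
        pullback.fst (A.subschemeι ≫ f) (B.subschemeι ≫ g) ≫ A.subschemeι ≫ f by rw [reassoc_of% e1]),
      deg_maximal_pullback (A.subschemeι ≫ f) (B.subschemeι ≫ g) _
        (fun y hy => (hy.antisymm (genericPoint_specializes y)).eq),
      deg_immersion, deg_immersion, subschemeι_genericPoint, subschemeι_genericPoint]
    push_cast
    rfl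
  · have hmem : z ∈ Set.range m := by
      rw [← mem_support_ker m, hker]
      exact (mem_support_prodIdeal f g).2 ⟨hza, hzb⟩
    obtain ⟨p, rfl⟩ := hmem
    refine ⟨(genericPoint_specializes p).map m.continuous, ?_⟩
    rw [← hker, stalkIdeal_ker_eq_primeOf m p]

/-- The generic point of `closure a × closure b`. -/
noncomputable def extPt {δX : X → ℤ} {δY : Y → ℤ} {δ : ↥(pullback f g) → ℤ}
    (hX : Cyc.DeltaCompat f δX (fun _ => 0)) (hY : Cyc.DeltaCompat g δY (fun _ => 0))
    (hXY : Cyc.DeltaCompat (pullback.fst f g ≫ f) δ (fun _ => 0)) (a : X) (b : Y) : ↥(pullback f g) :=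
  (exists_extPoint f g hX hY hXY a b).choose

variable {δX : X → ℤ} {δY : Y → ℤ} {δ : ↥(pullback f g) → ℤ}
  (hX : Cyc.DeltaCompat f δX (fun _ => 0)) (hY : Cyc.DeltaCompat g δY (fun _ => 0))
  (hXY : Cyc.DeltaCompat (pullback.fst f g ≫ f) δ (fun _ => 0)) (a : X) (b : Y)

include hX hY hXY

theorem fst_extPt : pullback.fst f g (extPt f g hX hY hXY a b) = a :=
  (exists_extPoint f g hX hY hXY a b).choose_spec.1

theorem snd_extPt : pullback.snd f g (extPt f g hX hY hXY a b) = b :=
  (exists_extPoint f g hX hY hXY a b).choose_spec.2.1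

theorem delta_extPt : δ (extPt f g hX hY hXY a b) = δX a + δY b :=
  (exists_extPoint f g hX hY hXY a b).choose_spec.2.2.1

theorem extPt_specializes {z : ↥(pullback f g)} (ha : a ⤳ pullback.fst f g z) (hb : b ⤳ pullback.snd f g z) :
    extPt f g hX hY hXY a b ⤳ z :=
  ((exists_extPoint f g hX hY hXY a b).choose_spec.2.2.2 z ha hb).fst

theorem primeOf_extPt {z : ↥(pullback f g)} (ha : a ⤳ pullback.fst f g z) (hb : b ⤳ pullback.snd f g z) :
    (CDiv6.primeOf (extPt_specializes f g hX hY hXY a b ha hb)).asIdeal =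
      (IntMult.stalkIdeal (IntMult.ptIdeal a) (pullback.fst f g z)).map ((pullback.fst f g).stalkMap z).hom ⊔
      (IntMult.stalkIdeal (IntMult.ptIdeal b) (pullback.snd f g z)).map ((pullback.snd f g).stalkMap z).hom := by
  rw [← stalkIdeal_comap, ← stalkIdeal_comap, ← stalkIdeal_sup]
  exact ((exists_extPoint f g hX hY hXY a b).choose_spec.2.2.2 z ha hb).snd

theorem eq_extPt {z : ↥(pullback f g)} (ha : a ⤳ pullback.fst f g z) (hb : b ⤳ pullback.snd f g z)
    (hz : δX a + δY b ≤ δ z) : z = extPt f g hX hY hXY a b :=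
  (eq_of_specializes_of_delta_le (pullback.fst f g ≫ f) hXY (extPt_specializes f g hX hY hXY a b ha hb)
    ((delta_extPt f g hX hY hXY a b).le.trans hz)).symm

theorem delta_le_prod (z : ↥(pullback f g)) {a : X} {b : Y} (ha : a ⤳ pullback.fst f g z)
    (hb : b ⤳ pullback.snd f g z) : δ z ≤ δX a + δY b :=
  (delta_le_of_specializes (pullback.fst f g ≫ f) hXY (extPt_specializes f g hX hY hXY a b ha hb)).trans
    (delta_extPt f g hX hY hXY a b).le

theorem maximalIdeal_sup_eq {z : ↥(pullback f g)}
    (h : δ z = δX (pullback.fst f g z) + δY (pullback.snd f g z)) :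
    (IsLocalRing.maximalIdeal (X.presheaf.stalk (pullback.fst f g z))).map ((pullback.fst f g).stalkMap z).hom ⊔
      (IsLocalRing.maximalIdeal (Y.presheaf.stalk (pullback.snd f g z))).map ((pullback.snd f g).stalkMap z).hom =
      IsLocalRing.maximalIdeal ((pullback f g).presheaf.stalk z) := by
  have hs : ∀ {W : Scheme.{u}} (w : W), IntMult.stalkIdeal (IntMult.ptIdeal w) w =
      IsLocalRing.maximalIdeal (W.presheaf.stalk w) := fun w => by
    rw [stalkIdeal_ptIdeal (specializes_refl w), H23.ZeroSec.primeOf_refl']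
  have key := primeOf_extPt f g hX hY hXY (pullback.fst f g z) (pullback.snd f g z)
    (specializes_refl _) (specializes_refl _) (z := z)
  rw [hs, hs] at key
  rw [← key, ← H23.ZeroSec.primeOf_refl' z]
  congr 2
  all_goals exact (eq_extPt f g hX hY hXY _ _ (specializes_refl _) (specializes_refl _) h.ge).symm

/-- The exterior product is supported on the generic points, with coefficient the product. -/
theorem extProd_eq (α : X → ℤ) (β : Y → ℤ) (z : ↥(pullback f g)) :
    IntMult.extProd f g δX δY δ α β z =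
      if δ z = δX (pullback.fst f g z) + δY (pullback.snd f g z) then
        α (pullback.fst f g z) * β (pullback.snd f g z) else 0 := by
  simp only [IntMult.extProd]
  split_ifs with h
  · rw [maximalIdeal_sup_eq f g hX hY hXY h]
    have h1 : Module.length ((pullback f g).presheaf.stalk z)
        (((pullback f g).presheaf.stalk z) ⧸ IsLocalRing.maximalIdeal ((pullback f g).presheaf.stalk z)) = 1 :=
      Module.length_eq_one_iff.2 (isSimpleModule_iff_isCoatom.2
        (Ideal.isMaximal_def.1 (IsLocalRing.maximalIdeal.isMaximal _)))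
    simp [h1]
  · rfl

end Groth.Agent.IntMultLib
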