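import Groth.Agent.IntMultLib.ExtPoint
import Groth.Agent.CycLib.P1Div
import Groth.Agent.H23.SetupLFT
import Groth.Agent.H23.RatOn
import Groth.Agent.H23.C1Pull
import Groth.Agent.H23.RatEquivPull
import Mathlib

/-!
# Exterior products and rational equivalence
-/

set_option autoImplicit false
set_option linter.style.haveILetI false
set_option backward.isDefEq.respectTransparency.types false

universe u

open CategoryTheory CategoryTheory.Limits AlgebraicGeometry

namespace Groth.Agent.IntMultLib

theorem maximalIdeal_genericPoint {X : Scheme.{u}} [IsIntegral X] :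
    IsLocalRing.maximalIdeal (X.presheaf.stalk (genericPoint X)) = ⊥ := by
  by_contra h
  exact (Ring.not_isField_iff_exists_prime.2 ⟨_, h, (IsLocalRing.maximalIdeal.isMaximal _).isPrime⟩)
    (Field.toIsField X.functionField)

/-- The dimension function of a composite, read on the first morphism. -/
theorem deltaCompat_of_comp {X Y : Scheme.{u}} {K : Type u} [Field K] (q : X ⟶ Y)
    (g : Y ⟶ Spec (CommRingCat.of K)) [LocallyOfFiniteType q] [LocallyOfFiniteType g] {δX : X → ℤ} {δY : Y → ℤ}
    (h : Cyc.DeltaCompat (q ≫ g) δX (fun _ => 0)) (hY : Cyc.DeltaCompat g δY (fun _ => 0)) :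
    Cyc.DeltaCompat q δX δY := fun x =>
  ⟨FibDim.rd q x, (FibDim.rd_eq_rdeg q x).symm, by
    rw [CycLib.deltaCompat_eq (q ≫ g) h x, CycLib.deltaCompat_eq g hY (q x), CycLib.rd_comp]
    push_cast
    ring⟩

variable {K : Type u} [Field K] [IsAlgClosed K] {X Y : Scheme.{u}}
  (f : X ⟶ Spec (CommRingCat.of K)) (g : Y ⟶ Spec (CommRingCat.of K))
  [IsSeparated f] [LocallyOfFiniteType f] [QuasiCompact f] [IsSeparated g] [LocallyOfFiniteType g] [QuasiCompact g]
  {δX : X → ℤ} {δY : Y → ℤ} {δ : ↥(pullback f g) → ℤ}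

open Classical in
/-- The product of a cycle rationally equivalent to zero with one subvariety. -/
theorem zeroOn_extProd_point (hX : Cyc.DeltaCompat f δX (fun _ => 0)) (hY : Cyc.DeltaCompat g δY (fun _ => 0))
    (hXY : Cyc.DeltaCompat (pullback.fst f g ≫ f) δ (fun _ => 0)) {r : ℤ} {α : AlgebraicCycle X ℤ}
    (hα : Cyc.RatEquivZero δX r α) (η : Y) :
    H23.RatOn.ZeroOn δ (r + δY η) Set.univ fun z =>
      if δ z = δX (pullback.fst f g z) + δY (pullback.snd f g z) ∧ pullback.snd f g z = η then
        α (pullback.fst f g z) else 0 := by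
  let B := IntMult.ptIdeal η
  let ι := B.subschemeι
  let g' := ι ≫ g
  let q := pullback.fst f g'
  let i : pullback f g' ⟶ pullback f g := pullback.map f g' f g (𝟙 X) ι (𝟙 _) (by simp) (by simp [g'])
  haveI : IsClosedImmersion i :=
    MorphismProperty.pullback_map (P := @IsClosedImmersion.{u}) inferInstance inferInstance (by simp) (by simp [g'])
  have e1 : i ≫ pullback.fst f g = q := (pullback.lift_fst _ _ _).trans (Category.comp_id _)
  have e2 : i ≫ pullback.snd f g = pullback.snd f g' ≫ ι := pullback.lift_snd _ _ _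
  let δV : B.subscheme → ℤ := fun v => δY (ι v)
  let δP : ↥(pullback f g') → ℤ := fun w => δ (i w)
  have hV : Cyc.DeltaCompat g' δV (fun _ => 0) := CycLib.deltaCompat_closedImmersion_comp ι g hY
  have hP : Cyc.DeltaCompat (q ≫ f) δP (fun _ => 0) := by
    have := CycLib.deltaCompat_closedImmersion_comp i (pullback.fst f g ≫ f) hXY
    rwa [← Category.assoc, e1] at this
  have hgen : δV (genericPoint B.subscheme) = δY η := congrArg δY (subschemeι_genericPoint η)
  obtain ⟨s, hs⟩ : ∃ s : ℕ, δY η = s := ⟨_, delta_eq_deg g hY η⟩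
  have hle : ∀ w, δP w ≤ δX (q w) + s ∧
      (δP w = δX (q w) + s → pullback.snd f g' w = genericPoint B.subscheme) := fun w => by
    have h1 := delta_le_prod f g' hX hV hP w (specializes_refl (q w)) (specializes_refl (pullback.snd f g' w))
    have h2 := delta_le_of_specializes g' hV (genericPoint_specializes (pullback.snd f g' w))
    refine ⟨by omega, fun h => (eq_of_specializes_of_delta_le g' hV (genericPoint_specializes _) (by omega)).symm⟩
  have hshift : H23.FlatShift.HasShift q δP δX (s : ℤ) := fun x hx => by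
    have h1 := extPt_specializes f g' hX hV hP (q x) (genericPoint B.subscheme) (z := x) (specializes_refl _)
      (genericPoint_specializes _)
    conv_lhs => rw [← hx _ (fst_extPt f g' hX hV hP _ _) h1]
    exact (delta_extPt f g' hX hV hP _ _).trans (by rw [hgen, hs])
  have hqδ : Cyc.DeltaCompat q δP δX := deltaCompat_of_comp q f hP hX
  have hSX : Cyc.IsSetup X δX := H23.SetupLFT.isSetup f (CycLib.isSetup_spec_field K) hX
  have hSP : Cyc.IsSetup (pullback f g') δP := H23.SetupLFT.isSetup q hSX hqδ
  haveI := hSX.1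
  haveI := hSP.1
  haveI : IsLocallyNoetherian (pullback f g) := LocallyOfFiniteType.isLocallyNoetherian (pullback.fst f g ≫ f)
  let c : AlgebraicCycle (pullback f g') ℤ :=
    { toFun := Cyc.pullFun q δP δX s ⇑α
      supportWithinDomain' := fun _ _ => trivial
      supportLocallyFiniteWithinDomain' := fun z _ =>
        H23.C1Pull.locFin_pullFun hshift hSP.2.2 (fun x => α.supportLocallyFiniteWithinDomain x trivial) z }
  have hc : Cyc.RatEquivZero δP (r + s) c :=
    H23.DivPull.ratEquivZero_pull q hshift hSX.2.2 hSP.2.2 hα c rfl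
  have hval : ∀ w, c w = if δP w = δX (q w) + s then α (q w) else 0 := fun w => by
    show Cyc.pullFun q δP δX s (⇑α) w = _
    simp only [Cyc.pullFun]
    split_ifs with h
    swap
    · rfl
    have hv := (hle w).2 h
    have hm := maximalIdeal_sup_eq f g' hX hV hP (z := w) (by
      show δP w = δX (q w) + δV (pullback.snd f g' w)
      rw [hv, hgen, hs, h])
    have h0 : (IsLocalRing.maximalIdeal (B.subscheme.presheaf.stalk (pullback.snd f g' w))).map
        ((pullback.snd f g').stalkMap w).hom = ⊥ := by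
      have : IsLocalRing.maximalIdeal (B.subscheme.presheaf.stalk (pullback.snd f g' w)) = ⊥ := by
        rw [hv]; exact maximalIdeal_genericPoint
      rw [this, Ideal.map_bot]
    rw [h0, sup_bot_eq] at hm
    rw [show Ideal.map (q.stalkMap w).hom (IsLocalRing.maximalIdeal (X.presheaf.stalk (q w))) =
      IsLocalRing.maximalIdeal ((pullback f g').presheaf.stalk w) from hm]
    rw [Module.length_eq_one_iff.2 (isSimpleModule_iff_isCoatom.2
      (Ideal.isMaximal_def.1 (IsLocalRing.maximalIdeal.isMaximal _)))]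
    simp
  rw [hs]
  refine H23.RatOn.mono (H23.RatOn.push i (δ := δ) (H23.RatOn.of_ratEquivZero hc) (fun w => ?_) fun z hz => ?_)
    (Set.subset_univ _)
  · have e1' : pullback.fst f g (i w) = q w := by rw [← Scheme.Hom.comp_apply, e1]
    have e2' : pullback.snd f g (i w) = ι (pullback.snd f g' w) := by
      rw [← Scheme.Hom.comp_apply, e2, Scheme.Hom.comp_apply]
    rw [hval, e1', e2']
    refine if_congr ⟨fun ⟨h, h'⟩ => ?_, fun h => ?_⟩ rfl rfl
    · rw [h', hs] at h
      exact h
    · have h' : ι (pullback.snd f g' w) = η := by rw [(hle w).2 h]; exact subschemeι_genericPoint η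
      exact ⟨by rw [h', hs]; exact h, h'⟩
  · rw [if_neg]
    rintro ⟨-, h⟩
    refine hz ?_
    rw [Scheme.Pullback.range_map]
    exact ⟨⟨pullback.fst f g z, by simp⟩, ⟨genericPoint B.subscheme, by rw [h]; exact subschemeι_genericPoint η⟩⟩

/-- The exterior product with a cycle rationally equivalent to zero, on the left. -/
theorem zeroOn_extProd_left (hX : Cyc.DeltaCompat f δX (fun _ => 0)) (hY : Cyc.DeltaCompat g δY (fun _ => 0))
    (hXY : Cyc.DeltaCompat (pullback.fst f g ≫ f) δ (fun _ => 0)) {r s : ℤ} {α : AlgebraicCycle X ℤ}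
    {β : AlgebraicCycle Y ℤ} (hβ : β ∈ Cyc.Zk Y δY s) (hα : Cyc.RatEquivZero δX r α) :
    H23.RatOn.ZeroOn δ (r + s) Set.univ (IntMult.extProd f g δX δY δ ⇑α ⇑β) := by
  classical
  haveI : CompactSpace Y := QuasiCompact.compactSpace_of_compactSpace g
  have hfin : (Function.support ⇑β).Finite := by
    have := β.locallyFiniteSupport.finite_inter_support_of_isCompact (isCompact_univ (X := Y))
    rwa [Set.univ_inter] at this
  have hS : Cyc.IsSetup (pullback f g) δ :=
    H23.SetupLFT.isSetup (pullback.fst f g ≫ f) (CycLib.isSetup_spec_field K) hXY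
  haveI := hS.1
  let I := {η : Y // β η ≠ 0}
  have hI : ∀ η : I, H23.RatOn.ZeroOn δ (r + s) Set.univ fun z =>
      if δ z = δX (pullback.fst f g z) + δY (pullback.snd f g z) ∧ pullback.snd f g z = η.1 then
        α (pullback.fst f g z) else 0 := fun η => by
    have hd : δY η.1 = s := by_contra fun h => η.2 (hβ η.1 h)
    simpa only [hd] using zeroOn_extProd_point f g hX hY hXY hα η.1
  haveI : Finite I := hfin.to_subtype
  refine H23.RatOn.congr (H23.RatOn.sum hS.2.2 (fun η : I => β η.1) _ (fun _ => Set.univ) (fun _ => le_rfl) hI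
    fun x => ⟨Set.univ, isOpen_univ, trivial, Set.toFinite _⟩) fun z => ?_
  rw [extProd_eq f g hX hY hXY]
  by_cases h : β (pullback.snd f g z) = 0
  · rw [finsum_eq_zero_of_forall_eq_zero fun η : I => ?_]
    · simp [h]
    · rw [if_neg, mul_zero]
      exact fun h' => η.2 (h'.2 ▸ h)
  · rw [finsum_eq_single _ (⟨_, h⟩ : I) fun η hη => by
      rw [if_neg, mul_zero]; exact fun h' => hη (Subtype.ext h'.2.symm)]
    simp only [and_true]
    split_ifs <;> ring

/-- The exterior product with a cycle rationally equivalent to zero, on the right. -/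
theorem zeroOn_extProd_right (hX : Cyc.DeltaCompat f δX (fun _ => 0)) (hY : Cyc.DeltaCompat g δY (fun _ => 0))
    (hXY : Cyc.DeltaCompat (pullback.fst f g ≫ f) δ (fun _ => 0)) {r s : ℤ} {α : AlgebraicCycle X ℤ}
    (hα : α ∈ Cyc.Zk X δX r) {β : AlgebraicCycle Y ℤ} (hβ : Cyc.RatEquivZero δY s β) :
    H23.RatOn.ZeroOn δ (r + s) Set.univ (IntMult.extProd f g δX δY δ ⇑α ⇑β) := by
  let σ : pullback g f ⟶ pullback f g := (pullbackSymmetry g f).hom
  have hσ : Cyc.DeltaCompat (pullback.fst g f ≫ g) (fun w => δ (σ w)) (fun _ => 0) := by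
    have := CycLib.deltaCompat_closedImmersion_comp σ (pullback.fst f g ≫ f) hXY
    rwa [show σ ≫ pullback.fst f g ≫ f = pullback.fst g f ≫ g by
      rw [pullbackSymmetry_hom_comp_fst_assoc, pullback.condition]] at this
  haveI : IsLocallyNoetherian (pullback f g) := LocallyOfFiniteType.isLocallyNoetherian (pullback.fst f g ≫ f)
  rw [add_comm r s]
  refine H23.RatOn.mono (H23.RatOn.push σ (δ := δ) (zeroOn_extProd_left g f hY hX hσ hα hβ) (fun w => ?_)
    fun z hz => ?_) (Set.subset_univ _)
  · have e1 : pullback.fst f g (σ w) = pullback.snd g f w := by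
      rw [← Scheme.Hom.comp_apply, pullbackSymmetry_hom_comp_fst]
    have e2 : pullback.snd f g (σ w) = pullback.fst g f w := by
      rw [← Scheme.Hom.comp_apply, pullbackSymmetry_hom_comp_snd]
    rw [extProd_eq f g hX hY hXY, extProd_eq g f hY hX hσ, e1, e2, add_comm (δY _), mul_comm]
  · exact absurd ⟨(pullbackSymmetry g f).inv z, by rw [← Scheme.Hom.comp_apply, Iso.inv_hom_id]; rfl⟩ hz

end Groth.Agent.IntMultLib
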