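import Groth.Agent.IntMultLib.P1Inter
import Groth.Agent.CycLib.P1Div
import Groth.Agent.H23.RatOn
import Groth.Agent.H23.FundCycle
import Mathlib

/-!
# Pushing forward products with the sections
-/

set_option autoImplicit false
set_option linter.style.haveILetI false
set_option backward.isDefEq.respectTransparency.types false

universe u

open CategoryTheory CategoryTheory.Limits AlgebraicGeometry

namespace Groth.Agent.IntMultLib

variable {X : Scheme.{u}} {δ : X → ℤ} {δP : ↥(CohB1.ProjSpaceOver 1 X) → ℤ}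

theorem mapCoeff_sect (hP : Cyc.DeltaCompat (CohB1.ProjSpaceOver.toBase 1 X) δP δ) (j : Fin (1 + 1)) (x : X) :
    AlgebraicCycle.mapCoeff (CohB1.ProjSpaceOver.toBase 1 X) δP δ (P1.sect X j x) = 1 := by
  have e : CohB1.ProjSpaceOver.toBase 1 X (P1.sect X j x) = x := by
    rw [← Scheme.Hom.comp_apply, H23.P1Sect.sect_toBase]
    rfl
  rw [AlgebraicCycle.mapCoeff, if_pos (by
    show δP (P1.sect X j x) = δ (CohB1.ProjSpaceOver.toBase 1 X (P1.sect X j x))
    rw [e, H23.P1Fam.delta_sect hP])]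
  have h := CycLib.residueDegree_comp (P1.sect X j) (CohB1.ProjSpaceOver.toBase 1 X) x
  rw [CycLib.residueDegree_preimmersion (P1.sect X j)] at h
  have h' : (P1.sect X j ≫ CohB1.ProjSpaceOver.toBase 1 X).residueDegree x = 1 := by
    have hc : ∀ {W Y' : Scheme.{u}} (a b : W ⟶ Y'), a = b → ∀ w, a.residueDegree w = b.residueDegree w := by
      rintro W Y' a b rfl w; rfl
    rw [hc _ _ (H23.P1Sect.sect_toBase X j) x]
    exact CycLib.residueDegree_preimmersion (𝟙 X) x
  omega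

theorem finsum_fibre_sect (hP : Cyc.DeltaCompat (CohB1.ProjSpaceOver.toBase 1 X) δP δ) (j : Fin (1 + 1))
    (G : ↥(CohB1.ProjSpaceOver 1 X) → ℤ) (hG : ∀ p, p ∉ Set.range (P1.sect X j) → G p = 0) (x : X) :
    ∑ᶠ p ∈ CohB1.ProjSpaceOver.toBase 1 X ⁻¹' {x},
      G p * (AlgebraicCycle.mapCoeff (CohB1.ProjSpaceOver.toBase 1 X) δP δ p : ℤ) = G (P1.sect X j x) := by
  have e : ∀ y, CohB1.ProjSpaceOver.toBase 1 X (P1.sect X j y) = y := fun y => by
    rw [← Scheme.Hom.comp_apply, H23.P1Sect.sect_toBase]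
    rfl
  rw [finsum_mem_eq_sum_of_inter_support_eq _ (t := {P1.sect X j x}) ?_, Finset.sum_singleton, mapCoeff_sect hP,
    Nat.cast_one, mul_one]
  ext p
  simp only [Set.mem_inter_iff, Set.mem_preimage, Set.mem_singleton_iff, Function.mem_support, Finset.coe_singleton]
  refine ⟨fun ⟨h1, h2⟩ => ⟨?_, h2⟩, fun ⟨h1, h2⟩ => ⟨by rw [h1, e], h2⟩⟩
  obtain ⟨y, rfl⟩ : p ∈ Set.range (P1.sect X j) := by
    by_contra hn
    exact left_ne_zero_of_mul h2 (hG p hn)
  rw [e] at h1
  rw [h1]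

variable {K : Type u} [Field K] (f : X ⟶ Spec (CommRingCat.of K)) [Smooth f] [QuasiCompact f] [IsIntegral X]

open Classical in
include f in
theorem interProd_sect_eq_sum (hP : Cyc.DeltaCompat (CohB1.ProjSpaceOver.toBase 1 X) δP δ) {n : ℤ}
    (hn : δ (genericPoint X) = n) (k : ℤ) {α : ↥(CohB1.ProjSpaceOver 1 X) → ℤ}
    (hk : ∀ ξ, α ξ ≠ 0 → δP ξ = k + 1) (S : Finset ↥(CohB1.ProjSpaceOver 1 X)) (hS : ∀ ξ, ξ ∈ S ↔ α ξ ≠ 0)
    (j : Fin (1 + 1))
    (h : IntMult.IntersectProperly δP (n + 1) α (Set.indicator {P1.sect X j (genericPoint X)} 1)) :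
    (∀ x : X, IntMult.interProd δP (n + 1) α (Set.indicator {P1.sect X j (genericPoint X)} 1) (P1.sect X j x) =
      ∑ ξ ∈ S, α ξ * Cyc.subschemeFun δ k (pullback.snd (IntMult.ptIdeal ξ).subschemeι (P1.sect X j)) x) ∧
    ∀ p, p ∉ Set.range (P1.sect X j) →
      IntMult.interProd δP (n + 1) α (Set.indicator {P1.sect X j (genericPoint X)} 1) p = 0 := by
  have key : ∀ p, IntMult.interProd δP (n + 1) α (Set.indicator {P1.sect X j (genericPoint X)} 1) p =
      ∑ ξ ∈ S, α ξ * IntMult.interProd δP (n + 1) (Set.indicator {ξ} 1)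
        (Set.indicator {P1.sect X j (genericPoint X)} 1) p := fun p => by
    rw [interProd_eq_sum δP (n + 1) α _ p S {P1.sect X j (genericPoint X)} (fun ξ _ h => (hS ξ).2 h)
      (fun η _ h => by simpa using Set.mem_of_indicator_ne_zero h)]
    refine Finset.sum_congr rfl fun ξ _ => ?_
    rw [interProd_indicator, Finset.sum_singleton, Set.indicator_of_mem (Set.mem_singleton _)]
    split_ifs <;> simp
  refine ⟨fun x => ?_, fun p hp => ?_⟩
  · rw [key]
    refine Finset.sum_congr rfl fun ξ hξ => ?_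
    rw [(interProd_point_sect f hP hn k (hk ξ ((hS ξ).1 hξ)) j
      (not_mem_range_of_properly hP hn j h ((hS ξ).1 hξ))).1 x]
  · rw [key]
    refine Finset.sum_eq_zero fun ξ hξ => ?_
    rw [(interProd_point_sect f hP hn k (hk ξ ((hS ξ).1 hξ)) j
      (not_mem_range_of_properly hP hn j h ((hS ξ).1 hξ))).2 p hp, mul_zero]

/-- The difference of the fibres over zero and infinity of one subvariety. -/
theorem zeroOn_fibre_diff (hX : Cyc.IsSetup X δ) (hP : Cyc.DeltaCompat (CohB1.ProjSpaceOver.toBase 1 X) δP δ) (k : ℤ)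
    {ξ : ↥(CohB1.ProjSpaceOver 1 X)} (hξ : δP ξ = k + 1) (h : ∀ j, ξ ∉ Set.range (P1.sect X j)) :
    H23.RatOn.ZeroOn δ k Set.univ fun x =>
      Cyc.subschemeFun δ k (pullback.snd (IntMult.ptIdeal ξ).subschemeι (P1.sect X 0)) x -
      Cyc.subschemeFun δ k (pullback.snd (IntMult.ptIdeal ξ).subschemeι (P1.sect X 1)) x := by
  haveI := hX.1
  let ι := (IntMult.ptIdeal ξ).subschemeι
  have hdP := H23.SetupLFT.isSetup (CohB1.ProjSpaceOver.toBase 1 X) hX hP
  haveI := hdP.1
  haveI := LocallyOfFiniteType.isLocallyNoetherian ι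
  have hg : ∀ z, ξ ⤳ ι z := fun z => by
    have := ((genericPoint_spec (IntMult.ptIdeal ξ).subscheme).specializes trivial (y := z)).map ι.continuous
    rwa [subschemeι_genericPoint] at this
  have hex : ∀ j : Fin (1 + 1), ∃ c : AlgebraicCycle X ℤ,
      ⇑c = Cyc.subschemeFun δ k (pullback.snd ι (P1.sect X j)) := fun j =>
    haveI : IsLocallyNoetherian (pullback ι (P1.sect X j)) :=
      LocallyOfFiniteType.isLocallyNoetherian (pullback.snd ι (P1.sect X j))
    ⟨_, (H23.FundCycle.subschemeFun_closed (pullback.snd ι (P1.sect X j)) δ k).symm⟩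
  obtain ⟨α, hα⟩ := hex 0
  obtain ⟨β, hβ⟩ := hex 1
  have hr := H23.P1Closed.ratEquiv hX hP ι (fun z => hξ ▸ CycLib.delta_le hdP.2.2 (hg z)) (fun z hz => ?_)
    (fun z hz => Or.inl ?_) α β hα hβ
  · refine H23.RatOn.congr (H23.RatOn.of_ratEquivZero hr) fun x => ?_
    rw [Function.locallyFinsuppWithin.coe_sub, Pi.sub_apply, congrFun hα x, congrFun hβ x]
  · have hne : ξ ≠ ι z := fun e => by
      rcases hz with hz | hz
      · exact h 0 (e ▸ hz)
      · exact h 1 (e ▸ hz)
    have := CycLib.delta_lt hdP.2.2 (hg z) hne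
    omega
  · rw [H23.P1Closed.eq_genericPoint_of_associated hz, subschemeι_genericPoint]
    exact fun hh => hh.elim (h 0) (h 1)

end Groth.Agent.IntMultLib
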