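import Groth.Agent.IntMultLib.StalkIdeal
import Groth.Agent.S19416
import Mathlib

/-!
# Dimensions at a component of a proper intersection
-/

set_option autoImplicit false
set_option linter.style.haveILetI false
set_option backward.isDefEq.respectTransparency.types false

universe u

open CategoryTheory CategoryTheory.Limits AlgebraicGeometry

namespace Groth.Agent.IntMultLib

variable {k : Type u} [Field k] {X : Scheme.{u}} (f : X ⟶ Spec (CommRingCat.of k))

theorem topologicalKrullDim_closure_subtype [LocallyOfFiniteType f] {S : Set X} (hS : IsClosed S) (ζ : S) :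
    topologicalKrullDim ↥(closure ({ζ} : Set S)) = ((VarDim.deg f ζ.1 : ℕ∞) : WithBot ℕ∞) := by
  rw [← VarDim.topologicalKrullDim_closure_singleton f ζ.1]
  have hsub : Subtype.val '' closure ({ζ} : Set S) = closure {ζ.1} := by
    rw [← hS.isClosedEmbedding_subtypeVal.closure_image_eq, Set.image_singleton]
  exact IsHomeomorph.topologicalKrullDim_eq _
    (Topology.IsEmbedding.subtypeVal.homeomorphImage _ |>.trans (Homeomorph.setCongr hsub)).isHomeomorph

theorem le_deg_add_of_maximal [Smooth f] [IsSeparated f] [QuasiCompact f] [IsIntegral X]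
    (IV IW : X.IdealSheafData) [IsIntegral IV.subscheme] [IsIntegral IW.subscheme] {n r s : ℕ}
    (hn : topologicalKrullDim X = n) (hr : topologicalKrullDim IV.support = r)
    (hs : topologicalKrullDim IW.support = s) {ξ : X}
    (hξV : ξ ∈ IV.support) (hξW : ξ ∈ IW.support)
    (hmax : ∀ ξ' : X, ξ' ∈ IV.support → ξ' ∈ IW.support → ξ' ⤳ ξ → ξ' = ξ) :
    r + s ≤ VarDim.deg f ξ + n := by
  have hcl : IsClosed ((IV.support : Set X) ∩ IW.support) := IV.support.isClosed.inter IW.support.isClosed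
  have hirr : ∀ I : X.IdealSheafData, IsIntegral I.subscheme → IsIrreducible (I.support : Set X) := by
    intro I _
    rw [← Scheme.IdealSheafData.range_subschemeι, ← Set.image_univ]
    exact (IrreducibleSpace.isIrreducible_univ _).image _ I.subschemeι.continuous.continuousOn
  let ζ : ↥((IV.support : Set X) ∩ IW.support) := ⟨ξ, hξV, hξW⟩
  have hζ : ∀ y, y ⤳ ζ → y = ζ := fun y hy =>
    Subtype.ext (hmax y.1 y.2.1 y.2.2 (Topology.IsInducing.subtypeVal.specializes_iff.2 hy))
  haveI : QuasiSober X := inferInstance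
  haveI : QuasiSober ↥((IV.support : Set X) ∩ IW.support) := hcl.isClosedEmbedding_subtypeVal.quasiSober
  have h1 := S19416.result k X f n r s hn IV.support IW.support IV.support.isClosed (hirr IV inferInstance)
    IW.support.isClosed (hirr IW inferInstance) hr hs (closure {ζ})
    (FDescent.closure_mem_irreducibleComponents hζ)
  rw [topologicalKrullDim_closure_subtype f hcl ζ] at h1
  change _ ≤ ((VarDim.deg f ξ : ℕ∞) : WithBot ℕ∞) + _ at h1
  exact_mod_cast h1

theorem deg_add_eq_of_proper [Smooth f] [IsSeparated f] [QuasiCompact f] [IsIntegral X]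
    (IV IW : X.IdealSheafData) [IsIntegral IV.subscheme] [IsIntegral IW.subscheme] {n r s : ℕ}
    (hn : topologicalKrullDim X = n) (hr : topologicalKrullDim IV.support = r)
    (hs : topologicalKrullDim IW.support = s)
    (hprop : IntMult.ProperInt (IV.support : Set X) (IW.support : Set X) n r s) {ξ : X}
    (hξV : ξ ∈ IV.support) (hξW : ξ ∈ IW.support)
    (hmax : ∀ ξ' : X, ξ' ∈ IV.support → ξ' ∈ IW.support → ξ' ⤳ ξ → ξ' = ξ) :
    VarDim.deg f ξ + n = r + s := by
  have h1 := le_deg_add_of_maximal f IV IW hn hr hs hξV hξW hmax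
  have hcl : IsClosed ((IV.support : Set X) ∩ IW.support) := IV.support.isClosed.inter IW.support.isClosed
  let ζ : ↥((IV.support : Set X) ∩ IW.support) := ⟨ξ, hξV, hξW⟩
  obtain ⟨h2, h3⟩ := hprop ⟨ξ, hξV, hξW⟩
  have h4 : topologicalKrullDim ↥(closure ({ζ} : Set _)) ≤ ((r + s - n : ℕ) : WithBot ℕ∞) :=
    (Topology.IsInducing.subtypeVal.topologicalKrullDim_le).trans h3
  rw [topologicalKrullDim_closure_subtype f hcl ζ] at h4
  change ((VarDim.deg f ξ : ℕ∞) : WithBot ℕ∞) ≤ _ at h4
  have h4' : VarDim.deg f ξ ≤ r + s - n := Nat.cast_le.1 (WithBot.coe_le_coe.1 h4)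
  omega

/-- The algebraic situation at a component of a proper intersection. -/
theorem local_data [Smooth f] [IsSeparated f] [QuasiCompact f] [IsIntegral X]
    (IV IW : X.IdealSheafData) [IsIntegral IV.subscheme] [IsIntegral IW.subscheme] {n r s : ℕ}
    (hn : topologicalKrullDim X = n) (hr : topologicalKrullDim IV.support = r)
    (hs : topologicalKrullDim IW.support = s)
    (hprop : IntMult.ProperInt (IV.support : Set X) (IW.support : Set X) n r s) {ξ : X}
    (hξV : ξ ∈ IV.support) (hξW : ξ ∈ IW.support)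
    (hmax : ∀ ξ' : X, ξ' ∈ IV.support → ξ' ∈ IW.support → ξ' ⤳ ξ → ξ' = ξ) :
    IsRegularLocalRing (X.presheaf.stalk ξ) ∧
    (IntMult.stalkIdeal IV ξ).IsPrime ∧ (IntMult.stalkIdeal IW ξ).IsPrime ∧
    (IntMult.stalkIdeal IV ξ ⊔ IntMult.stalkIdeal IW ξ).radical = IsLocalRing.maximalIdeal _ ∧
    ∃ d a b : ℕ, ringKrullDim (X.presheaf.stalk ξ) = d ∧
      ringKrullDim (X.presheaf.stalk ξ ⧸ IntMult.stalkIdeal IV ξ) = a ∧
      ringKrullDim (X.presheaf.stalk ξ ⧸ IntMult.stalkIdeal IW ξ) = b ∧ a + b = d := by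
  refine ⟨isRegularLocalRing_stalk f ξ, isPrime_stalkIdeal IV hξV, isPrime_stalkIdeal IW hξW,
    sqrt_sup_eq_maximalIdeal IV IW hξV hξW hmax, ?_⟩
  obtain ⟨d, hd, hd'⟩ := exists_dim_stalk_of_isIntegral f ξ
  rw [deg_genericPoint_eq f hn] at hd'
  obtain ⟨a, ha, ha'⟩ := exists_dim_quotient f IV hr hξV
  obtain ⟨b, hb, hb'⟩ := exists_dim_quotient f IW hs hξW
  have := deg_add_eq_of_proper f IV IW hn hr hs hprop hξV hξW hmax
  exact ⟨d, a, b, hd, ha, hb, by omega⟩

end Groth.Agent.IntMultLib
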