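import Groth.Agent.IntMultLib.SectMult
import Groth.Agent.IntMultLib.P1Push
import Groth.Agent.IntMultLib.Proper
import Mathlib

/-!
# Products with a section and with a cylinder
-/

set_option autoImplicit false
set_option linter.style.haveILetI false
set_option backward.isDefEq.respectTransparency.types false

universe u

open CategoryTheory CategoryTheory.Limits AlgebraicGeometry

namespace Groth.Agent.IntMultLib

variable {K : Type u} [Field K] {P : Scheme.{u}}

/-- The product with one prime cycle, as a sum over one variable. -/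
theorem interProd_indicator_right {X : Scheme.{u}} (δ : X → ℤ) (n : ℤ) (α : X → ℤ) (b x : X) :
    IntMult.interProd δ n α (Set.indicator {b} 1) x =
      ∑ᶠ a : X, open Classical in if a ⤳ x ∧ b ⤳ x ∧ δ a + δ b - n = δ x then
        α a * IntMult.mult (IntMult.ptIdeal a) (IntMult.ptIdeal b) x else 0 := by
  classical
  rw [IntMult.interProd, finsum_subtype_eq_finsum_cond
    (f := fun p : X × X => α p.1 * (Set.indicator {b} 1 p.2 : ℤ) *
      IntMult.mult (IntMult.ptIdeal p.1) (IntMult.ptIdeal p.2) x)]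
  simp only [finsum_eq_if]
  have hinj : Function.Injective fun a : X => (a, b) := fun a a' h => congrArg Prod.fst h
  rw [← finsum_mem_univ, finsum_mem_inter_support_eq' _ Set.univ (Set.range fun a : X => (a, b)) ?_,
    finsum_mem_range hinj]
  · refine finsum_congr fun a => ?_
    simp
  · intro p hp
    simp only [Set.mem_univ, true_iff]
    simp only [Function.mem_support, ne_eq, ite_eq_right_iff, not_forall] at hp
    obtain ⟨-, h⟩ := hp
    have h' : p.2 = b := by
      have := Set.mem_of_indicator_ne_zero (s := {b}) (f := (1 : X → ℤ)) (a := p.2) fun h0 => h (by rw [h0]; ring)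
      simpa using this
    exact ⟨p.1, by rw [← h']⟩

theorem delta_le_of_properInt {X : Scheme.{u}} (f : X ⟶ Spec (CommRingCat.of K)) [LocallyOfFiniteType f]
    {δ : X → ℤ} (hδ : Cyc.DeltaCompat f δ (fun _ => 0)) {V W : Set X} (hV : IsClosed V) (hW : IsClosed W)
    {n r s : ℕ} (h : IntMult.ProperInt V W n r s) {z : X} (hzV : z ∈ V) (hzW : z ∈ W) :
    δ z ≤ (r : ℤ) + s - n := by
  obtain ⟨h1, h2⟩ := h ⟨z, hzV, hzW⟩
  let ζ : ↥(V ∩ W) := ⟨z, hzV, hzW⟩
  have h3 : topologicalKrullDim ↥(closure ({ζ} : Set ↥(V ∩ W))) ≤ ((r + s - n : ℕ) : WithBot ℕ∞) :=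
    (Topology.IsInducing.subtypeVal.topologicalKrullDim_le).trans h2
  rw [topologicalKrullDim_closure_subtype f (hV.inter hW) ζ] at h3
  change ((VarDim.deg f z : ℕ∞) : WithBot ℕ∞) ≤ _ at h3
  have h4 : VarDim.deg f z ≤ r + s - n := Nat.cast_le.1 (WithBot.coe_le_coe.1 h3)
  rw [delta_eq_deg f hδ z]
  omega

/-- A common specialization has a generization of at least the expected dimension. -/
theorem exists_gen_expected {X : Scheme.{u}} (f : X ⟶ Spec (CommRingCat.of K)) [IsAlgClosed K] [Smooth f]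
    [IsSeparated f] [QuasiCompact f] [IsIntegral X] {δ : X → ℤ} (hδ : Cyc.DeltaCompat f δ (fun _ => 0)) {n : ℤ}
    (hn : δ (genericPoint X) = n) {a b x : X} (ha : a ⤳ x) (hb : b ⤳ x) :
    ∃ w, w ⤳ x ∧ a ⤳ w ∧ b ⤳ w ∧ δ a + δ b - n ≤ δ w ∧
      ∀ z, a ⤳ z → b ⤳ z → z ⤳ w → z = w := by
  haveI := isNoetherianRing_stalk f x
  obtain ⟨Q, hQ, -⟩ := Ideal.exists_minimalPrimes_le
    (I := (CDiv6.primeOf ha).asIdeal ⊔ (CDiv6.primeOf hb).asIdeal)
    (J := IsLocalRing.maximalIdeal (X.presheaf.stalk x))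
    (sup_le (IsLocalRing.le_maximalIdeal (CDiv6.primeOf ha).2.ne_top)
      (IsLocalRing.le_maximalIdeal (CDiv6.primeOf hb).2.ne_top))
  haveI := hQ.1.1
  obtain ⟨w, hw, hwQ⟩ := H23.StalkPrimes.exists_point Q
  have haw : a ⤳ w := (H23.StalkPrimes.primeOf_le_iff hw ha).1 (hwQ ▸ le_sup_left.trans hQ.1.2)
  have hbw : b ⤳ w := (H23.StalkPrimes.primeOf_le_iff hw hb).1 (hwQ ▸ le_sup_right.trans hQ.1.2)
  have hmax : ∀ z, a ⤳ z → b ⤳ z → z ⤳ w → z = w := fun z h1 h2 h3 => by
    have hle := (H23.StalkPrimes.primeOf_le_iff hw (h3.trans hw)).2 h3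
    refine H23.StalkPrimes.primeOf_inj (h3.trans hw) hw (le_antisymm hle ?_)
    rw [hwQ] at hle ⊢
    exact hQ.2 ⟨(CDiv6.primeOf (h3.trans hw)).2,
      sup_le ((H23.StalkPrimes.primeOf_le_iff (h3.trans hw) ha).2 h1)
        ((H23.StalkPrimes.primeOf_le_iff (h3.trans hw) hb).2 h2)⟩ hle
  refine ⟨w, hw, haw, hbw, ?_, hmax⟩
  have h := le_deg_add_of_maximal f (IntMult.ptIdeal a) (IntMult.ptIdeal b)
    (n := VarDim.deg f (genericPoint X)) (r := VarDim.deg f a) (s := VarDim.deg f b)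
    (by rw [VarDim.topologicalKrullDim_eq_deg_genericPoint f]; rfl)
    (topologicalKrullDim_ptIdeal f a) (topologicalKrullDim_ptIdeal f b)
    (mem_ptIdeal_support.2 haw) (mem_ptIdeal_support.2 hbw)
    fun z h1 h2 h3 => hmax z (mem_ptIdeal_support.1 h1) (mem_ptIdeal_support.1 h2) h3
  rw [← hn, delta_eq_deg f hδ, delta_eq_deg f hδ, delta_eq_deg f hδ, delta_eq_deg f hδ]
  omega

/-- The fibre of an integral closed subscheme depends only on its generic point. -/
theorem subschemeFun_fibre_congr {X : Scheme.{u}} {δ : X → ℤ} {δP : ↥(CohB1.ProjSpaceOver 1 X) → ℤ}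
    (hP : Cyc.DeltaCompat (CohB1.ProjSpaceOver.toBase 1 X) δP δ) (k : ℤ) {W : Scheme.{u}} [IsIntegral W]
    (ι : W ⟶ CohB1.ProjSpaceOver 1 X) [IsClosedImmersion ι] (j : Fin (1 + 1)) (x : X) :
    Cyc.subschemeFun δ k (pullback.snd ι (P1.sect X j)) x =
      Cyc.subschemeFun δ k (pullback.snd (IntMult.ptIdeal (ι (genericPoint W))).subschemeι (P1.sect X j)) x := by
  rw [subschemeFun_fibre hP, subschemeFun_fibre hP, Scheme.IdealSheafData.ker_subschemeι]
  have key : ∀ p, IntMult.stalkIdeal ι.ker p =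
      IntMult.stalkIdeal (IntMult.ptIdeal (ι (genericPoint W))) p := fun p => by
    by_cases hp : p ∈ Set.range ι
    · obtain ⟨w, rfl⟩ := hp
      rw [stalkIdeal_ker_eq_primeOf, stalkIdeal_ptIdeal ((genericPoint_specializes w).map ι.continuous)]
    · rw [stalkIdeal_eq_top_of_notMem _ (fun h => hp ((mem_support_ker ι).1 h)),
        stalkIdeal_eq_top_of_notMem _ (fun h => hp
          ((mem_ptIdeal_support.1 h).mem_closed ι.isClosedEmbedding.isClosed_range ⟨_, rfl⟩))]
  rw [key]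

open Classical in
/-- A cycle on a section times a cylinder, computed downstairs. -/
theorem interProd_sect_cylinder {δ : P → ℤ} {δ' : ↥(CohB1.ProjSpaceOver 1 P) → ℤ}
    (hδ' : Cyc.DeltaCompat (CohB1.ProjSpaceOver.toBase 1 P) δ' δ) (N : ℤ) (j : Fin (1 + 1)) {v : P}
    {ζ : ↥(CohB1.ProjSpaceOver 1 P)} (hπ : CohB1.ProjSpaceOver.toBase 1 P ζ = v) (hζ : δ' ζ = δ v + 1)
    (hcyl : ∀ (p : ↥(CohB1.ProjSpaceOver 1 P)) (hv : v ⤳ CohB1.ProjSpaceOver.toBase 1 P p), ∃ h : ζ ⤳ p,
      (CDiv6.primeOf h).asIdeal =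
        (CDiv6.primeOf hv).asIdeal.map ((CohB1.ProjSpaceOver.toBase 1 P).stalkMap p).hom)
    (β : P → ℤ) (F : ↥(CohB1.ProjSpaceOver 1 P) → ℤ) (hF : ∀ y, F (P1.sect P j y) = β y)
    (hF0 : ∀ p, p ∉ Set.range (P1.sect P j) → F p = 0) :
    (∀ x, IntMult.interProd δ' (N + 1) F (Set.indicator {ζ} 1) (P1.sect P j x) =
      IntMult.interProd δ N β (Set.indicator {v} 1) x) ∧
    ∀ p, p ∉ Set.range (P1.sect P j) → IntMult.interProd δ' (N + 1) F (Set.indicator {ζ} 1) p = 0 := by
  haveI := smooth_p1Over P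
  let s := P1.sect P j
  have hiff : ∀ a x, s a ⤳ s x ↔ a ⤳ x := fun a x => s.isClosedEmbedding.isInducing.specializes_iff
  have hζx : ∀ x, ζ ⤳ s x ↔ v ⤳ x := fun x => by
    refine ⟨fun h => ?_, fun h => (hcyl (s x) (h.trans (specializes_of_eq (toBase_sect_apply j x).symm))).fst⟩
    have := h.map (CohB1.ProjSpaceOver.toBase 1 P).continuous
    rwa [hπ, toBase_sect_apply] at this
  refine ⟨fun x => ?_, fun p hp => ?_⟩
  · rw [interProd_indicator_right, interProd_indicator_right, ← finsum_mem_univ,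
      finsum_mem_inter_support_eq' _ Set.univ (Set.range s) ?_, finsum_mem_range s.isClosedEmbedding.injective]
    · refine finsum_congr fun a => ?_
      simp only [hiff, hζx, hF, H23.P1Fam.delta_sect hδ', hζ, s]
      by_cases h : a ⤳ x ∧ v ⤳ x ∧ δ a + δ v - N = δ x
      · rw [if_pos h, if_pos ⟨h.1, h.2.1, by omega⟩, mult_sect j h.1 h.2.1 hcyl]
      · rw [if_neg h, if_neg fun h' => h ⟨h'.1, h'.2.1, by omega⟩]
    · intro p hp
      simp only [Set.mem_univ, true_iff]
      by_contra hn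
      simp only [Function.mem_support, hF0 p hn, zero_mul, ite_self] at hp
      exact hp rfl
  · rw [interProd_indicator_right]
    refine finsum_eq_zero_of_forall_eq_zero fun a => ?_
    split_ifs with h
    · rw [hF0 a fun ⟨y, hy⟩ => hp ((hy ▸ h.1 : s y ⤳ p).mem_closed s.isClosedEmbedding.isClosed_range ⟨y, rfl⟩),
        zero_mul]
    · rfl

end Groth.Agent.IntMultLib
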