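import Mathlib.Algebra.Group.ForwardDiff
import Mathlib.Analysis.SpecificLimits.Basic
import Mathlib.Tactic

/-!
# Sequences with constant finite differences
-/

set_option autoImplicit false

open Finset fwdDiff

namespace Groth.Agent.IntMultLib

theorem exists_bound_of_fwdDiff : ∀ (r : ℕ) (g : ℕ → ℤ), (∀ m, Δ_[1]^[r] g m = 0) →
    ∃ C : ℕ, ∀ m, |g m| * ((m : ℤ) + 1) ≤ C * ((m : ℤ) + 1) ^ r
  | 0, g, h => ⟨0, fun m => by simp [show g m = 0 by simpa using h m]⟩
  | r + 1, g, hg => by
    obtain ⟨C, hC⟩ := exists_bound_of_fwdDiff r (Δ_[1] g) fun m => by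
      rw [← Function.iterate_succ_apply]; exact hg m
    refine ⟨(g 0).natAbs + C, fun m => ?_⟩
    suffices h : |g m| ≤ (((g 0).natAbs + C : ℕ) : ℤ) * ((m : ℤ) + 1) ^ r by
      have := mul_le_mul_of_nonneg_right h (show (0 : ℤ) ≤ (m : ℤ) + 1 by positivity)
      rwa [mul_assoc, ← pow_succ] at this
    induction m with
    | zero => simp [Int.natCast_natAbs]
    | succ m ih =>
      have hd := hC m
      have hdiff : g (m + 1) = g m + Δ_[1] g m := by simp [fwdDiff]
      push_cast at ih hd ⊢
      rw [hdiff]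
      refine le_trans (abs_add_le _ _) ?_
      have hm : (0 : ℤ) < (m : ℤ) + 1 := by positivity
      rcases r with _ | r
      · have h1 : |Δ_[1] g m| = 0 := by
          have hz : Δ_[1] g m = 0 := by simpa using hg m
          rw [hz, abs_zero]
        simp only [pow_zero] at ih ⊢
        linarith
      · have h1 : |Δ_[1] g m| ≤ (C : ℤ) * ((m : ℤ) + 1) ^ r := by
          refine le_of_mul_le_mul_right ?_ hm
          rw [mul_assoc, ← pow_succ]; exact hd
        have hpow : ((m : ℤ) + 1) ^ r ≤ ((m : ℤ) + 1 + 1) ^ r := pow_le_pow_left₀ hm.le (by linarith) r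
        have hr0 : (0 : ℤ) ≤ ((m : ℤ) + 1) ^ r := by positivity
        have hr1 : (0 : ℤ) ≤ ((m : ℤ) + 1 + 1) ^ r := by positivity
        rw [pow_succ] at ih ⊢
        nlinarith [abs_nonneg (g 0), mul_le_mul_of_nonneg_left hpow
          (show (0 : ℤ) ≤ |g 0| + C by positivity)]

end Groth.Agent.IntMultLib
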