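import Mathlib.RingTheory.Length
import Mathlib.Algebra.BigOperators.Intervals
import Mathlib.Tactic

/-!
# Euler characteristic of a filtered complex

For a bounded complex `T` with submodules `F k` of finite colength such that `d (F (k+1)) ≤ F k` and every
cycle in `F k` is the boundary of an element of `F (k+1)`, the Euler characteristic of the homology of `T` is
the alternating sum of the lengths of `T k ⧸ F k`.
-/

set_option autoImplicit false

universe u v

open Finset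

namespace Groth.Agent.IntMultLib

variable {A : Type u} [CommRing A] {T : ℕ → Type v} [∀ k, AddCommGroup (T k)] [∀ k, Module A (T k)]

/-- Cycles of a chain complex indexed by `ℕ`; everything is a cycle in degree `0`. -/
def cyc (d : ∀ k, T (k + 1) →ₗ[A] T k) : ∀ k, Submodule A (T k)
  | 0 => ⊤
  | k + 1 => LinearMap.ker (d k)

/-- Boundaries. -/
def bdy (d : ∀ k, T (k + 1) →ₗ[A] T k) (k : ℕ) : Submodule A (T k) := LinearMap.range (d k)

/-- The length of the homology. -/
noncomputable def hlen (d : ∀ k, T (k + 1) →ₗ[A] T k) (k : ℕ) : ℕ∞ :=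
  Module.length A (↥(cyc d k) ⧸ (bdy d k).submoduleOf (cyc d k))

/-- The length of the image of a submodule in `T ⧸ F`. -/
noncomputable def imLen {k : ℕ} (F S : Submodule A (T k)) : ℕ∞ := Module.length A ↥(S.map F.mkQ)

variable (d : ∀ k, T (k + 1) →ₗ[A] T k) (F : ∀ k, Submodule A (T k))

theorem bdy_le_cyc (hdd : ∀ k x, d k (d (k + 1) x) = 0) : ∀ k, bdy d k ≤ cyc d k
  | 0 => le_top
  | k + 1 => by
    rintro _ ⟨x, rfl⟩
    exact hdd k x

theorem imLen_cyc_zero : imLen (F 0) (cyc d 0) = Module.length A (T 0 ⧸ F 0) := by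
  rw [imLen, cyc, Submodule.map_top, Submodule.range_mkQ, Module.length_top]

theorem length_quot_succ (hdd : ∀ k x, d k (d (k + 1) x) = 0)
    (hF : ∀ k, ∀ x ∈ F (k + 1), d k x ∈ F k)
    (hex : ∀ k, ∀ x ∈ cyc d k, x ∈ F k → ∃ y ∈ F (k + 1), d k y = x) (k : ℕ) :
    Module.length A (T (k + 1) ⧸ F (k + 1)) = imLen (F (k + 1)) (cyc d (k + 1)) + imLen (F k) (bdy d k) := by
  let g : (T (k + 1) ⧸ F (k + 1)) →ₗ[A] T k ⧸ F k := Submodule.mapQ _ _ (d k) fun x hx => hF k x hx
  have hker : LinearMap.ker g = (cyc d (k + 1)).map (F (k + 1)).mkQ := by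
    refine le_antisymm (fun q hq => ?_) ?_
    · obtain ⟨x, rfl⟩ := Submodule.Quotient.mk_surjective _ q
      have hx : d k x ∈ F k := (Submodule.Quotient.mk_eq_zero _).1 hq
      obtain ⟨y, hy, hyx⟩ := hex k (d k x) (bdy_le_cyc d hdd k ⟨x, rfl⟩) hx
      refine ⟨x - y, ?_, ?_⟩
      · show d k (x - y) = 0
        rw [map_sub, hyx, sub_self]
      · show Submodule.Quotient.mk (x - y) = _
        exact (Submodule.Quotient.eq _).2 (by rw [sub_sub_cancel_left]; exact neg_mem hy)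
    · rintro _ ⟨x, hx, rfl⟩
      show g (Submodule.Quotient.mk x) = 0
      rw [Submodule.mapQ_apply, show d k x = 0 from hx, Submodule.Quotient.mk_zero]
  have hrange : LinearMap.range g = (bdy d k).map (F k).mkQ := by
    rw [show g = Submodule.mapQ _ _ (d k) fun x hx => hF k x hx from rfl, Submodule.range_mapQ]
    rfl
  have h := Module.length_eq_add_of_exact (LinearMap.ker g).subtype g.rangeRestrict
    (LinearMap.ker g).injective_subtype g.surjective_rangeRestrict (by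
      rw [LinearMap.exact_iff, LinearMap.ker_rangeRestrict, Submodule.range_subtype])
  rw [h, (LinearEquiv.ofEq _ _ hker).length_eq, (LinearEquiv.ofEq _ _ hrange).length_eq]
  rfl

theorem imLen_cyc (hdd : ∀ k x, d k (d (k + 1) x) = 0)
    (hex : ∀ k, ∀ x ∈ cyc d k, x ∈ F k → ∃ y ∈ F (k + 1), d k y = x) (k : ℕ) :
    imLen (F k) (cyc d k) = imLen (F k) (bdy d k) + hlen d k := by
  let Z' : Submodule A (T k ⧸ F k) := (cyc d k).map (F k).mkQ
  let B' : Submodule A (T k ⧸ F k) := (bdy d k).map (F k).mkQ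
  let B₀ : Submodule A ↥Z' := B'.submoduleOf Z'
  let π : ↥(cyc d k) →ₗ[A] ↥Z' ⧸ B₀ :=
    B₀.mkQ ∘ₗ ((F k).mkQ ∘ₗ (cyc d k).subtype).codRestrict Z' fun z => ⟨z.1, z.2, rfl⟩
  have hπ : Function.Surjective π := fun q => by
    obtain ⟨⟨w, z, hz, hw⟩, rfl⟩ := Submodule.Quotient.mk_surjective _ q
    exact ⟨⟨z, hz⟩, congrArg (Submodule.Quotient.mk (p := B₀)) (Subtype.ext hw)⟩
  have hker : LinearMap.ker π = (bdy d k).submoduleOf (cyc d k) := by
    refine le_antisymm (fun z hz => ?_) (fun z hz => ?_)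
    · obtain ⟨b, hb, hbz⟩ : (F k).mkQ z.1 ∈ B' := (Submodule.Quotient.mk_eq_zero B₀).1 hz
      have hzb : z.1 - b ∈ F k := (Submodule.Quotient.eq _).1 hbz.symm
      obtain ⟨y, -, hy⟩ := hex k _ ((cyc d k).sub_mem z.2 (bdy_le_cyc d hdd k hb)) hzb
      show z.1 ∈ bdy d k
      rw [show z.1 = (z.1 - b) + b from (sub_add_cancel _ _).symm]
      exact (bdy d k).add_mem ⟨y, hy⟩ hb
    · exact (Submodule.Quotient.mk_eq_zero B₀).2 (show (F k).mkQ z.1 ∈ B' from ⟨z.1, hz, rfl⟩)
  have hle : B' ≤ Z' := Submodule.map_mono (bdy_le_cyc d hdd k)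
  have h : Module.length A ↥Z' = Module.length A ↥B₀ + Module.length A (↥Z' ⧸ B₀) :=
    Module.length_eq_add_of_exact (M := ↥Z') (N := ↥B₀) (P := ↥Z' ⧸ B₀) B₀.subtype B₀.mkQ
      B₀.injective_subtype B₀.mkQ_surjective (LinearMap.exact_subtype_mkQ B₀)
  show Module.length A ↥Z' = _
  rw [h, (Submodule.submoduleOfEquivOfLe hle).length_eq,
    ← (π.quotKerEquivOfSurjective hπ).length_eq, (Submodule.quotEquivOfEq _ _ hker).length_eq]
  rfl

/-- The Euler characteristic of a filtered complex. -/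
theorem euler_eq (hdd : ∀ k x, d k (d (k + 1) x) = 0)
    (hF : ∀ k, ∀ x ∈ F (k + 1), d k x ∈ F k)
    (hex : ∀ k, ∀ x ∈ cyc d k, x ∈ F k → ∃ y ∈ F (k + 1), d k y = x)
    (hfin : ∀ k, Module.length A (T k ⧸ F k) ≠ ⊤) (r : ℕ) (hr : Subsingleton (T (r + 1))) :
    (∀ k, hlen d k ≠ ⊤) ∧
      ∑ k ∈ range (r + 1), (-1 : ℤ) ^ k * ((hlen d k).toNat : ℤ) =
        ∑ k ∈ range (r + 1), (-1 : ℤ) ^ k * ((Module.length A (T k ⧸ F k)).toNat : ℤ) := by
  have hzb := imLen_cyc d F hdd hex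
  have hne : ∀ (k : ℕ) (S : Submodule A (T k)), imLen (F k) S ≠ ⊤ := fun k S h =>
    hfin k (top_le_iff.1 (h ▸ Module.length_le_of_injective _ (Submodule.injective_subtype _)))
  have hh : ∀ k, hlen d k ≠ ⊤ := fun k h => hne k (cyc d k) (by rw [hzb, h, add_top])
  refine ⟨hh, ?_⟩
  have hz : ∀ k, ((imLen (F k) (cyc d k)).toNat : ℤ) =
      (imLen (F k) (bdy d k)).toNat + (hlen d k).toNat := fun k => by
    rw [hzb, ENat.toNat_add (hne k _) (hh k)]; push_cast; rfl
  have key : ∀ n, ∑ k ∈ range (n + 1), (-1 : ℤ) ^ k * ((Module.length A (T k ⧸ F k)).toNat : ℤ) =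
      (∑ k ∈ range (n + 1), (-1 : ℤ) ^ k * ((hlen d k).toNat : ℤ)) +
        (-1 : ℤ) ^ n * (imLen (F n) (bdy d n)).toNat := by
    intro n
    induction n with
    | zero => rw [sum_range_one, sum_range_one, ← imLen_cyc_zero d F, hz 0]; ring
    | succ n ih =>
      rw [sum_range_succ, sum_range_succ _ (n + 1), ih, length_quot_succ d F hdd hF hex n,
        ENat.toNat_add (hne _ _) (hne _ _), Nat.cast_add, hz (n + 1)]
      ring
  have h0 : imLen (F r) (bdy d r) = 0 := by
    rw [imLen, Module.length_eq_zero_iff]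
    refine subsingleton_of_forall_eq 0 ?_
    rintro ⟨_, b, ⟨y, hy⟩, rfl⟩
    have hb : b = 0 := by rw [← hy, Subsingleton.elim y 0, map_zero]
    exact Subtype.ext (show (F r).mkQ b = 0 by rw [hb, map_zero])
  rw [key r, h0]
  simp

end Groth.Agent.IntMultLib
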