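import Groth.Agent.WiebeLib.Basic
import Groth.Agent.IntMultLib.Telescope
import Groth.Agent.IntMultLib.Growth
import Mathlib.RingTheory.Filtration
import Mathlib.RingTheory.KrullDimension.Module
import Mathlib

/-!
# Samuel functions and the Euler characteristic of the Koszul complex (Serre)

For elements `g` of a noetherian ring and a finite module `M` such that `M/IM` has finite length, `I = (g)`, the
`r`-th difference of `t ↦ length (M/I^t M)` is eventually the Euler characteristic of `K(g) ⊗ M`; hence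
`r! * length (M/I^t M) / t^r` tends to it.
-/

set_option autoImplicit false

universe u

open Finset TensorProduct fwdDiff Filter Topology Groth.Agent.WiebeLib

namespace Groth.Agent.IntMultLib

variable {A : Type u} [CommRing A]

theorem mul_ne_top' {a b : ℕ∞} (ha : a ≠ ⊤) (hb : b ≠ ⊤) : a * b ≠ ⊤ := by
  lift a to ℕ using ha
  lift b to ℕ using hb
  exact_mod_cast ENat.natCast_ne_top (a * b)

theorem card_idx : ∀ n k : ℕ, Fintype.card (Idx n k) = n.choose k
  | 0, 0 => rfl
  | 0, _ + 1 => rfl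
  | n + 1, 0 => by
    show @Fintype.card (Idx n 0) (instFintypeIdx n 0) = _
    rw [card_idx n 0, Nat.choose_zero_right, Nat.choose_zero_right]
  | n + 1, k + 1 => by
    show @Fintype.card (Idx n (k + 1) ⊕ Idx n k) _ = _
    rw [Fintype.card_sum, card_idx n (k + 1), card_idx n k, Nat.choose_succ_succ, add_comm]

/-- The coordinates of a boundary lie in every ideal containing the sequence. -/
theorem d_apply_mem {I : Ideal A} : ∀ (n : ℕ) (g : Fin n → A), (∀ i, g i ∈ I) →
    ∀ (k : ℕ) (x : Ko A n (k + 1)) (i : Idx n k), d n g k x i ∈ I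
  | 0, g, _, k, x, i => by simp [d]
  | n + 1, g, hg, 0, x, i => by
    show d n (fun i => g i.succ) 0 (fstL n 0 x) i + g 0 * sndL n 0 x i ∈ I
    exact I.add_mem (d_apply_mem n _ (fun i => hg _) 0 _ i) (I.mul_mem_right _ (hg 0))
  | n + 1, g, hg, k + 1, x, .inl i => by
    show d n (fun i => g i.succ) (k + 1) (fstL n (k + 1) x) i + g 0 * sndL n (k + 1) x i ∈ I
    exact I.add_mem (d_apply_mem n _ (fun i => hg _) _ _ i) (I.mul_mem_right _ (hg 0))
  | n + 1, g, hg, k + 1, x, .inr i => by
    show -(d n (fun i => g i.succ) k (sndL n (k + 1) x) i) ∈ I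
    exact I.neg_mem (d_apply_mem n _ (fun i => hg _) _ _ i)

theorem d_mem_smul_top {I : Ideal A} {n : ℕ} (g : Fin n → A) (hg : ∀ i, g i ∈ I) (k : ℕ)
    (x : Ko A n (k + 1)) : d n g k x ∈ I • (⊤ : Submodule A (Ko A n k)) := by
  rw [pi_eq_sum_univ (d n g k x)]
  exact Submodule.sum_mem _ fun i _ =>
    Submodule.smul_mem_smul (d_apply_mem n g hg k x i) Submodule.mem_top

variable (M : Type u) [AddCommGroup M] [Module A M] {r : ℕ}

/-- The terms of `K(g) ⊗ M`. -/
abbrev KT (r k : ℕ) : Type u := Ko A r k ⊗[A] M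

/-- The differential of `K(g) ⊗ M`. -/
noncomputable def dT (g : Fin r → A) (k : ℕ) : KT (A := A) M r (k + 1) →ₗ[A] KT (A := A) M r k :=
  (d r g k).rTensor M

/-- The homotopy of `K(g) ⊗ M`. -/
noncomputable def etaT (v : Fin r → A) (k : ℕ) : KT (A := A) M r k →ₗ[A] KT (A := A) M r (k + 1) :=
  (eta r v k).rTensor M

theorem dT_dT (g : Fin r → A) (k : ℕ) (x : KT (A := A) M r (k + 1 + 1)) :
    dT M g k (dT M g (k + 1) x) = 0 := by
  have h : d r g k ∘ₗ d r g (k + 1) = 0 := LinearMap.ext (d_d r g k)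
  rw [dT, dT, ← LinearMap.comp_apply, ← LinearMap.rTensor_comp, h, LinearMap.rTensor_zero,
    LinearMap.zero_apply]

theorem dT_etaT_of_cyc (g v : Fin r → A) : ∀ (k : ℕ) (x : KT (A := A) M r k),
    x ∈ cyc (T := KT (A := A) M r) (dT M g) k → dT M g k (etaT M v k x) = (∑ i, v i * g i) • x
  | 0, x, _ => by
    have h : d r g 0 ∘ₗ eta r v 0 = (∑ i, v i * g i) • LinearMap.id := LinearMap.ext (d_eta_zero r g v)
    rw [dT, etaT, ← LinearMap.comp_apply, ← LinearMap.rTensor_comp, h, LinearMap.rTensor_smul,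
      LinearMap.rTensor_id, LinearMap.smul_apply, LinearMap.id_apply]
  | k + 1, x, hx => by
    have h : d r g (k + 1) ∘ₗ eta r v (k + 1) + eta r v k ∘ₗ d r g k =
        (∑ i, v i * g i) • LinearMap.id := LinearMap.ext (d_eta r g v k)
    have h' := LinearMap.congr_fun (congrArg (LinearMap.rTensor M) h) x
    rw [LinearMap.rTensor_add, LinearMap.rTensor_comp, LinearMap.rTensor_comp, LinearMap.rTensor_smul,
      LinearMap.rTensor_id] at h'
    simp only [LinearMap.add_apply, LinearMap.comp_apply, LinearMap.smul_apply, LinearMap.id_apply] at h'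
    have h0 : (d r g k).rTensor M x = 0 := hx
    rw [h0, map_zero, add_zero] at h'
    exact h'

theorem dT_mem {I : Ideal A} (g : Fin r → A) (hg : ∀ i, g i ∈ I) (k m : ℕ)
    {x : KT (A := A) M r (k + 1)} (hx : x ∈ I ^ m • (⊤ : Submodule A (KT (A := A) M r (k + 1)))) :
    dT M g k x ∈ I ^ (m + 1) • (⊤ : Submodule A (KT (A := A) M r k)) := by
  have h1 : ∀ y, dT M g k y ∈ I • (⊤ : Submodule A (KT (A := A) M r k)) := fun y => by
    induction y using TensorProduct.induction_on with
    | zero => simp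
    | tmul p q =>
      have := Submodule.mem_map_of_mem (f := (TensorProduct.mk A (Ko A r k) M).flip q) (d_mem_smul_top g hg k p)
      rw [Submodule.map_smul''] at this
      exact Submodule.smul_mono le_rfl le_top this
    | add a b ha hb => rw [map_add]; exact add_mem ha hb
  rw [pow_succ, Submodule.mul_smul]
  induction hx using Submodule.smul_induction_on' with
  | smul a ha y _ => rw [map_smul]; exact Submodule.smul_mem_smul ha (h1 y)
  | add a _ b _ ha hb => rw [map_add]; exact add_mem ha hb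

theorem etaT_mem {I : Ideal A} (v : Fin r → A) (k m : ℕ) {x : KT (A := A) M r k}
    (hx : x ∈ I ^ m • (⊤ : Submodule A (KT (A := A) M r k))) :
    etaT M v k x ∈ I ^ m • (⊤ : Submodule A (KT (A := A) M r (k + 1))) := by
  have := Submodule.mem_map_of_mem (f := etaT M v k) hx
  rw [Submodule.map_smul''] at this
  exact Submodule.smul_mono le_rfl le_top this

theorem exists_ar [IsNoetherianRing A] [Module.Finite A M] (g : Fin r → A) (k : ℕ) :
    ∃ c : ℕ, ∀ n, c ≤ n → ∀ x ∈ cyc (T := KT (A := A) M r) (dT M g) k,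
      x ∈ Ideal.span (Set.range g) ^ (n + 1) • (⊤ : Submodule A (KT (A := A) M r k)) →
      ∃ y ∈ Ideal.span (Set.range g) ^ n • (⊤ : Submodule A (KT (A := A) M r (k + 1))), dT M g k y = x := by
  set I := Ideal.span (Set.range g) with hI
  set N := cyc (T := KT (A := A) M r) (dT M g) k with hN
  obtain ⟨c, hc⟩ := I.exists_pow_inf_eq_pow_smul N
  refine ⟨c, fun n hn x hxN hx => ?_⟩
  have h : x ∈ I • (I ^ n • ⊤ ⊓ N) := by
    rw [hc n hn, ← Submodule.mul_smul, ← pow_succ', show n - c + 1 = n + 1 - c by omega,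
      ← hc (n + 1) (by omega)]
    exact ⟨hx, hxN⟩
  clear hx hxN
  induction h using Submodule.smul_induction_on' with
  | smul a ha z hz =>
    obtain ⟨v, hv⟩ := Ideal.mem_span_range_iff_exists_fun.1 ha
    exact ⟨etaT M v k z, etaT_mem M v k n hz.1, by rw [dT_etaT_of_cyc M g v k z hz.2, hv]⟩
  | add a _ b _ ha hb =>
    obtain ⟨y, hy, rfl⟩ := ha
    obtain ⟨y', hy', rfl⟩ := hb
    exact ⟨y + y', add_mem hy hy', map_add _ _ _⟩

theorem length_quot_eq (I : Ideal A) (k : ℕ) :
    Module.length A (KT (A := A) M r k ⧸ I • (⊤ : Submodule A (KT (A := A) M r k))) =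
      (r.choose k : ℕ∞) * Module.length A (M ⧸ I • (⊤ : Submodule A M)) := by
  let e : (KT (A := A) M r k ⧸ I • (⊤ : Submodule A (KT (A := A) M r k))) ≃ₗ[A]
      (Idx r k → M ⧸ I • (⊤ : Submodule A M)) :=
    (TensorProduct.quotTensorEquivQuotSMul _ I).symm ≪≫ₗ
      TensorProduct.congr (LinearEquiv.refl A _)
        (TensorProduct.comm A _ _ ≪≫ₗ TensorProduct.piScalarRight A A M (Idx r k)) ≪≫ₗ
      TensorProduct.piRight A A (A ⧸ I) (fun _ : Idx r k => M) ≪≫ₗ
      LinearEquiv.piCongrRight fun _ => TensorProduct.quotTensorEquivQuotSMul M I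
  rw [e.length_eq, Module.length_pi, ENat.card_eq_coe_fintype_card, card_idx]

theorem length_quot_pow_ne_top [IsNoetherianRing A] [Module.Finite A M] (I : Ideal A)
    (h : Module.length A (M ⧸ I • (⊤ : Submodule A M)) ≠ ⊤) :
    ∀ t : ℕ, Module.length A (M ⧸ I ^ t • (⊤ : Submodule A M)) ≠ ⊤
  | 0 => by
    haveI : Subsingleton (M ⧸ I ^ 0 • (⊤ : Submodule A M)) :=
      Submodule.Quotient.subsingleton_iff.2 (by simp)
    simp [Module.length_eq_zero]
  | t + 1 => by
    set S := I ^ t • (⊤ : Submodule A M) with hS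
    set S' := I ^ (t + 1) • (⊤ : Submodule A M) with hS'
    have hle : S' ≤ S := Submodule.smul_mono (Ideal.pow_le_pow_right (Nat.le_succ t)) le_rfl
    let K : Submodule A (M ⧸ S') := S.map S'.mkQ
    have hK := Module.length_eq_add_of_exact (M := M ⧸ S') (N := ↥K) (P := (M ⧸ S') ⧸ K) K.subtype K.mkQ
      K.injective_subtype K.mkQ_surjective (LinearMap.exact_subtype_mkQ K)
    rw [hK, (Submodule.quotientQuotientEquivQuotient S' S hle).length_eq, ne_eq, ENat.add_eq_top, not_or]
    refine ⟨?_, length_quot_pow_ne_top I h t⟩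
    obtain ⟨m, a, ha⟩ := Submodule.fg_iff_exists_fin_generating_family.1 ((I ^ t).fg_of_isNoetherianRing)
    let ψ : (Fin m → M) →ₗ[A] M ⧸ S' := S'.mkQ ∘ₗ LinearMap.lsum A (fun _ => M) A fun i => a i • LinearMap.id
    have hrange : K ≤ LinearMap.range ψ := by
      rw [Submodule.map_le_iff_le_comap, hS, Submodule.smul_le]
      intro b hb x _
      obtain ⟨w, rfl⟩ := Ideal.mem_span_range_iff_exists_fun.1 (ha.ge hb)
      refine ⟨fun i => w i • x, ?_⟩
      simp [ψ, LinearMap.lsum_apply, Finset.sum_smul, smul_smul, mul_comm]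
    have hker : Submodule.pi Set.univ (fun _ : Fin m => I • (⊤ : Submodule A M)) ≤ LinearMap.ker ψ := by
      intro x hx
      show S'.mkQ _ = 0
      rw [Submodule.mkQ_apply, Submodule.Quotient.mk_eq_zero, LinearMap.lsum_apply, LinearMap.sum_apply]
      refine Submodule.sum_mem _ fun i _ => ?_
      show a i • x i ∈ S'
      rw [hS', pow_succ, Submodule.mul_smul]
      exact Submodule.smul_mem_smul (ha.le (Submodule.subset_span ⟨i, rfl⟩)) (hx i trivial)
    have h1 : Module.length A ((Fin m → M) ⧸ Submodule.pi Set.univ fun _ : Fin m => I • (⊤ : Submodule A M)) ≠ ⊤ := by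
      rw [(Submodule.quotientPi fun _ : Fin m => I • (⊤ : Submodule A M)).length_eq, Module.length_pi]
      exact mul_ne_top' (by simp) h
    refine ne_top_of_le_ne_top h1 ?_
    calc Module.length A ↥K ≤ Module.length A ↥(LinearMap.range ψ) :=
          Module.length_le_of_injective (Submodule.inclusion hrange) (Submodule.inclusion_injective hrange)
      _ ≤ _ := by
          refine Module.length_le_of_surjective
            (Submodule.liftQ _ ψ.rangeRestrict (by rw [LinearMap.ker_rangeRestrict]; exact hker)) ?_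
          intro y
          obtain ⟨x, hx⟩ := ψ.surjective_rangeRestrict y
          exact ⟨Submodule.Quotient.mk x, hx⟩

/-- The Euler characteristic of `K(g) ⊗ M`. -/
noncomputable def kchi (g : Fin r → A) : ℤ :=
  ∑ k ∈ range (r + 1), (-1 : ℤ) ^ k * ((hlen (T := KT (A := A) M r) (dT M g) k).toNat : ℤ)

theorem euler_koszul [IsNoetherianRing A] [Module.Finite A M] (g : Fin r → A)
    (h : Module.length A (M ⧸ Ideal.span (Set.range g) • (⊤ : Submodule A M)) ≠ ⊤) :
    (∀ k, hlen (T := KT (A := A) M r) (dT M g) k ≠ ⊤) ∧ ∃ m₀, ∀ m, m₀ ≤ m →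
      kchi M g = ∑ k ∈ range (r + 1), (-1 : ℤ) ^ k * (r.choose k : ℤ) *
        ((Module.length A (M ⧸ Ideal.span (Set.range g) ^ (m - k) • (⊤ : Submodule A M))).toNat : ℤ) := by
  set I := Ideal.span (Set.range g) with hI
  choose c hc using fun k => exists_ar M g k
  obtain ⟨C, hC⟩ : ∃ C, ∀ k ≤ r, c k ≤ C := ⟨(range (r + 1)).sup c, fun k hk =>
    Finset.le_sup (f := c) (mem_range.2 (Nat.lt_succ_of_le hk))⟩
  haveI : ∀ k, r < k → Subsingleton (KT (A := A) M r k) := fun k hk => by
    haveI := subsingleton_ko A hk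
    infer_instance
  have step : ∀ m, C + r + 1 ≤ m → (∀ k, hlen (T := KT (A := A) M r) (dT M g) k ≠ ⊤) ∧
      kchi M g = ∑ k ∈ range (r + 1), (-1 : ℤ) ^ k * (r.choose k : ℤ) *
        ((Module.length A (M ⧸ I ^ (m - k) • (⊤ : Submodule A M))).toNat : ℤ) := by
    intro m hm
    obtain ⟨h1, h2⟩ := euler_eq (T := KT (A := A) M r) (dT M g)
      (fun k => I ^ (m - k) • (⊤ : Submodule A (KT (A := A) M r k))) (dT_dT M g)
      (fun k x hx => Submodule.smul_mono (Ideal.pow_le_pow_right (by omega)) le_rfl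
        (dT_mem M (I := I) g (fun i => Ideal.subset_span (Set.mem_range_self i)) k _ hx))
      (fun k x hx hxF => by
        rcases le_or_gt k r with hk | hk
        · obtain ⟨n, hn⟩ : ∃ n, m - k = n + 1 := ⟨m - k - 1, by omega⟩
          rw [show m - (k + 1) = n by omega]
          exact hc k n (le_trans (hC k hk) (by omega)) x hx (hn ▸ hxF)
        · haveI := this k hk
          exact ⟨0, Submodule.zero_mem _, Subsingleton.elim _ _⟩)
      (fun k => by
        rw [length_quot_eq]
        exact mul_ne_top' (ENat.natCast_ne_top _) (length_quot_pow_ne_top M I h _))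
      r (this _ (Nat.lt_succ_self r))
    refine ⟨h1, h2.trans (sum_congr rfl fun k _ => ?_)⟩
    rw [length_quot_eq, ENat.toNat_mul, ENat.toNat_natCast, Nat.cast_mul, mul_assoc]
  exact ⟨(step _ le_rfl).1, C + r + 1, fun m hm => (step m hm).2⟩

theorem fwdDiff_choose_self (r : ℕ) : ∀ m : ℕ, (Δ_[1])^[r] (fun x : ℕ => (x.choose r : ℤ)) m = 1 := by
  intro m
  have h := congrFun (fwdDiff_iter_choose 0 r) m
  simpa using h

/-- Serre: the Samuel multiplicity is the Koszul Euler characteristic. -/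
theorem tendsto_samuel [IsNoetherianRing A] [Module.Finite A M] (g : Fin r → A)
    (h : Module.length A (M ⧸ Ideal.span (Set.range g) • (⊤ : Submodule A M)) ≠ ⊤) :
    Tendsto (fun t : ℕ => (r.factorial : ℝ) *
        ((Module.length A (M ⧸ Ideal.span (Set.range g) ^ t • (⊤ : Submodule A M))).toNat : ℝ) / (t : ℝ) ^ r)
      atTop (𝓝 (kchi M g : ℝ)) := by
  obtain ⟨-, m₀, hm₀⟩ := euler_koszul M g h
  set L : ℕ → ℕ := fun t => (Module.length A (M ⧸ Ideal.span (Set.range g) ^ t • (⊤ : Submodule A M))).toNat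
  set e := kchi M g with he
  let F : ℕ → ℤ := fun j => (L (j + m₀) : ℤ)
  have hF : ∀ j, (Δ_[1])^[r] (F - e • fun x : ℕ => (x.choose r : ℤ)) j = 0 := by
    intro j
    have hlin : (Δ_[1])^[r] (F - e • fun x : ℕ => (x.choose r : ℤ)) j =
        (Δ_[1])^[r] F j - e * (Δ_[1])^[r] (fun x : ℕ => (x.choose r : ℤ)) j := by
      simp only [fwdDiff_iter_eq_sum_shift, Pi.sub_apply, Pi.smul_apply, smul_eq_mul, Finset.mul_sum,
        ← Finset.sum_sub_distrib]
      exact sum_congr rfl fun k _ => by ring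
    rw [hlin, fwdDiff_choose_self, mul_one, sub_eq_zero, fwdDiff_iter_eq_sum_shift,
      hm₀ (j + m₀ + r) (by omega), ← Finset.sum_range_reflect]
    refine sum_congr rfl fun k hk => ?_
    have hk' := mem_range.1 hk
    rw [show r + 1 - 1 - k = r - k by omega, show r - (r - k) = k by omega, Nat.choose_symm (by omega)]
    simp only [F, smul_eq_mul, mul_one]
    rw [show j + (r - k) + m₀ = j + m₀ + r - k by omega]
  obtain ⟨B, hB⟩ := exists_bound_of_fwdDiff r _ hF
  have hch : Tendsto (fun t : ℕ => ((t - m₀).choose r : ℝ) * r.factorial / (t : ℝ) ^ r) atTop (𝓝 1) := by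
    have hasymp := isEquivalent_choose r
    have h1 : Tendsto (fun s : ℕ => (s.choose r : ℝ) * r.factorial / (s : ℝ) ^ r) atTop (𝓝 1) := by
      have h2 := (Asymptotics.isEquivalent_iff_tendsto_one ?_).1 hasymp
      · refine h2.congr fun s => ?_
        simp only [Pi.div_apply]
        field_simp
      · filter_upwards [eventually_gt_atTop 0] with s hs
        positivity
    have h3 := h1.comp (tendsto_sub_atTop_nat m₀)
    have h4 : Tendsto (fun t : ℕ => (((t - m₀ : ℕ) : ℝ) / (t : ℝ)) ^ r) atTop (𝓝 1) := by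
      have : Tendsto (fun t : ℕ => 1 - (m₀ : ℝ) / (t : ℝ)) atTop (𝓝 (1 - 0)) :=
        tendsto_const_nhds.sub (tendsto_const_div_atTop_nhds_zero_nat _)
      have := (this.pow r)
      rw [sub_zero, one_pow] at this
      refine this.congr' ?_
      filter_upwards [eventually_gt_atTop m₀] with t ht
      rw [Nat.cast_sub ht.le]
      have : (t : ℝ) ≠ 0 := by
        have : 0 < t := by omega
        positivity
      field_simp
    have := h3.mul h4
    rw [mul_one] at this
    refine this.congr' ?_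
    filter_upwards [eventually_gt_atTop m₀] with t ht
    have h5 : ((t - m₀ : ℕ) : ℝ) ≠ 0 := by
      have : 0 < t - m₀ := by omega
      positivity
    simp only [Function.comp_apply, div_pow]
    field_simp
  have hrest : Tendsto (fun t : ℕ => (r.factorial : ℝ) *
      (((F - e • fun x : ℕ => (x.choose r : ℤ)) (t - m₀) : ℤ) : ℝ) / (t : ℝ) ^ r) atTop (𝓝 0) := by
    have hb : Tendsto (fun t : ℕ => (r.factorial : ℝ) * B * 2 ^ r / (((t - m₀ : ℕ) : ℝ) + 1)) atTop (𝓝 0) :=
      Tendsto.div_atTop tendsto_const_nhds (tendsto_atTop_add_const_right _ _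
        (tendsto_natCast_atTop_atTop.comp (tendsto_sub_atTop_nat m₀)))
    refine squeeze_zero_norm' ?_ hb
    filter_upwards [eventually_gt_atTop m₀] with t ht
    set G := (F - e • fun x : ℕ => (x.choose r : ℤ)) (t - m₀)
    have hG : |(G : ℝ)| * (((t - m₀ : ℕ) : ℝ) + 1) ≤ B * (((t - m₀ : ℕ) : ℝ) + 1) ^ r := by
      exact_mod_cast hB (t - m₀)
    have ht1 : (1 : ℝ) ≤ (t : ℝ) := by exact_mod_cast (show 1 ≤ t by omega)
    have ht0 : (0 : ℝ) < (t : ℝ) := lt_of_lt_of_le one_pos ht1
    have hpow : (((t - m₀ : ℕ) : ℝ) + 1) ^ r ≤ 2 ^ r * (t : ℝ) ^ r := by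
      rw [← mul_pow]
      refine pow_le_pow_left₀ (by positivity) ?_ r
      have : ((t - m₀ : ℕ) : ℝ) ≤ (t : ℝ) := by exact_mod_cast Nat.sub_le t m₀
      linarith
    rw [Real.norm_eq_abs, abs_div, abs_mul, abs_of_nonneg (show (0 : ℝ) ≤ r.factorial by positivity),
      abs_of_nonneg (show (0 : ℝ) ≤ (t : ℝ) ^ r by positivity), div_le_div_iff₀ (by positivity) (by positivity)]
    calc (r.factorial : ℝ) * |(G : ℝ)| * (((t - m₀ : ℕ) : ℝ) + 1)
        ≤ r.factorial * (B * (((t - m₀ : ℕ) : ℝ) + 1) ^ r) := by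
          rw [mul_assoc]; exact mul_le_mul_of_nonneg_left hG (by positivity)
      _ ≤ r.factorial * (B * (2 ^ r * (t : ℝ) ^ r)) := by gcongr
      _ = _ := by ring
  have hsum := (hch.const_mul (e : ℝ)).add hrest
  rw [mul_one, add_zero] at hsum
  refine hsum.congr' ?_
  filter_upwards [eventually_ge_atTop m₀] with t ht
  simp only [F, Pi.sub_apply, Pi.smul_apply, smul_eq_mul, Int.cast_sub, Int.cast_mul, Int.cast_natCast, L]
  rw [Nat.sub_add_cancel ht]
  ring

end Groth.Agent.IntMultLib
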