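import Groth.Agent.IntMultLib.KoszulEuler
import Groth.Agent.WiebeLib.Koszul
import Groth.Prelude.Def_DRing2
import Mathlib

/-!
# The Euler characteristic of `Koszul.koszul A l ⊗ M`
-/

set_option autoImplicit false
set_option linter.style.haveILetI false

universe u

open CategoryTheory CategoryTheory.Limits TensorProduct Groth.Agent.WiebeLib

namespace Groth.Agent.IntMultLib

variable {A : Type u} [CommRing A]

/-- A cochain complex in degrees `≤ 0` with the lengths of its homology read off a chain complex model. -/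
theorem length_homology_neg {T : ℕ → Type u} [∀ k, AddCommGroup (T k)] [∀ k, Module A (T k)]
    (d : ∀ k, T (k + 1) →ₗ[A] T k) (C : CochainComplex (ModuleCat.{u} A) ℤ)
    (hpos : ∀ i : ℤ, 0 < i → IsZero (C.X i)) (e : ∀ (i : ℤ) (k : ℕ), i = -(k : ℤ) → C.X i ≃ₗ[A] T k)
    (comm : ∀ (i j : ℤ) (k : ℕ) (hi : i = -((k + 1 : ℕ) : ℤ)) (hj : j = -(k : ℤ)) (z : C.X i),
      e j k hj (C.d i j z) = d k (e i (k + 1) hi z)) (k : ℕ) :
    Module.length A (C.homology (-(k : ℤ))) = hlen d k := by
  let i : ℤ := -((k + 1 : ℕ) : ℤ)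
  let j : ℤ := -(k : ℤ)
  let S := C.sc' i j (j + 1)
  let iso : C.homology j ≅ ModuleCat.of A (LinearMap.ker S.g.hom ⧸ LinearMap.range S.moduleCatToCycles) :=
    C.homologyIsoSc' i j (j + 1) (by simp [i, j]; omega) (by simp) ≪≫ S.moduleCatHomologyIso
  rw [iso.toLinearEquiv.length_eq]
  let ej : C.X j ≃ₗ[A] T k := e j k rfl
  have hcyc : ∀ z : C.X j, z ∈ LinearMap.ker S.g.hom ↔ ej z ∈ cyc d k := by
    intro z
    cases k with
    | zero =>
      refine iff_of_true ?_ trivial
      show C.d _ _ z = 0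
      rw [(hpos (j + 1) (by simp [j])).eq_of_tgt (C.d _ _) 0]
      rfl
    | succ k =>
      show C.d j (j + 1) z = 0 ↔ d k (ej z) = 0
      rw [← comm j (j + 1) k rfl (by simp [j]) z]
      exact (LinearEquiv.map_eq_zero_iff _).symm
  let ez : ↥(LinearMap.ker S.g.hom) ≃ₗ[A] ↥(cyc d k) :=
    LinearEquiv.ofSubmodules ej _ _ (by
      ext t
      constructor
      · rintro ⟨z, hz, rfl⟩; exact (hcyc z).1 hz
      · exact fun ht => ⟨ej.symm t, (hcyc _).2 (by rwa [LinearEquiv.apply_symm_apply]), ej.apply_symm_apply t⟩)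
  refine (Submodule.Quotient.equiv _ _ ez ?_).length_eq
  ext t
  constructor
  · rintro ⟨z, ⟨w, rfl⟩, rfl⟩
    exact ⟨e i (k + 1) rfl w, (comm i j k rfl rfl w).symm⟩
  · rintro ⟨w, hw⟩
    refine ⟨S.moduleCatToCycles ((e i (k + 1) rfl).symm w), ⟨_, rfl⟩, Subtype.ext ?_⟩
    refine (comm i j k rfl rfl ((e i (k + 1) rfl).symm w)).trans ?_
    rw [LinearEquiv.apply_symm_apply]
    exact hw

variable (M : Type u) [AddCommGroup M] [Module A M] {r : ℕ}

/-- The homology lengths of the cone model. -/
theorem length_homology_koszul (g : Fin r → A) (k : ℕ) :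
    Module.length A ((DRing.tensorCx (Koszul.koszul A (List.ofFn g)) (ModuleCat.of A M)).homology (-(k : ℤ))) =
      hlen (T := KT (A := A) M r) (dT M g) k := by
  obtain ⟨L⟩ := nonempty_comparison g
  let G := MonoidalCategory.tensorRight (ModuleCat.of A M)
  refine length_homology_neg (T := KT (A := A) M r) (dT M g) _ (fun i hi => G.map_isZero (L.isZero_pos i hi))
    (fun i k h => LinearEquiv.rTensor M (L.e i k h)) (fun i j k hi hj z => ?_) k
  show LinearEquiv.rTensor M (L.e j k hj) (((Koszul.koszul A (List.ofFn g)).d i j).hom.rTensor M z) =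
    (d r g k).rTensor M (LinearEquiv.rTensor M (L.e i (k + 1) hi) z)
  induction z using TensorProduct.induction_on with
  | zero => simp
  | tmul p m =>
    simp only [LinearMap.rTensor_tmul, LinearEquiv.rTensor_tmul]
    rw [L.comm i j k hi hj p]
  | add a b ha hb =>
    simp only [map_add] at ha hb ⊢
    rw [ha, hb]

theorem negOnePow_neg_natCast (k : ℕ) : (((-(k : ℤ)).negOnePow : ℤˣ) : ℤ) = (-1 : ℤ) ^ k := by
  rw [Int.negOnePow_neg, Int.negOnePow_def, zpow_natCast, Units.val_pow_eq_pow_val, Units.val_neg, Units.val_one]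

/-- The alternating sum in the statements is `kchi`. -/
theorem finsum_homology_eq_kchi (g : Fin r → A) :
    (∑ᶠ i : ℤ, ((i.negOnePow : ℤˣ) : ℤ) * ((Module.length A
      ((DRing.tensorCx (Koszul.koszul A (List.ofFn g)) (ModuleCat.of A M)).homology i)).toNat : ℤ)) =
      kchi M g := by
  classical
  obtain ⟨L⟩ := nonempty_comparison g
  let C := DRing.tensorCx (Koszul.koszul A (List.ofFn g)) (ModuleCat.of A M)
  have hzero : ∀ i : ℤ, IsZero (C.X i) → ((Module.length A (C.homology i)).toNat : ℤ) = 0 := fun i hi => by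
    haveI : Subsingleton (C.homology i : Type u) := ModuleCat.subsingleton_of_isZero (ShortComplex.isZero_homology_of_isZero_X₂ (C.sc i) hi)
    rw [Module.length_eq_zero]; rfl
  have hout : ∀ i : ℤ, (∀ k : ℕ, k ≤ r → i ≠ -(k : ℤ)) → IsZero (C.X i) := fun i hi => by
    rcases lt_or_ge 0 i with h | h
    · exact (MonoidalCategory.tensorRight (ModuleCat.of A M)).map_isZero (L.isZero_pos i h)
    · obtain ⟨k, rfl⟩ : ∃ k : ℕ, i = -(k : ℤ) := ⟨(-i).toNat, by omega⟩
      have hk : r < k := by
        by_contra hk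
        exact hi k (by omega) rfl
      haveI := subsingleton_ko A hk
      haveI : Subsingleton ((Koszul.koszul A (List.ofFn g)).X (-(k : ℤ))) := (L.e _ k rfl).toEquiv.subsingleton
      exact (MonoidalCategory.tensorRight (ModuleCat.of A M)).map_isZero (ModuleCat.isZero_of_subsingleton _)
  rw [finsum_eq_sum_of_support_subset _ (s := (Finset.range (r + 1)).image fun k : ℕ => -(k : ℤ)) ?_]
  · rw [Finset.sum_image (fun a _ b _ h => by simpa using h), kchi]
    refine Finset.sum_congr rfl fun k _ => ?_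
    rw [negOnePow_neg_natCast, length_homology_koszul]
  · intro i hi
    by_contra h
    refine hi ?_
    show _ * _ = (0 : ℤ)
    rw [hzero i (hout i fun k hk e => h (by simpa using ⟨k, by omega, e.symm⟩)), mul_zero]

end Groth.Agent.IntMultLib
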