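import Groth.Agent.IntMultLib.KoszulEuler
import Groth.Agent.HSLib.Samuel
import Groth.Agent.AssLib.Basic
import Mathlib

/-!
# Positivity of the Koszul Euler characteristic of a system of parameters
-/

set_option autoImplicit false
set_option linter.style.haveILetI false

universe u

open Filter Topology Polynomial

namespace Groth.Agent.IntMultLib

theorem kchi_pos {A : Type u} [CommRing A] [IsNoetherianRing A] [IsLocalRing A] (M : Type u) [AddCommGroup M]
    [Module A M] [Module.Finite A M] [Nontrivial M] {c : ℕ} (g : Fin c → A)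
    (hg : ∀ i, g i ∈ IsLocalRing.maximalIdeal A)
    (hfin : Module.length A (M ⧸ Ideal.span (Set.range g) • (⊤ : Submodule A M)) ≠ ⊤)
    (hdim : Module.supportDim A M = c) : 0 < kchi M g := by
  obtain ⟨R, hR⟩ := HSLib.exists_poly_jacobson (A := A) M
  have hdeg : R.natDegree = c := by
    have h := HSLib.supportDim_eq M R hR
    rw [hdim] at h
    exact_mod_cast h
  set I := Ideal.span (Set.range g) with hI
  have hIm : I ≤ Ring.jacobson A := by
    rw [IsLocalRing.ringJacobson_eq_maximalIdeal]
    exact Ideal.span_le.2 (by rintro _ ⟨i, rfl⟩; exact hg i)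
  have hle : ∀ t, HSLib.hs (Ring.jacobson A) M t ≤
      (Module.length A (M ⧸ I ^ t • (⊤ : Submodule A M))).toNat := fun t => by
    have h : I ^ t • (⊤ : Submodule A M) ≤ Ring.jacobson A ^ t • ⊤ :=
      Submodule.smul_mono_left (Ideal.pow_right_mono hIm t)
    exact ENat.toNat_le_toNat (Module.length_le_of_surjective (Submodule.factor h) (Submodule.factor_surjective h))
      (length_quot_pow_ne_top M I hfin t)
  have hev : ∀ᶠ t : ℕ in atTop, ((HSLib.hs (Ring.jacobson A) M t : ℚ) : ℝ) = aeval (t : ℝ) R := by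
    filter_upwards [hR] with t ht
    rw [ht, ← eq_ratCast (algebraMap ℚ ℝ) (R.eval _), ← aeval_algebraMap_apply_eq_algebraMap_eval, map_natCast]
  have hR0 : R ≠ 0 := by
    intro h
    obtain ⟨t, ht, ht1⟩ := (hR.and (eventually_ge_atTop 1)).exists
    rw [h, eval_zero] at ht
    have := HSLib.hs_pos (HSLib.maxSupp_jacobson (A := A) M) le_rfl ht1
    have : (HSLib.hs (Ring.jacobson A) M t) = 0 := by exact_mod_cast ht
    omega
  let P : ℝ[X] := R.map (algebraMap ℚ ℝ)
  have hP : P.degree = ((X : ℝ[X]) ^ c).degree := by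
    rw [Polynomial.degree_map, degree_X_pow, degree_eq_natDegree hR0, hdeg]
  have hlim : Tendsto (fun t : ℕ => aeval (t : ℝ) R / (t : ℝ) ^ c) atTop (𝓝 P.leadingCoeff) := by
    have h := (div_tendsto_atTop_leadingCoeff_div_of_degree_eq P ((X : ℝ[X]) ^ c) hP).comp tendsto_natCast_atTop_atTop
    rw [leadingCoeff_X_pow, div_one] at h
    refine h.congr fun t => ?_
    simp [P, eval_map, aeval_def]
  have hlead : P.leadingCoeff ≠ 0 := by
    rw [leadingCoeff_ne_zero]
    exact (Polynomial.map_ne_zero_iff (algebraMap ℚ ℝ).injective).2 hR0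
  have hnn : 0 ≤ P.leadingCoeff := by
    refine ge_of_tendsto hlim ?_
    filter_upwards [hev] with t ht
    rw [← ht]
    positivity
  have hmain : (c.factorial : ℝ) * P.leadingCoeff ≤ (kchi M g : ℝ) := by
    refine le_of_tendsto_of_tendsto (hlim.const_mul (c.factorial : ℝ)) (tendsto_samuel M g hfin) ?_
    filter_upwards [hev] with t ht
    rw [← ht, mul_div_assoc]
    have := hle t
    gcongr
    push_cast
    exact_mod_cast this
  have : (0 : ℝ) < kchi M g := lt_of_lt_of_le (mul_pos (by positivity) (hnn.lt_of_ne hlead.symm)) hmain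
  exact_mod_cast this

/-- More elements than the dimension: the Euler characteristic vanishes. -/
theorem kchi_eq_zero {A : Type u} [CommRing A] [IsNoetherianRing A] [IsLocalRing A] (M : Type u) [AddCommGroup M]
    [Module A M] [Module.Finite A M] {c : ℕ} (g : Fin c → A)
    (hfin : Module.length A (M ⧸ Ideal.span (Set.range g) • (⊤ : Submodule A M)) ≠ ⊤)
    (hdim : Module.supportDim A M < (c : WithBot ℕ∞)) : kchi M g = 0 := by
  set I := Ideal.span (Set.range g) with hI
  rcases subsingleton_or_nontrivial M with hM | hM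
  · have h0 : ∀ t : ℕ, (Module.length A (M ⧸ I ^ t • (⊤ : Submodule A M))).toNat = 0 := fun t => by
      simp [Module.length_eq_zero]
    have h := tendsto_samuel M g hfin
    rw [← hI] at h
    simp only [h0, Nat.cast_zero, mul_zero, zero_div] at h
    exact_mod_cast (tendsto_nhds_unique h tendsto_const_nhds)
  obtain ⟨R, hR⟩ := HSLib.exists_poly_jacobson (A := A) M
  have hdeg : R.natDegree < c := by
    have h := HSLib.supportDim_eq M R hR
    rw [← h] at hdim
    exact_mod_cast hdim
  obtain ⟨hN1, hN2⟩ := isFiniteLength_iff_isNoetherian_isArtinian.1 (Module.length_ne_top_iff.1 hfin)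
  obtain ⟨k₀, hk₀⟩ := AssLib.exists_pow_le_annihilator A (M ⧸ I • (⊤ : Submodule A M))
  obtain ⟨k, hk0, hk⟩ : ∃ k, 0 < k ∧
      IsLocalRing.maximalIdeal A ^ k ≤ Module.annihilator A (M ⧸ I • (⊤ : Submodule A M)) :=
    ⟨k₀ + 1, k₀.succ_pos, (Ideal.pow_le_pow_right k₀.le_succ).trans hk₀⟩
  have hkI : IsLocalRing.maximalIdeal A ^ k • (⊤ : Submodule A M) ≤ I • ⊤ := Submodule.smul_le.2 fun a ha m _ => by
    rw [← Submodule.Quotient.mk_eq_zero, Submodule.Quotient.mk_smul]
    exact Module.mem_annihilator.1 (hk ha) _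
  have hpow : ∀ t, IsLocalRing.maximalIdeal A ^ (k * t) • (⊤ : Submodule A M) ≤ I ^ t • ⊤ := by
    intro t
    induction t with
    | zero => simp
    | succ t ih =>
      calc IsLocalRing.maximalIdeal A ^ (k * (t + 1)) • (⊤ : Submodule A M)
          = IsLocalRing.maximalIdeal A ^ (k * t) • IsLocalRing.maximalIdeal A ^ k • (⊤ : Submodule A M) := by
            rw [← smul_assoc, smul_eq_mul, ← pow_add, mul_add, mul_one]
        _ ≤ IsLocalRing.maximalIdeal A ^ (k * t) • I • (⊤ : Submodule A M) := Submodule.smul_mono le_rfl hkI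
        _ = I • IsLocalRing.maximalIdeal A ^ (k * t) • (⊤ : Submodule A M) := by
            rw [← smul_assoc, ← smul_assoc, smul_eq_mul, smul_eq_mul, mul_comm]
        _ ≤ I • I ^ t • (⊤ : Submodule A M) := Submodule.smul_mono le_rfl ih
        _ = I ^ (t + 1) • (⊤ : Submodule A M) := by rw [← smul_assoc, smul_eq_mul, pow_succ']
  have hle : ∀ t, (Module.length A (M ⧸ I ^ t • (⊤ : Submodule A M))).toNat ≤
      HSLib.hs (Ring.jacobson A) M (k * t) := fun t => by
    have h : Ring.jacobson A ^ (k * t) • (⊤ : Submodule A M) ≤ I ^ t • ⊤ := by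
      rw [IsLocalRing.ringJacobson_eq_maximalIdeal]; exact hpow t
    exact ENat.toNat_le_toNat (Module.length_le_of_surjective (Submodule.factor h) (Submodule.factor_surjective h))
      (HSLib.length_quot_ne_top (HSLib.maxSupp_jacobson M) le_rfl)
  let P : ℝ[X] := R.map (algebraMap ℚ ℝ)
  have hQ : (P.comp (C (k : ℝ) * X)).degree < ((X : ℝ[X]) ^ c).degree := by
    rw [degree_X_pow]
    refine lt_of_le_of_lt degree_le_natDegree ?_
    rw [natDegree_comp, natDegree_map, natDegree_C_mul_X (k : ℝ) (by exact_mod_cast hk0.ne'), mul_one]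
    exact_mod_cast hdeg
  have hlim := ((div_tendsto_atTop_zero_of_degree_lt _ _ hQ).comp tendsto_natCast_atTop_atTop).const_mul (c.factorial : ℝ)
  rw [mul_zero] at hlim
  have hev := (tendsto_id.const_mul_atTop' hk0).eventually hR
  have h0 : (kchi M g : ℝ) = 0 := by
    refine le_antisymm (le_of_tendsto_of_tendsto (tendsto_samuel M g hfin) hlim ?_)
      (ge_of_tendsto (tendsto_samuel M g hfin) (Filter.Eventually.of_forall fun t => by positivity))
    filter_upwards [hev] with t ht
    have h1 : ((Module.length A (M ⧸ I ^ t • (⊤ : Submodule A M))).toNat : ℝ) ≤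
        ((HSLib.hs (Ring.jacobson A) M (k * t) : ℕ) : ℝ) := by exact_mod_cast hle t
    have h2 : ((HSLib.hs (Ring.jacobson A) M (k * t) : ℕ) : ℝ) = (P.comp (C (k : ℝ) * X)).eval (t : ℝ) := by
      rw [← Rat.cast_natCast, show ((HSLib.hs (Ring.jacobson A) M (k * t) : ℕ) : ℚ) = R.eval ((k * t : ℕ) : ℚ) from ht,
        ← eq_ratCast (algebraMap ℚ ℝ) (R.eval _), ← aeval_algebraMap_apply_eq_algebraMap_eval, map_natCast]
      simp [P, eval_map, aeval_def]
    rw [mul_div_assoc]
    simp only [Function.comp_apply, eval_pow, eval_X, ← hI]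
    rw [← h2]
    gcongr
  exact_mod_cast h0

end Groth.Agent.IntMultLib
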