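import Groth.Agent.IntMultLib.DiagScheme
import Groth.Agent.IntMultLib.DiagReg
import Groth.Agent.IntMultLib.Proper
import Groth.Agent.IntMultLib.LocalAlg
import Groth.Agent.IntMultLib.Positivity
import Mathlib

/-!
# Positivity of intersection multiplicities
-/

set_option autoImplicit false
set_option linter.style.haveILetI false
set_option backward.isDefEq.respectTransparency.types false

universe u

open CategoryTheory CategoryTheory.Limits AlgebraicGeometry

namespace Groth.Agent.IntMultLib

variable {k : Type u} [Field k] {X : Scheme.{u}} (f : X ⟶ Spec (CommRingCat.of k))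

/-- The diagonal at a point, as a regular sequence in the local ring of `X ×_k X`. -/
theorem exists_diag_regular [Smooth f] [IsSeparated f] [IsIntegral X] {n : ℕ}
    (hn : VarDim.deg f (genericPoint X) = n) (ξ : X) :
    ∃ g : Fin n → ↑((pullback f f).presheaf.stalk (pullback.diagonal f ξ)),
      IntMult.stalkIdeal (pullback.diagonal f).ker (pullback.diagonal f ξ) = Ideal.span (Set.range g) ∧
      RingTheory.Sequence.IsWeaklyRegular ((pullback f f).presheaf.stalk (pullback.diagonal f ξ)) (List.ofFn g) ∧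
      ∀ i, g i ∈ IsLocalRing.maximalIdeal _ := by
  let d := pullback.diagonal f
  haveI : Smooth (pullback.fst f f ≫ f) := inferInstance
  haveI := isRegularLocalRing_stalk (pullback.fst f f ≫ f) (d ξ)
  haveI := isRegularLocalRing_stalk f ξ
  have hsurj : Function.Surjective (d.stalkMap ξ).hom := d.stalkMap_surjective ξ
  obtain ⟨-, rs, hrs, hw⟩ := CotTLib.regSurj _ _ _ (d.stalkMap ξ).hom hsurj le_rfl
  have hne : Ideal.ofList rs ≠ ⊤ := hrs ▸ RingHom.ker_ne_top _
  have hreg : RingTheory.Sequence.IsRegular ((pullback f f).presheaf.stalk (d ξ)) rs :=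
    ⟨hw, by rw [smul_eq_mul, Ideal.mul_top]; exact hne.symm⟩
  obtain ⟨bL, hbL, hbL'⟩ := exists_dim_stalk_diagonal f hn (d ξ)
  obtain ⟨bR, hbR, hbR'⟩ := exists_dim_stalk_of_isIntegral f ξ
  have hdeg : VarDim.deg (pullback.fst f f ≫ f) (d ξ) = VarDim.deg f ξ := by
    rw [← deg_immersion (pullback.fst f f ≫ f) d ξ]
    exact VarDim.deg_congr (pullback.diagonal_fst_assoc f f) ξ
  have h := ringKrullDim_add_length_eq_ringKrullDim_of_isRegular _ hreg
  rw [ringKrullDim_eq_of_ringEquiv ((Ideal.quotEquivOfEq hrs).trans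
    (RingHom.quotientKerEquivOfSurjective hsurj)), hbR, hbL] at h
  have hlen : rs.length = n := by
    have : bR + rs.length = bL := by exact_mod_cast h
    omega
  subst hlen
  refine ⟨rs.get, ?_, by rwa [List.ofFn_get], fun i => ?_⟩
  · rw [stalkIdeal_ker, ← hrs, Set.range_list_get]
  · exact IsLocalRing.le_maximalIdeal hne (Ideal.subset_span (List.get_mem rs i))

/-- The multiplicity at a maximal point of `V ∩ W` as a Koszul Euler characteristic. -/
theorem exists_mult_data [Smooth f] [IsSeparated f] [QuasiCompact f] [IsIntegral X]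
    (IV IW : X.IdealSheafData) [IsIntegral IV.subscheme] [IsIntegral IW.subscheme] {n r s : ℕ}
    (hn : topologicalKrullDim X = n) (hr : topologicalKrullDim IV.support = r)
    (hs : topologicalKrullDim IW.support = s) {ξ : X}
    (hξV : ξ ∈ IV.support) (hξW : ξ ∈ IW.support)
    (hmax : ∀ ξ' : X, ξ' ∈ IV.support → ξ' ∈ IW.support → ξ' ⤳ ξ → ξ' = ξ) :
    (VarDim.deg f ξ + n = r + s → 0 < IntMult.mult IV IW ξ) ∧
      (r + s < VarDim.deg f ξ + n → IntMult.mult IV IW ξ = 0) := by
  rw [mult_eq_mult_diag f]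
  let d := pullback.diagonal f
  let m := pullback.map (IV.subschemeι ≫ f) (IW.subschemeι ≫ f) f f IV.subschemeι IW.subschemeι (𝟙 _)
    (Category.comp_id _) (Category.comp_id _)
  haveI hm : IsClosedImmersion m :=
    MorphismProperty.pullback_map (P := @IsClosedImmersion.{u}) inferInstance inferInstance rfl rfl
  haveI : Smooth (pullback.fst f f ≫ f) := inferInstance
  let L : Type u := (pullback f f).presheaf.stalk (d ξ)
  haveI : IsRegularLocalRing L := isRegularLocalRing_stalk (pullback.fst f f ≫ f) (d ξ)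
  have hn' := deg_genericPoint_eq f hn
  obtain ⟨g, hg, hreg, hgm⟩ := exists_diag_regular f hn' ξ
  let J : Ideal L := IntMult.stalkIdeal m.ker (d ξ)
  -- the dimension of `V × W` at `(ξ, ξ)`
  have hmem : d ξ ∈ Set.range m := by
    rw [Scheme.Pullback.range_map]
    obtain ⟨zV, hzV⟩ := exists_eq_of_mem_support IV hξV
    obtain ⟨zW, hzW⟩ := exists_eq_of_mem_support IW hξW
    refine ⟨⟨zV, ?_⟩, ⟨zW, ?_⟩⟩
    · rw [hzV, ← Scheme.Hom.comp_apply, pullback.diagonal_fst]; rfl
    · rw [hzW, ← Scheme.Hom.comp_apply, pullback.diagonal_snd]; rfl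
  obtain ⟨z, hz⟩ := hmem
  obtain ⟨b, hbd, hJ⟩ : ∃ b : ℕ, VarDim.deg f ξ + b = r + s ∧ J ≠ ⊤ ∧ ringKrullDim (L ⧸ J) = b := by
    let q := pullback.fst (IV.subschemeι ≫ f) (IW.subschemeι ≫ f) ≫ IV.subschemeι ≫ f
    obtain ⟨b, hb, hb'⟩ := exists_dim_stalk q z (D := r + s) fun η _ hη => by
      rw [deg_maximal_pullback (IV.subschemeι ≫ f) (IW.subschemeι ≫ f) η hη,
        deg_genericPoint_subscheme f IV hr, deg_genericPoint_subscheme f IW hs]
    have hq : VarDim.deg q z = VarDim.deg f ξ := by
      rw [VarDim.deg_congr (show q = m ≫ pullback.fst f f ≫ f by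
          simp only [q, m, pullback.map, pullback.lift_fst_assoc, Category.assoc]) z,
        deg_immersion, hz, ← deg_immersion (pullback.fst f f ≫ f) d ξ]
      exact VarDim.deg_congr (pullback.diagonal_fst_assoc f f) ξ
    refine ⟨b, by omega, ?_⟩
    have key : ∀ w, m z = w → IntMult.stalkIdeal m.ker w ≠ ⊤ ∧
        ringKrullDim (↑((pullback f f).presheaf.stalk w) ⧸ IntMult.stalkIdeal m.ker w) = b := by
      rintro w rfl
      rw [stalkIdeal_ker]
      exact ⟨RingHom.ker_ne_top _, (ringKrullDim_eq_of_ringEquiv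
        (RingHom.quotientKerEquivOfSurjective (m.stalkMap_surjective z))).trans hb⟩
    exact key _ hz
  haveI : Nontrivial (L ⧸ J) := Ideal.Quotient.nontrivial_iff.2 hJ.1
  have hfin : Module.length L ((L ⧸ J) ⧸ Ideal.span (Set.range g) • (⊤ : Submodule L (L ⧸ J))) ≠ ⊤ := by
    rw [(TensorProduct.quotTensorEquivQuotSMul (L ⧸ J) (Ideal.span (Set.range g))).length_eq.symm,
      length_quot_tensor_quot, sup_comm, ← length_quot_tensor_quot, ← length_tor_zero, ← hg,
      length_tor_diag_scheme f IV IW ξ 0, length_tor_zero, length_quot_tensor_quot]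
    haveI := isRegularLocalRing_stalk f ξ
    refine HSLib.length_ne_top_of_forall_isMaximal fun p hp => ?_
    rw [Module.support_eq_zeroLocus, Ideal.annihilator_quotient] at hp
    have hle : IsLocalRing.maximalIdeal (X.presheaf.stalk ξ) ≤ p.asIdeal :=
      (sqrt_sup_eq_maximalIdeal IV IW hξV hξW hmax) ▸ p.2.radical_le_iff.2 hp
    exact (IsLocalRing.maximalIdeal.isMaximal _).eq_of_le p.2.ne_top hle ▸ inferInstance
  have hmult : IntMult.mult m.ker d.ker (d ξ) = kchi (L ⧸ J) g := by
    show IntMult.chi L (L ⧸ IntMult.stalkIdeal d.ker (d ξ)) (L ⧸ J) = _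
    rw [hg, chi_quot_eq_kchi g hreg]
  refine ⟨fun h => ?_, fun h => ?_⟩
  · rw [hmult]
    refine kchi_pos (L ⧸ J) g hgm hfin ?_
    rw [Module.supportDim_quotient_eq_ringKrullDim, hJ.2, show b = n by omega]
  · rw [hmult]
    refine kchi_eq_zero (L ⧸ J) g hfin ?_
    rw [Module.supportDim_quotient_eq_ringKrullDim, hJ.2]
    exact_mod_cast (show b < n by omega)

/-- Positivity. -/
theorem mult_pos [Smooth f] [IsSeparated f] [QuasiCompact f] [IsIntegral X]
    (IV IW : X.IdealSheafData) [IsIntegral IV.subscheme] [IsIntegral IW.subscheme] {n r s : ℕ}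
    (hn : topologicalKrullDim X = n) (hr : topologicalKrullDim IV.support = r)
    (hs : topologicalKrullDim IW.support = s)
    (hprop : IntMult.ProperInt (IV.support : Set X) (IW.support : Set X) n r s) {ξ : X}
    (hξV : ξ ∈ IV.support) (hξW : ξ ∈ IW.support)
    (hmax : ∀ ξ' : X, ξ' ∈ IV.support → ξ' ∈ IW.support → ξ' ⤳ ξ → ξ' = ξ) :
    0 < IntMult.mult IV IW ξ :=
  (exists_mult_data f IV IW hn hr hs hξV hξW hmax).1
    (deg_add_eq_of_proper f IV IW hn hr hs hprop hξV hξW hmax)

end Groth.Agent.IntMultLib
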