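import Groth.Agent.QCoh.Stalk
import Groth.Agent.H23.StalkPrimes
import Groth.Agent.H23.ZeroSec
import Mathlib

/-!
# The stalk at a generization is a localization of the stalk
-/

set_option autoImplicit false
set_option linter.style.haveILetI false
set_option backward.isDefEq.respectTransparency false
set_option backward.isDefEq.respectTransparency.types false

universe u

open CategoryTheory AlgebraicGeometry

namespace Groth.Agent.IntMultLib

variable {X : Scheme.{u}} {F : X.Modules}

/-- `F_z` as a module over `O_x`. -/
noncomputable abbrev specModule (F : X.Modules) {x z : X} (h : z ⤳ x) :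
    Module (X.presheaf.stalk x) (F.presheaf.stalk z) :=
  Module.compHom _ (X.presheaf.stalkSpecializes h).hom

/-- The specialization map as a linear map. -/
noncomputable def specLin (F : X.Modules) {x z : X} (h : z ⤳ x) :
    letI := specModule F h
    F.presheaf.stalk x →ₗ[X.presheaf.stalk x] F.presheaf.stalk z :=
  letI := specModule F h
  { toFun := F.presheaf.stalkSpecializes h
    map_add' := map_add (F.presheaf.stalkSpecializes h).hom
    map_smul' := H23.ZeroSec.stalkSpecializes_smul F h }

theorem isLocalizedModule_specLin (hF : Coh.IsQCoh F) {x z : X} (h : z ⤳ x) :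
    letI := specModule F h
    IsLocalizedModule (CDiv6.primeOf h).asIdeal.primeCompl (specLin F h) := by
  letI := specModule F h
  obtain ⟨_, ⟨U, hU, rfl⟩, hx, -⟩ :=
    X.isBasis_affineOpens.exists_subset_of_mem_open (Set.mem_univ x) isOpen_univ
  replace hU : IsAffineOpen U := hU
  have hz : z ∈ U := h.mem_open U.isOpen hx
  letI : Algebra Γ(X, U) (X.presheaf.stalk x) := QCoh.stalkAlg hx
  letI : Algebra Γ(X, U) (X.presheaf.stalk z) := QCoh.stalkAlg hz
  letI : Algebra (X.presheaf.stalk x) (X.presheaf.stalk z) := (X.presheaf.stalkSpecializes h).hom.toAlgebra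
  haveI : IsScalarTower Γ(X, U) (X.presheaf.stalk x) (X.presheaf.stalk z) := IsScalarTower.of_algebraMap_eq fun r =>
    (X.presheaf.germ_stalkSpecializes_apply hx h r).symm
  letI := QCoh.stalkModule F hx
  letI := QCoh.stalkModule F hz
  haveI := QCoh.isScalarTower_stalk F hx
  haveI := QCoh.isScalarTower_stalk F hz
  haveI : IsScalarTower (X.presheaf.stalk x) (X.presheaf.stalk z) (F.presheaf.stalk z) :=
    IsScalarTower.of_algebraMap_smul fun _ _ => rfl
  haveI : IsScalarTower Γ(X, U) (X.presheaf.stalk x) (F.presheaf.stalk z) :=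
    IsScalarTower.of_algebraMap_smul fun r m =>
      congrArg (fun c => c • m) (X.presheaf.germ_stalkSpecializes_apply hx h r)
  haveI := QCoh.isLocalization_stalk' hU hx
  haveI := QCoh.isLocalization_stalk' hU hz
  haveI := H23.StalkPrimes.isLocalization_primeOf h
  refine (isLocalizedModule_iff_isBaseChange (CDiv6.primeOf h).asIdeal.primeCompl (X.presheaf.stalk z) _).2 ?_
  refine IsBaseChange.of_comp (R := Γ(X, U)) (f := QCoh.germLin F hx)
    ((isLocalizedModule_iff_isBaseChange (hU.primeIdealOf ⟨x, hx⟩).asIdeal.primeCompl _ _).1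
      (QCoh.isLocalizedModule_germLin hF hU hx)) ?_
  have e : (specLin F h).restrictScalars Γ(X, U) ∘ₗ QCoh.germLin F hx = QCoh.germLin F hz :=
    LinearMap.ext fun m => TopCat.Presheaf.germ_stalkSpecializes_apply F.presheaf hx h m
  exact e ▸ (isLocalizedModule_iff_isBaseChange (hU.primeIdealOf ⟨z, hz⟩).asIdeal.primeCompl _ _).1
      (QCoh.isLocalizedModule_germLin hF hU hz)

/-- The multiplicity of a stalk at the prime of a generization is the length of the stalk there. -/
theorem length_localized_stalk (hF : Coh.IsQCoh F) {x z : X} (h : z ⤳ x) :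
    Module.length (Localization.AtPrime (CDiv6.primeOf h).asIdeal)
        (LocalizedModule (CDiv6.primeOf h).asIdeal.primeCompl (F.presheaf.stalk x)) =
      Module.length (X.presheaf.stalk z) (F.presheaf.stalk z) := by
  letI : Algebra (X.presheaf.stalk x) (X.presheaf.stalk z) := (X.presheaf.stalkSpecializes h).hom.toAlgebra
  letI := specModule F h
  haveI := isLocalizedModule_specLin hF h
  haveI := H23.StalkPrimes.isLocalization_primeOf h
  let S := (CDiv6.primeOf h).asIdeal.primeCompl
  let Lp := Localization.AtPrime (CDiv6.primeOf h).asIdeal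
  let e : Lp ≃ₐ[X.presheaf.stalk x] X.presheaf.stalk z := IsLocalization.algEquiv S _ _
  letI : Algebra Lp (X.presheaf.stalk z) := e.toRingEquiv.toRingHom.toAlgebra
  letI : Module Lp (F.presheaf.stalk z) := Module.compHom _ e.toRingEquiv.toRingHom
  haveI : IsScalarTower Lp (X.presheaf.stalk z) (F.presheaf.stalk z) :=
    IsScalarTower.of_algebraMap_smul fun _ _ => rfl
  haveI : IsScalarTower (X.presheaf.stalk x) Lp (F.presheaf.stalk z) :=
    IsScalarTower.of_algebraMap_smul fun r m => congrArg (fun c => c • m) (e.commutes r)
  rw [((IsLocalizedModule.iso S (specLin F h)).extendScalarsOfIsLocalization S Lp).length_eq,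
    Module.length_eq_of_surjective (S := Lp) (R := X.presheaf.stalk z) (M := F.presheaf.stalk z) e.surjective]

theorem mem_support_stalk (hF : Coh.IsQCoh F) {x z : X} (h : z ⤳ x) :
    CDiv6.primeOf h ∈ Module.support (X.presheaf.stalk x) (F.presheaf.stalk x) ↔
      Nontrivial (F.presheaf.stalk z) := by
  letI := specModule F h
  haveI := isLocalizedModule_specLin hF h
  rw [Module.mem_support_iff]
  exact (IsLocalizedModule.iso (CDiv6.primeOf h).asIdeal.primeCompl (specLin F h)).toEquiv.nontrivial_congr

end Groth.Agent.IntMultLib
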