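import Groth.Agent.IntMultLib.PtIdeal
import Groth.Agent.IntMultLib.PositiveScheme
import Groth.Agent.IntMultLib.ChiFormula
import Groth.Agent.IntMultLib.StalkLocal
import Mathlib

/-!
# Multiplicities at a point, and `chi` of modules over a stalk as an intersection product
-/

set_option autoImplicit false
set_option linter.style.haveILetI false
set_option backward.isDefEq.respectTransparency.types false

universe u

open CategoryTheory CategoryTheory.Limits AlgebraicGeometry

namespace Groth.Agent.IntMultLib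

variable {K : Type u} [Field K] {X : Scheme.{u}} (f : X ⟶ Spec (CommRingCat.of K)) {δ : X → ℤ}

theorem delta_lt_of_specializes [LocallyOfFiniteType f] (hδ : Cyc.DeltaCompat f δ (fun _ => 0)) {x y : X}
    (h : x ⤳ y) (hne : x ≠ y) : δ y < δ x := by
  rw [delta_eq_deg f hδ, delta_eq_deg f hδ, Int.ofNat_lt]
  by_contra hc
  exact hne (VarDim.eq_of_specializes_of_deg_le f h (not_lt.1 hc))

theorem delta_le_of_specializes [LocallyOfFiniteType f] (hδ : Cyc.DeltaCompat f δ (fun _ => 0)) {x y : X}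
    (h : x ⤳ y) : δ y ≤ δ x := by
  rcases eq_or_ne x y with rfl | hne
  exacts [le_rfl, (delta_lt_of_specializes f hδ h hne).le]

theorem eq_of_specializes_of_delta_le [LocallyOfFiniteType f] (hδ : Cyc.DeltaCompat f δ (fun _ => 0)) {x y : X}
    (h : x ⤳ y) (hd : δ x ≤ δ y) : x = y :=
  by_contra fun hne => (delta_lt_of_specializes f hδ h hne).not_ge hd

/-- `dim O_x/p + δ x = δ (point of p)`. -/
theorem exists_dim_quot_primeOf [LocallyOfFiniteType f] (hδ : Cyc.DeltaCompat f δ (fun _ => 0)) {ξ x : X}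
    (h : ξ ⤳ x) : ∃ a : ℕ, ringKrullDim (X.presheaf.stalk x ⧸ (CDiv6.primeOf h).asIdeal) = a ∧
      δ x + a = δ ξ := by
  obtain ⟨a, ha, hd⟩ := exists_dim_quotient f (IntMult.ptIdeal ξ) (topologicalKrullDim_ptIdeal f ξ)
    (mem_ptIdeal_support.2 h)
  refine ⟨a, (ringKrullDim_eq_of_ringEquiv (Ideal.quotEquivOfEq (stalkIdeal_ptIdeal h).symm)).trans ha, ?_⟩
  rw [delta_eq_deg f hδ, delta_eq_deg f hδ]
  exact_mod_cast hd

theorem exists_dim_stalk_delta [LocallyOfFiniteType f] [IsIntegral X] (hδ : Cyc.DeltaCompat f δ (fun _ => 0)) {n : ℤ}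
    (hn : δ (genericPoint X) = n) (x : X) :
    ∃ d : ℕ, ringKrullDim (X.presheaf.stalk x) = d ∧ δ x + d = n := by
  obtain ⟨d, hd, he⟩ := exists_dim_stalk_of_isIntegral f x
  refine ⟨d, hd, ?_⟩
  rw [← hn, delta_eq_deg f hδ, delta_eq_deg f hδ]
  exact_mod_cast he

theorem mult_ptIdeal {ξ η x : X} (hξ : ξ ⤳ x) (hη : η ⤳ x) :
    IntMult.mult (IntMult.ptIdeal ξ) (IntMult.ptIdeal η) x =
      IntMult.chi (X.presheaf.stalk x) (X.presheaf.stalk x ⧸ (CDiv6.primeOf hξ).asIdeal)
        (X.presheaf.stalk x ⧸ (CDiv6.primeOf hη).asIdeal) := by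
  rw [IntMult.mult, stalkIdeal_ptIdeal hξ, stalkIdeal_ptIdeal hη, chi_symm]

/-- Positivity and vanishing of the multiplicity at a maximal common specialization. -/
theorem mult_pt_data [Smooth f] [IsSeparated f] [QuasiCompact f] [IsIntegral X]
    (hδ : Cyc.DeltaCompat f δ (fun _ => 0)) {n : ℤ} (hn : δ (genericPoint X) = n) {ξ η x : X}
    (hξ : ξ ⤳ x) (hη : η ⤳ x) (hmax : ∀ z, ξ ⤳ z → η ⤳ z → z ⤳ x → z = x) :
    (δ ξ + δ η = δ x + n → 0 < IntMult.mult (IntMult.ptIdeal ξ) (IntMult.ptIdeal η) x) ∧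
      (δ ξ + δ η < δ x + n → IntMult.mult (IntMult.ptIdeal ξ) (IntMult.ptIdeal η) x = 0) := by
  have hdim : topologicalKrullDim X = (VarDim.deg f (genericPoint X) : ℕ) := by
    rw [VarDim.topologicalKrullDim_eq_deg_genericPoint f]; rfl
  obtain ⟨h1, h2⟩ := exists_mult_data f (IntMult.ptIdeal ξ) (IntMult.ptIdeal η) hdim
    (topologicalKrullDim_ptIdeal f ξ) (topologicalKrullDim_ptIdeal f η) (mem_ptIdeal_support.2 hξ)
    (mem_ptIdeal_support.2 hη) fun z hz hz' h => hmax z (mem_ptIdeal_support.1 hz) (mem_ptIdeal_support.1 hz') h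
  rw [← hn, delta_eq_deg f hδ, delta_eq_deg f hδ, delta_eq_deg f hδ, delta_eq_deg f hδ]
  exact ⟨fun h => h1 (by omega), fun h => h2 (by omega)⟩

/-- The points generizing `x` are the primes of its local ring. -/
noncomputable def genEquiv (x : X) : {ξ : X // ξ ⤳ x} ≃ PrimeSpectrum (X.presheaf.stalk x) where
  toFun ξ := CDiv6.primeOf ξ.2
  invFun P := ⟨X.fromSpecStalk x P, CDiv6.fromSpecStalk_specializes P⟩
  left_inv ξ := Subtype.ext (CDiv6.fromSpecStalk_primeOf ξ.2)
  right_inv P := CDiv6.primeOf_fromSpecStalk P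

theorem mem_support_quotient {A : Type u} [CommRing A] {I : Ideal A} {p : PrimeSpectrum A} :
    p ∈ Module.support A (A ⧸ I) ↔ I ≤ p.asIdeal := by
  rw [Module.support_eq_zeroLocus, Ideal.annihilator_quotient]
  rfl

theorem specializes_of_le {x ξ z : X} (hξ : ξ ⤳ x) (hz : z ⤳ x)
    (h : (CDiv6.primeOf hξ).asIdeal ≤ (CDiv6.primeOf hz).asIdeal) : ξ ⤳ z :=
  (H23.StalkPrimes.primeOf_le_iff hz hξ).1 h

/-- Two primes of a stalk meet only at the closed point iff the point is a maximal common specialization. -/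
theorem maximal_of_meet {x ξ η : X} (hξ : ξ ⤳ x) (hη : η ⤳ x)
    (h : Meet (X.presheaf.stalk x) (X.presheaf.stalk x ⧸ (CDiv6.primeOf hξ).asIdeal)
      (X.presheaf.stalk x ⧸ (CDiv6.primeOf hη).asIdeal)) :
    ∀ z, ξ ⤳ z → η ⤳ z → z ⤳ x → z = x := by
  intro z h1 h2 hz
  have hm := h (CDiv6.primeOf hz) (mem_support_quotient.2 ((H23.StalkPrimes.primeOf_le_iff hz hξ).2 h1))
    (mem_support_quotient.2 ((H23.StalkPrimes.primeOf_le_iff hz hη).2 h2))
  refine H23.StalkPrimes.primeOf_inj hz (specializes_refl x) ?_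
  rw [H23.ZeroSec.primeOf_refl']
  exact IsLocalRing.eq_maximalIdeal hm

/-- The hypothesis of `chi_formula`. -/
theorem chi_vanish_stalk [Smooth f] [IsSeparated f] [QuasiCompact f] [IsIntegral X]
    (hδ : Cyc.DeltaCompat f δ (fun _ => 0)) (x : X) {d : ℕ} (hd : δ x + d = δ (genericPoint X))
    (p q : PrimeSpectrum (X.presheaf.stalk x))
    (h : Meet (X.presheaf.stalk x) (X.presheaf.stalk x ⧸ p.asIdeal) (X.presheaf.stalk x ⧸ q.asIdeal))
    (a b : ℕ) (ha : ringKrullDim (X.presheaf.stalk x ⧸ p.asIdeal) = a)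
    (hb : ringKrullDim (X.presheaf.stalk x ⧸ q.asIdeal) = b) (hab : a + b < d) :
    IntMult.chi (X.presheaf.stalk x) (X.presheaf.stalk x ⧸ p.asIdeal) (X.presheaf.stalk x ⧸ q.asIdeal) = 0 := by
  obtain ⟨⟨ξ, hξ⟩, rfl⟩ := (genEquiv x).surjective p
  obtain ⟨⟨η, hη⟩, rfl⟩ := (genEquiv x).surjective q
  rw [genEquiv, Equiv.coe_fn_mk] at h ha hb ⊢
  rw [← mult_ptIdeal hξ hη]
  refine (mult_pt_data f hδ rfl hξ hη (maximal_of_meet hξ hη h)).2 ?_
  obtain ⟨a', ha', hξa⟩ := exists_dim_quot_primeOf f hδ hξ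
  obtain ⟨b', hb', hηb⟩ := exists_dim_quot_primeOf f hδ hη
  have e1 : a = a' := by exact_mod_cast ha.symm.trans ha'
  have e2 : b = b' := by exact_mod_cast hb.symm.trans hb'
  omega

/-- The support bound in terms of `δ`. -/
theorem supportDim_le_of_delta [LocallyOfFiniteType f] (hδ : Cyc.DeltaCompat f δ (fun _ => 0)) (x : X) {a : ℕ}
    (M : Type u) [AddCommGroup M] [Module (X.presheaf.stalk x) M]
    (h : ∀ ξ (hξ : ξ ⤳ x), CDiv6.primeOf hξ ∈ Module.support (X.presheaf.stalk x) M → δ ξ ≤ δ x + a) :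
    Module.supportDim (X.presheaf.stalk x) M ≤ a := by
  let g : Module.support (X.presheaf.stalk x) M → ℤ := fun p => δ ((genEquiv x).symm p.1).1 - δ x
  have hg : ∀ p, 0 ≤ g p ∧ g p ≤ a := fun p => by
    obtain ⟨⟨ξ, hξ⟩, he⟩ := (genEquiv x).surjective p.1
    have hgp : g p = δ ξ - δ x := by simp only [g, ← he, Equiv.symm_apply_apply]
    have h1 := delta_le_of_specializes f hδ hξ
    have h2 := h ξ hξ (by have h2 := p.2; rw [← he] at h2; exact h2)
    omega
  have hanti : ∀ p q, p < q → g q < g p := fun p q hpq => by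
    obtain ⟨⟨ξ, hξ⟩, he⟩ := (genEquiv x).surjective p.1
    obtain ⟨⟨η, hη⟩, he'⟩ := (genEquiv x).surjective q.1
    have hgp : g p = δ ξ - δ x := by simp only [g, ← he, Equiv.symm_apply_apply]
    have hgq : g q = δ η - δ x := by simp only [g, ← he', Equiv.symm_apply_apply]
    have hlt : p.1 < q.1 := hpq
    rw [← he, ← he', lt_iff_le_and_ne] at hlt
    have hs : ξ ⤳ η := (H23.StalkPrimes.primeOf_le_iff hη hξ).1 hlt.1
    have hne : ξ ≠ η := by
      rintro rfl
      exact hlt.2 rfl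
    have := delta_lt_of_specializes f hδ hs hne
    omega
  refine iSup_le fun l => ?_
  have hstep : ∀ i : Fin (l.length + 1), g (l i) + i ≤ g l.head := by
    intro i
    induction i using Fin.induction with
    | zero => simp [RelSeries.head]
    | succ i ih =>
      have := hanti _ _ (l.step i)
      simp only [Fin.val_succ, Fin.val_castSucc] at ih ⊢
      push_cast
      omega
  have := hstep (Fin.last _)
  have h1 := (hg (l (Fin.last _))).1
  have h2 := (hg l.head).2
  simp only [Fin.val_last] at this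
  have hla : l.length ≤ a := by omega
  exact_mod_cast hla

end Groth.Agent.IntMultLib
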