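import Groth.Agent.IntMultLib.TorKoszul
import Groth.Agent.S14413
import Mathlib

/-!
# Vanishing of `Tor` from a regular sequence in the annihilator
-/

set_option autoImplicit false
set_option linter.style.haveILetI false

universe u

open CategoryTheory CategoryTheory.Limits TensorProduct RingTheory.Sequence

namespace Groth.Agent.IntMultLib

variable {A : Type u} [CommRing A]

/-- An element killing `M` is null homotopic on a resolution of `M`. -/
theorem smul_cycle_mem_range {M : ModuleCat.{u} A} (P : ProjectiveResolution M) {x : A}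
    (hx : ∀ m : M, x • m = 0) (N : Type u) [AddCommGroup N] [Module A N] (i : ℕ)
    (z : P.complex.X (i + 1) ⊗[A] N) (hz : (P.complex.d (i + 1) i).hom.rTensor N z = 0) :
    ∃ w, (P.complex.d (i + 2) (i + 1)).hom.rTensor N w = x • z := by
  have h0 : (x • 𝟙 P.complex) ≫ P.π = 0 := by
    refine HomologicalComplex.hom_ext _ _ fun n => ?_
    rcases n with _ | n
    · refine ModuleCat.hom_ext (LinearMap.ext fun y => ?_)
      show (P.π.f 0).hom (x • y) = 0
      rw [map_smul]
      exact hx _
    · exact (HomologicalComplex.isZero_single_obj_X _ _ _ _ (by simp)).eq_of_tgt _ _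
  let h := ProjectiveResolution.liftHomotopyZero _ h0
  have hc := h.comm (i + 1)
  simp only [dNext_eq h.hom (show (ComplexShape.down ℕ).Rel (i + 1) i by simp),
    prevD_eq h.hom (show (ComplexShape.down ℕ).Rel (i + 2) (i + 1) by simp),
    HomologicalComplex.zero_f, add_zero, HomologicalComplex.smul_f_apply, HomologicalComplex.id_f] at hc
  have hc' := congrArg ModuleCat.Hom.hom hc
  simp only [ModuleCat.hom_smul, ModuleCat.hom_id, ModuleCat.hom_add, ModuleCat.hom_comp] at hc'
  refine ⟨(h.hom (i + 1) (i + 2)).hom.rTensor N z, ?_⟩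
  have := LinearMap.congr_fun (congrArg (LinearMap.rTensor N) hc') z
  simp only [LinearMap.rTensor_smul, LinearMap.rTensor_id, LinearMap.rTensor_add, LinearMap.rTensor_comp,
    LinearMap.smul_apply, LinearMap.id_apply, LinearMap.add_apply, LinearMap.comp_apply, hz, map_zero,
    zero_add] at this
  exact this.symm

theorem exists_bdy_of_regular {M : ModuleCat.{u} A} (P : ProjectiveResolution M) (L : ℕ)
    (hP : ∀ i, L < i → IsZero (P.complex.X i)) :
    ∀ (ps : List A) (N : Type u) [AddCommGroup N] [Module A N], IsWeaklyRegular N ps →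
      (∀ x ∈ ps, ∀ m : M, x • m = 0) → ∀ i, L < i + 1 + ps.length →
      ∀ z : P.complex.X (i + 1) ⊗[A] N, (P.complex.d (i + 1) i).hom.rTensor N z = 0 →
      ∃ w, (P.complex.d (i + 2) (i + 1)).hom.rTensor N w = z := by
  intro ps
  induction ps with
  | nil =>
    intro N _ _ _ _ i hi z _
    haveI := ModuleCat.subsingleton_of_isZero (hP (i + 1) (by simpa using hi))
    exact ⟨0, Subsingleton.elim _ _⟩
  | cons x ps ih =>
    intro N _ _ hreg hann i hi z hz
    rw [isWeaklyRegular_cons_iff] at hreg
    haveI : ∀ n, Module.Projective A (P.complex.X n) := fun n =>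
      (IsProjective.iff_projective _).2 (P.projective n)
    obtain ⟨w, hw⟩ := smul_cycle_mem_range P (hann x List.mem_cons_self) N i z hz
    let q : N →ₗ[A] QuotSMulTop x N := Submodule.mkQ _
    let D : ∀ n, P.complex.X (n + 1) →ₗ[A] P.complex.X n := fun n => (P.complex.d (n + 1) n).hom
    have hcomm : ∀ n (y : P.complex.X (n + 1) ⊗[A] N),
        (D n).rTensor _ (q.lTensor _ y) = q.lTensor _ ((D n).rTensor N y) := fun n y => by
      rw [← LinearMap.comp_apply, LinearMap.rTensor_comp_lTensor, ← LinearMap.lTensor_comp_rTensor,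
        LinearMap.comp_apply]
    have hxq : ∀ n (y : P.complex.X n ⊗[A] N), q.lTensor _ (x • y) = 0 := fun n y => by
      induction y using TensorProduct.induction_on with
      | zero => simp
      | tmul a b =>
        rw [← TensorProduct.tmul_smul, LinearMap.lTensor_tmul, map_smul]
        have : x • q b = 0 := by
          rw [← map_smul]
          exact (Submodule.Quotient.mk_eq_zero _).2 (Submodule.smul_mem_pointwise_smul b x ⊤ trivial)
        rw [this, TensorProduct.tmul_zero]
      | add a b ha hb => rw [smul_add, map_add, ha, hb, add_zero]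
    obtain ⟨v', hv'⟩ := ih (QuotSMulTop x N) hreg.2 (fun y hy => hann y (List.mem_cons_of_mem _ hy)) (i + 1)
      (by simp only [List.length_cons] at hi; omega) (q.lTensor _ w) (by
        show (D (i + 1)).rTensor _ _ = 0
        rw [hcomm]
        show q.lTensor _ ((P.complex.d (i + 2) (i + 1)).hom.rTensor N w) = 0
        rw [hw, hxq])
    obtain ⟨v, rfl⟩ := LinearMap.lTensor_surjective _ (Submodule.mkQ_surjective _) v'
    have hex : Function.Exact (LinearMap.lsmul A N x) q := by
      rw [LinearMap.exact_iff, Submodule.ker_mkQ]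
      ext y
      simp [Submodule.mem_smul_pointwise_iff_exists]
    have hker : q.lTensor _ (w - (D (i + 2)).rTensor N v) = 0 := by
      rw [map_sub, ← hcomm]
      exact sub_eq_zero.2 hv'.symm
    obtain ⟨w1, hw1⟩ := (lTensor_exact (P.complex.X (i + 2)) hex (Submodule.mkQ_surjective _) _).1 hker
    have hsm : ∀ n (y : P.complex.X n ⊗[A] N), (LinearMap.lsmul A N x).lTensor _ y = x • y := fun n y => by
      induction y using TensorProduct.induction_on with
      | zero => simp
      | tmul a b => simp [TensorProduct.tmul_smul]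
      | add a b ha hb => rw [map_add, ha, hb, smul_add]
    have hinj : Function.Injective ((LinearMap.lsmul A N x).lTensor (P.complex.X (i + 1))) :=
      Module.Flat.lTensor_preserves_injective_linearMap _ hreg.1
    rw [hsm] at hw1
    refine ⟨w1, hinj ?_⟩
    rw [hsm, hsm, ← map_smul, hw1, map_sub, hw]
    have hdd : (P.complex.d (i + 2) (i + 1)).hom.rTensor N ((D (i + 2)).rTensor N v) = 0 := by
      show (P.complex.d (i + 2) (i + 1)).hom.rTensor N ((P.complex.d (i + 3) (i + 2)).hom.rTensor N v) = 0
      rw [← LinearMap.comp_apply, ← LinearMap.rTensor_comp, ← ModuleCat.hom_comp,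
        HomologicalComplex.d_comp_d, ModuleCat.hom_zero, LinearMap.rTensor_zero, LinearMap.zero_apply]
    rw [hdd, sub_zero]

/-- `Tor_i (M, N) = 0` for `i > pd M - n` if a regular sequence on `N` of length `n` kills `M`. -/
theorem subsingleton_tor_of_regular (M N : Type u) [AddCommGroup M] [Module A M] [AddCommGroup N] [Module A N]
    (L : ℕ) [HasProjectiveDimensionLE (ModuleCat.of A M) L] (ps : List A) (hps : IsWeaklyRegular N ps)
    (hann : ∀ x ∈ ps, ∀ m : M, x • m = 0) (i : ℕ) (hi : L < i + 1 + ps.length) :
    Subsingleton (DRing.Tor A (i + 1) M N) := by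
  obtain ⟨P, hP⟩ := (Groth.Agent.S14413.result A (ModuleCat.of A M) L).1 inferInstance
  rw [← Module.length_eq_zero_iff (R := A)]
  refine (length_tor_eq_hlen P N (i + 1)).trans ?_
  rw [hlen, Module.length_eq_zero_iff]
  refine Submodule.Quotient.subsingleton_iff.2 (top_le_iff.1 fun z _ => ?_)
  obtain ⟨w, hw⟩ := exists_bdy_of_regular P L hP ps N hps hann i hi z.1 (by exact z.2)
  exact ⟨w, hw⟩

/-- `Tor_0` is the tensor product. -/
theorem length_tor_zero (M N : Type u) [AddCommGroup M] [Module A M] [AddCommGroup N] [Module A N] :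
    Module.length A (DRing.Tor A 0 M N) = Module.length A (M ⊗[A] N) :=
  ((((MonoidalCategory.tensoringLeft (ModuleCat.{u} A)).obj (ModuleCat.of A M)).leftDerivedZeroIsoSelf).app
    (ModuleCat.of A N)).toLinearEquiv.length_eq

theorem length_quot_tensor_quot (I J : Ideal A) :
    Module.length A ((A ⧸ I) ⊗[A] (A ⧸ J)) = Module.length A (A ⧸ (I ⊔ J)) := by
  rw [(TensorProduct.quotTensorEquivQuotSMul (A ⧸ J) I).length_eq]
  have h : (I • ⊤ : Submodule A (A ⧸ J)) = Submodule.map (Submodule.mkQ J) I := by
    conv_rhs => rw [← Ideal.mul_top I, ← smul_eq_mul]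
    rw [Submodule.map_smul'', Submodule.map_top, Submodule.range_mkQ]
  rw [(Submodule.quotEquivOfEq _ _ h).length_eq, (Submodule.quotientQuotientEquivQuotientSup J I).length_eq,
    sup_comm]

/-- If all higher `Tor` vanish, `chi` is the length of the tensor product. -/
theorem chi_eq_length_of_vanish (I J : Ideal A)
    (h : ∀ i, Subsingleton (DRing.Tor A (i + 1) (A ⧸ I) (A ⧸ J))) :
    IntMult.chi A (A ⧸ I) (A ⧸ J) = ((Module.length A (A ⧸ (I ⊔ J))).toNat : ℤ) := by
  rw [chi_eq_sum _ _ 0 fun i hi => ?_]
  · simp [length_tor_zero, length_quot_tensor_quot]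
  · obtain ⟨j, rfl⟩ := Nat.exists_eq_add_of_lt hi
    simpa using h j

end Groth.Agent.IntMultLib
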