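import Groth.Agent.IntMultLib.AssocScheme
import Groth.Agent.IntMultLib.ExtPoint
import Groth.Agent.IntMultLib.LocalAlg
import Groth.Agent.IntMultLib.Vanish
import Groth.Agent.H23.P1Closed
import Groth.Agent.DeformNL.PnRing
import Groth.Agent.CycLib.MayerVietoris
import Mathlib

/-!
# Intersecting with the two sections of the projective line
-/

set_option autoImplicit false
set_option linter.style.haveILetI false
set_option backward.isDefEq.respectTransparency.types false

universe u

open CategoryTheory CategoryTheory.Limits AlgebraicGeometry RingTheory.Sequence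

namespace Groth.Agent.IntMultLib

variable {K : Type u} [Field K] {X : Scheme.{u}}

theorem smooth_p1Over (X : Scheme.{u}) : Smooth (CohB1.ProjSpaceOver.toBase 1 X) :=
  MorphismProperty.pullback_snd _ _ (DeformNL.PnRing.smooth_toSpec 1 _)

/-- A regular element on a domain quotient computes the multiplicity. -/
theorem chi_span_singleton {S : Type u} [CommRing S] [IsDomain S] (t : S) (ht : t ≠ 0) (P : Ideal S) [P.IsPrime]
    (htP : t ∉ P) :
    IntMult.chi S (S ⧸ Ideal.span {t}) (S ⧸ P) = ((Module.length S (S ⧸ (Ideal.span {t} ⊔ P))).toNat : ℤ) := by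
  have hS : IsWeaklyRegular S (List.ofFn ![t]) := by
    rw [List.ofFn_succ, List.ofFn_zero, isWeaklyRegular_cons_iff]
    exact ⟨fun a b h => mul_left_cancel₀ ht h, IsWeaklyRegular.nil _ _⟩
  haveI : HasProjectiveDimensionLE (ModuleCat.of S (S ⧸ Ideal.span {t})) 1 := by
    have := pdLE_quot_regular ![t] hS
    rwa [Matrix.range_cons, Matrix.range_empty, Set.union_empty] at this
  have hN : IsWeaklyRegular (S ⧸ P) [t] := by
    rw [isWeaklyRegular_cons_iff]
    refine ⟨fun a b h => ?_, IsWeaklyRegular.nil _ _⟩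
    have h' : (Ideal.Quotient.mk P t) * a = (Ideal.Quotient.mk P t) * b := h
    exact mul_left_cancel₀ (fun h0 => htP (Ideal.Quotient.eq_zero_iff_mem.1 h0)) h'
  refine chi_eq_length_of_vanish _ _ fun i =>
    subsingleton_tor_of_regular _ _ 1 [t] hN (fun x hx m => ?_) i (by simp only [List.length_singleton]; omega)
  obtain rfl := List.mem_singleton.1 hx
  obtain ⟨m, rfl⟩ := Ideal.Quotient.mk_surjective m
  exact Ideal.Quotient.eq_zero_iff_mem.2 (Ideal.mul_mem_right _ _ (Ideal.mem_span_singleton_self _))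

theorem not_mem_range_of_properly {δ : X → ℤ} {δP : ↥(CohB1.ProjSpaceOver 1 X) → ℤ}
    (hP : Cyc.DeltaCompat (CohB1.ProjSpaceOver.toBase 1 X) δP δ) [IsIntegral X] {n : ℤ}
    (hn : δ (genericPoint X) = n) (j : Fin (1 + 1)) {α : ↥(CohB1.ProjSpaceOver 1 X) → ℤ}
    (h : IntMult.IntersectProperly δP (n + 1) α (Set.indicator {P1.sect X j (genericPoint X)} 1))
    {ξ : ↥(CohB1.ProjSpaceOver 1 X)} (hξ : α ξ ≠ 0) : ξ ∉ Set.range (P1.sect X j) := by
  rintro ⟨x, rfl⟩
  have := h _ (P1.sect X j (genericPoint X)) (P1.sect X j x) hξ (by simp) (specializes_refl _)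
    ((genericPoint_specializes x).map (P1.sect X j).continuous)
  rw [H23.P1Fam.delta_sect hP, H23.P1Fam.delta_sect hP, hn] at this
  omega

variable (f : X ⟶ Spec (CommRingCat.of K))

/-- The fibre of a closed subscheme over a section, on the ambient projective line. -/
theorem subschemeFun_fibre {δ : X → ℤ} {δP : ↥(CohB1.ProjSpaceOver 1 X) → ℤ}
    (hP : Cyc.DeltaCompat (CohB1.ProjSpaceOver.toBase 1 X) δP δ) (k : ℤ) {W : Scheme.{u}}
    (ι : W ⟶ CohB1.ProjSpaceOver 1 X) [IsClosedImmersion ι] (j : Fin (1 + 1)) (x : X) :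
    Cyc.subschemeFun δ k (pullback.snd ι (P1.sect X j)) x =
      if δ x = k then ((Module.length ((CohB1.ProjSpaceOver 1 X).presheaf.stalk (P1.sect X j x))
        ((CohB1.ProjSpaceOver 1 X).presheaf.stalk (P1.sect X j x) ⧸
          (IntMult.stalkIdeal ι.ker (P1.sect X j x) ⊔ IntMult.stalkIdeal (P1.sect X j).ker (P1.sect X j x)))).toNat : ℤ)
      else 0 := by
  let s := P1.sect X j
  let i := pullback.fst ι s ≫ ι
  have hi : i = pullback.snd ι s ≫ s := pullback.condition
  have hker := ker_fst_comp (i := ι) (j := s)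
  have h1 : Cyc.subschemeFun δ k (pullback.snd ι s) x = Cyc.subschemeFun δP k i (s x) := by
    have hset : {w | pullback.snd ι s w = x} = {w | i w = s x} := Set.ext fun w => by
      simp only [Set.mem_setOf_eq]
      rw [show i w = s (pullback.snd ι s w) by rw [hi, Scheme.Hom.comp_apply],
        s.isClosedEmbedding.injective.eq_iff]
    simp only [Cyc.subschemeFun]
    rw [H23.P1Fam.delta_sect hP, hset]
  rw [h1, subschemeFun_eq_locLen i δP k (specializes_refl (s x)), H23.P1Fam.delta_sect hP]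
  refine if_congr Iff.rfl ?_ rfl
  letI := ((CohB1.ProjSpaceOver 1 X).presheaf.stalkSpecializes (specializes_refl (s x))).hom.toAlgebra
  haveI := H23.StalkPrimes.isLocalization_primeOf (specializes_refl (s x))
  rw [locLen, length_localized_quotient (CDiv6.primeOf (specializes_refl (s x))).asIdeal
    ((CohB1.ProjSpaceOver 1 X).presheaf.stalk (s x)), RingHom.algebraMap_toAlgebra,
    show i.ker = ι.ker ⊔ s.ker from hker, ← stalkIdeal_specializes, stalkIdeal_sup]

variable [Smooth f] [IsIntegral X]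

open Classical in
include f in
/-- `[ξ] · [X × a]` is the cycle of the fibre over `a`. -/
theorem interProd_point_sect {δ : X → ℤ} {δP : ↥(CohB1.ProjSpaceOver 1 X) → ℤ}
    (hP : Cyc.DeltaCompat (CohB1.ProjSpaceOver.toBase 1 X) δP δ) {n : ℤ} (hn : δ (genericPoint X) = n) (k : ℤ)
    {ξ : ↥(CohB1.ProjSpaceOver 1 X)} (hξ : δP ξ = k + 1) (j : Fin (1 + 1))
    (hnot : ξ ∉ Set.range (P1.sect X j)) :
    (∀ x : X, IntMult.interProd δP (n + 1) (Set.indicator {ξ} 1) (Set.indicator {P1.sect X j (genericPoint X)} 1)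
        (P1.sect X j x) =
      Cyc.subschemeFun δ k (pullback.snd (IntMult.ptIdeal ξ).subschemeι (P1.sect X j)) x) ∧
    ∀ p, p ∉ Set.range (P1.sect X j) →
      IntMult.interProd δP (n + 1) (Set.indicator {ξ} 1) (Set.indicator {P1.sect X j (genericPoint X)} 1) p = 0 := by
  let s := P1.sect X j
  let η := s (genericPoint X)
  refine ⟨fun x => ?_, fun p hp => ?_⟩
  swap
  · rw [interProd_indicator, if_neg]
    rintro ⟨-, h, -⟩
    exact hp (h.mem_closed s.isClosedEmbedding.isClosed_range ⟨_, rfl⟩)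
  have hη : η ⤳ s x := (genericPoint_specializes x).map s.continuous
  rw [subschemeFun_fibre hP, Scheme.IdealSheafData.ker_subschemeι, stalkIdeal_ker_eq_primeOf s x,
    interProd_indicator, H23.P1Fam.delta_sect hP, H23.P1Fam.delta_sect hP, hξ, hn]
  by_cases hk : δ x = k
  swap
  · rw [if_neg hk, if_neg]
    rintro ⟨-, -, h⟩
    omega
  rw [if_pos hk]
  by_cases hs : ξ ⤳ s x
  swap
  · rw [if_neg fun h => hs h.1, stalkIdeal_eq_top_of_notMem _ fun h => hs (mem_ptIdeal_support.1 h), top_sup_eq]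
    haveI : Subsingleton (((CohB1.ProjSpaceOver 1 X).presheaf.stalk (s x)) ⧸
        (⊤ : Ideal ((CohB1.ProjSpaceOver 1 X).presheaf.stalk (s x)))) := Submodule.Quotient.subsingleton_iff.2 rfl
    simp [Module.length_eq_zero]
  rw [if_pos ⟨hs, hη, by omega⟩, stalkIdeal_ptIdeal hs, mult_ptIdeal hs hη]
  haveI := smooth_p1Over X
  haveI : Smooth (CohB1.ProjSpaceOver.toBase 1 X ≫ f) := inferInstance
  haveI := isRegularLocalRing_stalk (CohB1.ProjSpaceOver.toBase 1 X ≫ f) (s x)
  let S := (CohB1.ProjSpaceOver 1 X).presheaf.stalk (s x)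
  haveI : IsDomain S := RegLoc6.isDomain_of_isRegularLocalRing S
  let t : S := (CohB1.ProjSpaceOver 1 X).presheaf.germ _ (s x) (H23.P1Sect.sect_mem X j x) (H23.P1Sect.c X j)
  have hD : (CDiv6.primeOf hη).asIdeal = Ideal.span {t} := by
    rw [← stalkIdeal_ker_eq_primeOf s x, stalkIdeal_ker]
    exact H23.P1Sect.ker_sect X j x
  have hle : ¬ (CDiv6.primeOf hη).asIdeal ≤ (CDiv6.primeOf hs).asIdeal := fun h =>
    hnot (((H23.StalkPrimes.primeOf_le_iff hs hη).1 h).mem_closed s.isClosedEmbedding.isClosed_range ⟨_, rfl⟩)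
  have ht : t ≠ 0 := fun h => hle (by rw [hD, h, Set.singleton_zero, Ideal.span_zero]; exact bot_le)
  rw [hD, sup_comm, chi_symm]
  exact chi_span_singleton t ht _ fun h => hle (by rw [hD, Ideal.span_le, Set.singleton_subset_iff]; exact h)

end Groth.Agent.IntMultLib
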