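import Groth.Agent.IntMultLib.StalkIdeal
import Groth.Agent.CDiv6.Factorial
import Groth.Agent.CycLib.Basic
import Groth.Agent.BMLib.Piece
import Mathlib

/-!
# The ideal of the closure of a point
-/

set_option autoImplicit false
set_option linter.style.haveILetI false
set_option backward.isDefEq.respectTransparency.types false

universe u

open CategoryTheory CategoryTheory.Limits AlgebraicGeometry

namespace Groth.Agent.IntMultLib

variable {X : Scheme.{u}}

theorem mem_ptIdeal_support {ξ x : X} : x ∈ (IntMult.ptIdeal ξ).support ↔ ξ ⤳ x := by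
  rw [← SetLike.mem_coe, IntMult.ptIdeal, Scheme.IdealSheafData.coe_support_vanishingIdeal,
    TopologicalSpace.Closeds.coe_mk, specializes_iff_mem_closure]

theorem ptIdeal_ideal (ξ : X) (U : X.affineOpens) (hξ : ξ ∈ (U : X.Opens)) :
    (IntMult.ptIdeal ξ).ideal U = (U.2.primeIdealOf ⟨ξ, hξ⟩).asIdeal := by
  have hpre : U.2.fromSpec ⁻¹' {ξ} = {U.2.primeIdealOf ⟨ξ, hξ⟩} := by
    ext q
    constructor
    · intro h
      exact U.2.fromSpec.isOpenEmbedding.injective (h.trans (U.2.fromSpec_primeIdealOf ⟨ξ, hξ⟩).symm)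
    · rintro rfl
      exact U.2.fromSpec_primeIdealOf ⟨ξ, hξ⟩
  have hcl : U.2.fromSpec ⁻¹' closure {ξ} = closure {U.2.primeIdealOf ⟨ξ, hξ⟩} := by
    rw [U.2.fromSpec.isOpenEmbedding.isOpenMap.preimage_closure_eq_closure_preimage U.2.fromSpec.continuous, hpre]
    rfl
  simp only [IntMult.ptIdeal, Scheme.IdealSheafData.vanishingIdeal_ideal]
  refine (congrArg PrimeSpectrum.vanishingIdeal hcl).trans ?_
  rw [PrimeSpectrum.vanishingIdeal_closure, PrimeSpectrum.vanishingIdeal_singleton]

/-- The stalk ideal of the closure of a point is the prime of that point. -/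
theorem stalkIdeal_ptIdeal {ξ x : X} (h : ξ ⤳ x) :
    IntMult.stalkIdeal (IntMult.ptIdeal ξ) x = (CDiv6.primeOf h).asIdeal := by
  obtain ⟨_, ⟨U, hU, rfl⟩, hxU, -⟩ :=
    X.isBasis_affineOpens.exists_subset_of_mem_open (Set.mem_univ x) isOpen_univ
  replace hU : IsAffineOpen U := hU
  have hξU : ξ ∈ U := h.mem_open U.isOpen hxU
  letI : Algebra Γ(X, U) (X.presheaf.stalk x) := (X.presheaf.germ U x hxU).hom.toAlgebra
  haveI : IsLocalization.AtPrime (X.presheaf.stalk x) (hU.primeIdealOf ⟨x, hxU⟩).asIdeal :=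
    hU.isLocalization_stalk ⟨x, hxU⟩
  have hcomap : (CDiv6.primeOf h).asIdeal.comap (algebraMap Γ(X, U) (X.presheaf.stalk x)) =
      (hU.primeIdealOf ⟨ξ, hξU⟩).asIdeal := by
    rw [IsAffineOpen.primeIdealOf_eq_map_closedPoint]
    show Ideal.comap _ (Ideal.comap (X.presheaf.stalkSpecializes h).hom (IsLocalRing.maximalIdeal _)) =
      Ideal.comap (X.presheaf.germ U ξ hξU).hom (IsLocalRing.maximalIdeal _)
    rw [Ideal.comap_comap]
    congr 1
    exact congrArg CommRingCat.Hom.hom (X.presheaf.germ_stalkSpecializes hxU h)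
  rw [stalkIdeal_eq_map _ x ⟨U, hU⟩ hxU, ptIdeal_ideal ξ ⟨U, hU⟩ hξU, ← hcomap]
  exact IsLocalization.map_comap (hU.primeIdealOf ⟨x, hxU⟩).asIdeal.primeCompl _ _

instance isIntegral_ptIdeal (ξ : X) : IsIntegral (IntMult.ptIdeal ξ).subscheme := by
  let I := IntMult.ptIdeal ξ
  haveI : IrreducibleSpace ↥(closure ({ξ} : Set X)) :=
    Subtype.irreducibleSpace isIrreducible_singleton.closure
  have hrange : Set.range I.subschemeι = closure {ξ} := by
    rw [Scheme.IdealSheafData.range_subschemeι]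
    exact Scheme.IdealSheafData.coe_support_vanishingIdeal _
  let e : I.subscheme ≃ₜ ↥(closure ({ξ} : Set X)) :=
    I.subschemeι.isEmbedding.toHomeomorph.trans (Homeomorph.setCongr hrange)
  haveI : IrreducibleSpace I.subscheme := e.irreducibleSpace_iff.2 inferInstance
  haveI : IsReduced I.subscheme := BMLib.isReduced_vanishingIdeal_subscheme _
  exact isIntegral_of_irreducibleSpace_of_isReduced _

theorem topologicalKrullDim_ptIdeal {k : Type u} [Field k] (f : X ⟶ Spec (CommRingCat.of k))
    [LocallyOfFiniteType f] (ξ : X) :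
    topologicalKrullDim (IntMult.ptIdeal ξ).support = (VarDim.deg f ξ : ℕ) := by
  have h : ((IntMult.ptIdeal ξ).support : Set X) = closure {ξ} :=
    Scheme.IdealSheafData.coe_support_vanishingIdeal _
  show topologicalKrullDim ↥((IntMult.ptIdeal ξ).support : Set X) = _
  rw [h, VarDim.topologicalKrullDim_closure_singleton f ξ]
  rfl

end Groth.Agent.IntMultLib
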