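import Groth.Agent.IntMultLib.LocalAlg
import Groth.Agent.CotTLib.CI
import Mathlib

/-!
# `P + Q = m` forces regular quotients
-/

set_option autoImplicit false
set_option linter.style.haveILetI false

universe u

open IsLocalRing

namespace Groth.Agent.IntMultLib

/-- A spanning set of the maximal ideal contains one of `spanFinrank` elements. -/
theorem exists_minimal_generators {R : Type u} [CommRing R] [IsLocalRing R] [IsNoetherianRing R] (S : Set R)
    (hS : Ideal.span S = maximalIdeal R) :
    ∃ T : Finset R, (T : Set R) ⊆ S ∧ Ideal.span (T : Set R) = maximalIdeal R ∧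
      T.card ≤ (maximalIdeal R).spanFinrank := by
  classical
  have hSm : S ⊆ maximalIdeal R := hS ▸ Ideal.subset_span
  let S' : Set (maximalIdeal R) := Subtype.val ⁻¹' S
  have himg : Subtype.val '' S' = S :=
    Set.image_preimage_eq_of_subset fun x hx => ⟨⟨x, hSm hx⟩, rfl⟩
  have hS' : Submodule.span R S' = ⊤ := by
    apply Submodule.map_injective_of_injective (maximalIdeal R).injective_subtype
    rw [Submodule.map_span, Submodule.map_top, Submodule.range_subtype]
    exact (congrArg (Submodule.span R) himg).trans hS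
  have htop := CotangentSpace.span_image_eq_top_iff.2 hS'
  obtain ⟨B, hBsub, hBspan, hBli⟩ := exists_linearIndependent (ResidueField R) ((maximalIdeal R).toCotangent '' S')
  rw [htop] at hBspan
  let bas : Module.Basis B (ResidueField R) (CotangentSpace R) :=
    Module.Basis.mk hBli (by rw [Subtype.range_coe, hBspan])
  haveI : Fintype B := FiniteDimensional.fintypeBasisIndex bas
  have hcard : Fintype.card B = (maximalIdeal R).spanFinrank := by
    rw [spanFinrank_maximalIdeal_eq_finrank_cotangentSpace, Module.finrank_eq_card_basis bas]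
  choose pre hpre using fun b : B => hBsub b.2
  refine ⟨Finset.univ.image fun b : B => (pre b : R), ?_, ?_, ?_⟩
  · intro x hx
    obtain ⟨b, -, rfl⟩ := Finset.mem_image.1 hx
    exact (hpre b).1
  · have h : Submodule.span R (Set.range pre) = ⊤ := by
      refine CotangentSpace.span_image_eq_top_iff.1 ?_
      rw [← Set.range_comp, show (maximalIdeal R).toCotangent ∘ pre = Subtype.val from funext fun b => (hpre b).2,
        Subtype.range_coe, hBspan]
    have h' := congrArg (Submodule.map (maximalIdeal R).subtype) h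
    rw [Submodule.map_span, Submodule.map_top, Submodule.range_subtype, ← Set.range_comp] at h'
    rw [Finset.coe_image, Finset.coe_univ, Set.image_univ]
    exact h'
  · exact (Finset.card_image_le.trans (le_of_eq (Finset.card_univ.trans hcard)))

theorem spanFinrank_quotient_le {R : Type u} [CommRing R] [IsLocalRing R] (P : Ideal R) [IsLocalRing (R ⧸ P)]
    (T : Finset R) (hT : Ideal.span (T : Set R) = maximalIdeal R) (T' : Finset R) (hT' : T' ⊆ T)
    (hsub : ∀ x ∈ T, x ∉ T' → x ∈ P) :
    (maximalIdeal (R ⧸ P)).spanFinrank ≤ T'.card := by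
  classical
  haveI : IsLocalHom (Ideal.Quotient.mk P) := IsLocalHom.of_surjective _ Ideal.Quotient.mk_surjective
  have hm : maximalIdeal (R ⧸ P) = (maximalIdeal R).map (Ideal.Quotient.mk P) :=
    (IsLocalRing.map_maximalIdeal_of_surjective _ Ideal.Quotient.mk_surjective).symm
  have h : maximalIdeal (R ⧸ P) = Ideal.span ((Ideal.Quotient.mk P) '' (T' : Set R)) := by
    rw [hm, ← hT, Ideal.map_span]
    refine le_antisymm (Ideal.span_le.2 ?_) (Ideal.span_mono (Set.image_mono (Finset.coe_subset.2 hT')))
    rintro _ ⟨x, hx, rfl⟩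
    by_cases hx' : x ∈ T'
    · exact Ideal.subset_span ⟨x, hx', rfl⟩
    · rw [Ideal.Quotient.eq_zero_iff_mem.2 (hsub x hx hx')]
      exact zero_mem _
  rw [h]
  refine (Submodule.spanFinrank_span_le_ncard_of_finite ((Finset.finite_toSet _).image _)).trans ?_
  exact (Set.ncard_image_le (Finset.finite_toSet _)).trans (le_of_eq (Set.ncard_coe_finset _))

/-- Both quotients are regular. -/
theorem regular_quotients {R : Type u} [CommRing R] [IsRegularLocalRing R] (P Q : Ideal R)
    (hP : P ≠ ⊤) (hQ : Q ≠ ⊤) (hPQ : P ⊔ Q = maximalIdeal R) (d a b : ℕ) (hd : ringKrullDim R = d)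
    (ha : ringKrullDim (R ⧸ P) = a) (hb : ringKrullDim (R ⧸ Q) = b) (hab : a + b = d) :
    IsRegularLocalRing (R ⧸ P) ∧ IsRegularLocalRing (R ⧸ Q) := by
  classical
  haveI : Nontrivial (R ⧸ P) := Ideal.Quotient.nontrivial_iff.2 hP
  haveI : Nontrivial (R ⧸ Q) := Ideal.Quotient.nontrivial_iff.2 hQ
  haveI : IsLocalRing (R ⧸ P) := IsLocalRing.of_surjective' _ Ideal.Quotient.mk_surjective
  haveI : IsLocalRing (R ⧸ Q) := IsLocalRing.of_surjective' _ Ideal.Quotient.mk_surjective
  obtain ⟨T, hTS, hT, hcard⟩ := exists_minimal_generators ((P : Set R) ∪ Q)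
    (by rw [Ideal.span_union, Ideal.span_eq, Ideal.span_eq, hPQ])
  have hdr : (maximalIdeal R).spanFinrank = d := by
    have := IsRegularLocalRing.spanFinrank_maximalIdeal (R := R)
    rw [hd] at this
    exact_mod_cast this
  let T₁ := T.filter fun x => x ∉ P
  let T₂ := T.filter fun x => x ∈ P
  have h1 : (maximalIdeal (R ⧸ P)).spanFinrank ≤ T₁.card :=
    spanFinrank_quotient_le P T hT T₁ (Finset.filter_subset _ _) fun x hx hx' => by
      by_contra hc; exact hx' (Finset.mem_filter.2 ⟨hx, hc⟩)
  have h2 : (maximalIdeal (R ⧸ Q)).spanFinrank ≤ T₂.card :=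
    spanFinrank_quotient_le Q T hT T₂ (Finset.filter_subset _ _) fun x hx hx' => by
      rcases hTS hx with h | h
      · exact absurd (Finset.mem_filter.2 ⟨hx, h⟩) hx'
      · exact h
  have hsum : T₂.card + T₁.card = T.card := Finset.card_filter_add_card_filter_not _
  have e1 := ringKrullDim_le_spanFinrank_maximalIdeal (R ⧸ P)
  have e2 := ringKrullDim_le_spanFinrank_maximalIdeal (R ⧸ Q)
  rw [ha] at e1
  rw [hb] at e2
  have e1' : a ≤ (maximalIdeal (R ⧸ P)).spanFinrank := by exact_mod_cast e1
  have e2' : b ≤ (maximalIdeal (R ⧸ Q)).spanFinrank := by exact_mod_cast e2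
  refine ⟨IsRegularLocalRing.of_spanFinrank_maximalIdeal_le _ ?_,
    IsRegularLocalRing.of_spanFinrank_maximalIdeal_le _ ?_⟩
  · rw [ha]; exact_mod_cast (show _ ≤ a by omega)
  · rw [hb]; exact_mod_cast (show _ ≤ b by omega)

end Groth.Agent.IntMultLib
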