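import Groth.Agent.IntMultLib.P1Inter
import Groth.Agent.IntMultLib.ChangeRings
import Groth.Agent.H23.P1Conn
import Mathlib

/-!
# Multiplicities on the projective line along a section
-/

set_option autoImplicit false
set_option linter.style.haveILetI false
set_option backward.isDefEq.respectTransparency.types false

universe u

open CategoryTheory CategoryTheory.Limits AlgebraicGeometry

namespace Groth.Agent.IntMultLib

variable {K : Type u} [Field K] {X : Scheme.{u}}

theorem deltaCompat_trans {Y : Scheme.{u}} (q : Y ⟶ X) (f : X ⟶ Spec (CommRingCat.of K)) [LocallyOfFiniteType q]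
    [LocallyOfFiniteType f] {δY : Y → ℤ} {δ : X → ℤ} (hq : Cyc.DeltaCompat q δY δ)
    (hf : Cyc.DeltaCompat f δ (fun _ => 0)) : Cyc.DeltaCompat (q ≫ f) δY (fun _ => 0) := fun y =>
  ⟨FibDim.rd (q ≫ f) y, (FibDim.rd_eq_rdeg (q ≫ f) y).symm, by
    rw [CycLib.deltaCompat_eq q hq y, CycLib.deltaCompat_eq f hf (q y), CycLib.rd_comp]
    push_cast
    ring⟩

theorem toBase_sect_apply (j : Fin (1 + 1)) (x : X) : CohB1.ProjSpaceOver.toBase 1 X (P1.sect X j x) = x := by
  rw [← Scheme.Hom.comp_apply, H23.P1Sect.sect_toBase]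
  rfl

theorem stalkMap_retraction (j : Fin (1 + 1)) (x : X) :
    (CohB1.ProjSpaceOver.toBase 1 X).stalkMap (P1.sect X j x) ≫ (P1.sect X j).stalkMap x =
      X.presheaf.stalkSpecializes (specializes_of_eq (toBase_sect_apply j x).symm) := by
  rw [← Scheme.Hom.stalkMap_comp, Scheme.Hom.stalkMap_congr_hom _ _ (H23.P1Sect.sect_toBase X j) x,
    Scheme.Hom.stalkMap_id]
  exact Category.comp_id _

theorem bijective_retraction (j : Fin (1 + 1)) (x : X) :
    Function.Bijective ⇑(((P1.sect X j).stalkMap x).hom.comp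
      ((CohB1.ProjSpaceOver.toBase 1 X).stalkMap (P1.sect X j x)).hom) := by
  rw [← CommRingCat.hom_comp, stalkMap_retraction]
  exact (ConcreteCategory.bijective_of_isIso
    (X.presheaf.stalkCongr (Inseparable.of_eq (toBase_sect_apply j x))).hom)

/-- The maximal ideal at a point of a section is spanned by the equation and the maximal ideal downstairs. -/
theorem maximalIdeal_sect (j : Fin (1 + 1)) (x : X) :
    IsLocalRing.maximalIdeal ((CohB1.ProjSpaceOver 1 X).presheaf.stalk (P1.sect X j x)) ≤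
      RingHom.ker ((P1.sect X j).stalkMap x).hom ⊔
        (IsLocalRing.maximalIdeal (X.presheaf.stalk (CohB1.ProjSpaceOver.toBase 1 X (P1.sect X j x)))).map
          ((CohB1.ProjSpaceOver.toBase 1 X).stalkMap (P1.sect X j x)).hom := by
  intro l hl
  let ρ := ((CohB1.ProjSpaceOver.toBase 1 X).stalkMap (P1.sect X j x)).hom
  let σ := ((P1.sect X j).stalkMap x).hom
  obtain ⟨a, ha⟩ := (bijective_retraction j x).2 (σ l)
  have hm : a ∈ IsLocalRing.maximalIdeal _ := fun hu =>
    hl ((isUnit_map_iff σ l).1 ((congrArg IsUnit ha).mp (hu.map (σ.comp ρ))))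
  rw [← sub_add_cancel l (ρ a)]
  refine Submodule.add_mem _ (Ideal.mem_sup_left ?_) (Ideal.mem_sup_right (Ideal.mem_map_of_mem _ hm))
  rw [RingHom.mem_ker, map_sub, sub_eq_zero]
  exact ha.symm

variable (f : X ⟶ Spec (CommRingCat.of K)) [IsAlgClosed K] [IsSeparated f] [LocallyOfFiniteType f] [QuasiCompact f]

include f in
/-- The projective line over a variety is a variety. -/
theorem isIntegral_p1Over [IsIntegral X] : IsIntegral (CohB1.ProjSpaceOver 1 X) := by
  haveI : IsIntegral (CohB1.ProjSpaceOver 1 (Spec (CommRingCat.of K))) := inferInstance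
  let g := CohB1.ProjSpaceOver.toBase 1 (Spec (CommRingCat.of K))
  haveI : IsIntegral (pullback g f) := Groth.Agent.S1582.result K _ X g f
  let e := (H23.P1Conn.isPullback_toP1 f).isoPullback
  haveI : Nonempty ↥(CohB1.ProjSpaceOver 1 X) := ⟨P1.sect X 0 (genericPoint X)⟩
  exact isIntegral_of_isOpenImmersion e.hom

include f in
/-- The cylinder over a point. -/
theorem exists_cylinder {δ : X → ℤ} {δP : ↥(CohB1.ProjSpaceOver 1 X) → ℤ} (hδ : Cyc.DeltaCompat f δ (fun _ => 0))
    (hP : Cyc.DeltaCompat (CohB1.ProjSpaceOver.toBase 1 X) δP δ) (v : X) :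
    ∃ ζ : ↥(CohB1.ProjSpaceOver 1 X), CohB1.ProjSpaceOver.toBase 1 X ζ = v ∧ δP ζ = δ v + 1 ∧
      ∀ (p : ↥(CohB1.ProjSpaceOver 1 X)) (hv : v ⤳ CohB1.ProjSpaceOver.toBase 1 X p), ∃ h : ζ ⤳ p,
        (CDiv6.primeOf h).asIdeal =
          (CDiv6.primeOf hv).asIdeal.map ((CohB1.ProjSpaceOver.toBase 1 X).stalkMap p).hom := by
  let π := CohB1.ProjSpaceOver.toBase 1 X
  haveI := smooth_p1Over X
  let B := IntMult.ptIdeal v
  haveI : IsIntegral (CohB1.ProjSpaceOver 1 B.subscheme) := isIntegral_p1Over (B.subschemeι ≫ f)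
  let e := (H23.P1Conn.isPullback_toP1 B.subschemeι).flip.isoPullback
  let e' : CohB1.ProjSpaceOver 1 B.subscheme ≅ pullback π B.subschemeι := e ≪≫ pullbackSymmetry _ _
  haveI : Nonempty ↥(pullback π B.subschemeι) := ⟨e'.hom (genericPoint ↥(CohB1.ProjSpaceOver 1 B.subscheme))⟩
  haveI : IsIntegral (pullback π B.subschemeι) := isIntegral_of_isOpenImmersion e'.inv
  let m := pullback.fst π B.subschemeι
  let ζ := m (genericPoint ↥(pullback π B.subschemeι))
  have hker : m.ker = B.comap π := rfl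
  have hspec : ∀ (p : ↥(CohB1.ProjSpaceOver 1 X)) (hv : v ⤳ π p), ∃ h : ζ ⤳ p,
      (CDiv6.primeOf h).asIdeal = (CDiv6.primeOf hv).asIdeal.map (π.stalkMap p).hom := by
    intro p hv
    obtain ⟨c, rfl⟩ : p ∈ Set.range m := by
      rw [← mem_support_ker m, hker, mem_support_comap]
      exact mem_ptIdeal_support.2 hv
    refine ⟨(genericPoint_specializes c).map m.continuous, ?_⟩
    rw [← stalkIdeal_ker_eq_primeOf m c, hker, stalkIdeal_comap, stalkIdeal_ptIdeal hv]
  have hπζ : π ζ = v := by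
    have h1 : v ⤳ π ζ := by
      rw [← mem_ptIdeal_support, ← mem_support_comap π, ← hker, mem_support_ker]
      exact ⟨_, rfl⟩
    obtain ⟨hs, -⟩ := hspec (P1.sect X 0 v) (specializes_of_eq (toBase_sect_apply 0 v).symm)
    have h2 := hs.map π.continuous
    rw [toBase_sect_apply] at h2
    exact (h2.antisymm h1).eq
  refine ⟨ζ, hπζ, ?_, hspec⟩
  let p := P1.sect X 0 v
  have hv : v ⤳ π p := specializes_of_eq (toBase_sect_apply 0 v).symm
  obtain ⟨hs, hprime⟩ := hspec p hv
  have hgen : ∀ (w : X) (h : v ⤳ w), w = v → (CDiv6.primeOf h).asIdeal = IsLocalRing.maximalIdeal _ := by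
    rintro w h rfl
    exact H23.ZeroSec.primeOf_refl' w
  rw [hgen _ hv (toBase_sect_apply 0 v)] at hprime
  have hK := deltaCompat_trans π f hP hδ
  obtain ⟨a, ha, hda⟩ := exists_dim_quot_primeOf (π ≫ f) hK hs
  have hne : ζ ≠ p := fun h => by
    have hbot : ∀ q : ↥(CohB1.ProjSpaceOver 1 X), (h' : ζ ⤳ q) → q = ζ →
        (CDiv6.primeOf h').asIdeal = IsLocalRing.maximalIdeal _ := by
      rintro q h' rfl
      exact H23.ZeroSec.primeOf_refl' _
    rw [hbot p hs h.symm] at hprime
    -- the coordinate is not in the prime of the cylinder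
    obtain ⟨h1, hprime'⟩ := hspec (P1.sect X 1 v) (specializes_of_eq (toBase_sect_apply 1 v).symm)
    rw [h] at h1
    have h2 : P1.sect X 1 v ∈ Set.range (P1.sect X 0) :=
      h1.mem_closed (P1.sect X 0).isClosedEmbedding.isClosed_range ⟨v, rfl⟩
    obtain ⟨hV0, hu0⟩ := (H23.P1Sect.range_sect X 0).le h2
    obtain ⟨hV1, hu1⟩ := (H23.P1Sect.range_sect X 1).le ⟨v, rfl⟩
    exact hu0 (IsUnit.of_mul_eq_one _ (H23.P1Sect.c_mul X hV0 hV1))
  have hlt := delta_lt_of_specializes (π ≫ f) hK hs hne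
  have hp : δP p = δ v := H23.P1Fam.delta_sect hP 0 v
  rw [hp] at hda hlt
  suffices hle : a ≤ 1 by omega
  haveI : LocallyOfFiniteType (π ≫ f) := inferInstance
  haveI := LocallyOfFiniteType.isLocallyNoetherian (π ≫ f)
  let S := (CohB1.ProjSpaceOver 1 X).presheaf.stalk p
  let P : Ideal S := (CDiv6.primeOf hs).asIdeal
  haveI : P.IsPrime := (CDiv6.primeOf hs).2
  let t : S := (CohB1.ProjSpaceOver 1 X).presheaf.germ _ p (H23.P1Sect.sect_mem X 0 v) (H23.P1Sect.c X 0)
  haveI : IsLocalRing (S ⧸ P) := IsLocalRing.of_surjective' (Ideal.Quotient.mk P) Ideal.Quotient.mk_surjective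
  haveI : IsLocalHom (Ideal.Quotient.mk P) := IsLocalHom.of_surjective _ Ideal.Quotient.mk_surjective
  have hmax : IsLocalRing.maximalIdeal (S ⧸ P) = Ideal.span {Ideal.Quotient.mk P t} := by
    refine le_antisymm (fun q hq => ?_) ?_
    · obtain ⟨l, rfl⟩ := Ideal.Quotient.mk_surjective q
      have hl : l ∈ IsLocalRing.maximalIdeal S := fun hu => hq (hu.map _)
      have h' := Ideal.mem_map_of_mem (Ideal.Quotient.mk P) (maximalIdeal_sect 0 v hl)
      rw [Ideal.map_sup, ← hprime, Ideal.map_quotient_self, sup_bot_eq, H23.P1Sect.ker_sect, Ideal.map_span,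
        Set.image_singleton] at h'
      exact h'
    · rw [Ideal.span_le, Set.singleton_subset_iff]
      intro hu
      have ht : t ∈ IsLocalRing.maximalIdeal S := by
        obtain ⟨_, hnu⟩ := (H23.P1Sect.range_sect X 0).le ⟨v, rfl⟩
        exact hnu
      exact ht ((isUnit_map_iff (Ideal.Quotient.mk P) t).1 hu)
  have h := ringKrullDim_le_spanFinrank_maximalIdeal (R := S ⧸ P)
  rw [ha, hmax] at h
  have hle : (Ideal.span {Ideal.Quotient.mk P t}).spanFinrank ≤ 1 := by
    refine (Submodule.spanFinrank_span_le_ncard_of_finite (Set.finite_singleton _)).trans ?_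
    rw [Set.ncard_singleton]
  have h' : a ≤ (Ideal.span {Ideal.Quotient.mk P t}).spanFinrank := by exact_mod_cast h
  omega

/-- The prime of a point of a section. -/
theorem primeOf_sect (j : Fin (1 + 1)) {a x : X} (ha : a ⤳ x) :
    (CDiv6.primeOf (ha.map (P1.sect X j).continuous)).asIdeal =
      (CDiv6.primeOf ha).asIdeal.comap ((P1.sect X j).stalkMap x).hom := by
  ext r
  rw [Ideal.mem_comap, CDiv6.mem_primeOf, CDiv6.mem_primeOf,
    ← Scheme.Hom.stalkSpecializes_stalkMap_apply (P1.sect X j) a x ha r]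
  exact not_congr (isUnit_map_iff ((P1.sect X j).stalkMap a).hom _).symm

omit [IsAlgClosed K] [IsSeparated f] [LocallyOfFiniteType f] [QuasiCompact f] in
/-- A multiplicity against a cylinder, at a point of a section. -/
theorem mult_sect (j : Fin (1 + 1)) {a v x : X} (ha : a ⤳ x) (hv : v ⤳ x) {ζ : ↥(CohB1.ProjSpaceOver 1 X)}
    (hcyl : ∀ (p : ↥(CohB1.ProjSpaceOver 1 X)) (hv : v ⤳ CohB1.ProjSpaceOver.toBase 1 X p), ∃ h : ζ ⤳ p,
      (CDiv6.primeOf h).asIdeal =
        (CDiv6.primeOf hv).asIdeal.map ((CohB1.ProjSpaceOver.toBase 1 X).stalkMap p).hom) :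
    IntMult.mult (IntMult.ptIdeal (P1.sect X j a)) (IntMult.ptIdeal ζ) (P1.sect X j x) =
      IntMult.mult (IntMult.ptIdeal a) (IntMult.ptIdeal v) x := by
  let π := CohB1.ProjSpaceOver.toBase 1 X
  let s := P1.sect X j
  haveI := smooth_p1Over X
  have hvp : v ⤳ π (s x) := hv.trans (specializes_of_eq (toBase_sect_apply j x).symm)
  obtain ⟨hs, hprime⟩ := hcyl (s x) hvp
  rw [mult_ptIdeal (ha.map s.continuous) hs, mult_ptIdeal ha hv, hprime]
  let R := X.presheaf.stalk (π (s x))
  let S := (CohB1.ProjSpaceOver 1 X).presheaf.stalk (s x)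
  let R₂ := X.presheaf.stalk x
  letI : Algebra R S := (π.stalkMap (s x)).hom.toAlgebra
  letI : Algebra S R₂ := (s.stalkMap x).hom.toAlgebra
  letI : Algebra R R₂ := ((s.stalkMap x).hom.comp (π.stalkMap (s x)).hom).toAlgebra
  haveI : IsScalarTower R S R₂ := IsScalarTower.of_algebraMap_eq fun _ => rfl
  haveI : Module.Flat R S := Flat.stalkMap π (s x)
  let Q := R₂ ⧸ (CDiv6.primeOf ha).asIdeal
  have hsurj : Function.Surjective (algebraMap S R₂) := s.stalkMap_surjective x
  let eQ : (S ⧸ (CDiv6.primeOf (ha.map s.continuous)).asIdeal) ≃ₗ[S] Q := by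
    refine (Submodule.quotEquivOfEq _ _ ?_).trans (LinearMap.quotKerEquivOfSurjective
      ((Submodule.mkQ (CDiv6.primeOf ha).asIdeal).restrictScalars S ∘ₗ Algebra.linearMap S R₂) ?_)
    · ext r
      rw [primeOf_sect j ha, LinearMap.mem_ker]
      show _ ↔ Ideal.Quotient.mk (CDiv6.primeOf ha).asIdeal (algebraMap S R₂ r) = 0
      rw [Ideal.Quotient.eq_zero_iff_mem]
      exact Iff.rfl
    · exact Ideal.Quotient.mk_surjective.comp hsurj
  rw [chi_congr eQ (LinearEquiv.refl S _)]
  have key := chi_retraction R S R₂ (bijective_retraction j x) (CDiv6.primeOf hvp).asIdeal Q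
  refine key.trans (chi_congr (LinearEquiv.refl R₂ Q) (Submodule.quotEquivOfEq _ _ ?_))
  rw [← stalkIdeal_ptIdeal hvp, ← stalkIdeal_ptIdeal hv,
    stalkIdeal_specializes (IntMult.ptIdeal v) (specializes_of_eq (toBase_sect_apply j x).symm),
    ← stalkMap_retraction j x]
  rfl

end Groth.Agent.IntMultLib
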