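import Groth.Agent.IntMultLib.RegImm
import Groth.Agent.BMLib.Piece
import Groth.Prelude.Def_IntMult
import Mathlib

/-!
# Stalks of ideal sheaves
-/

set_option autoImplicit false
set_option linter.style.haveILetI false
set_option backward.isDefEq.respectTransparency.types false

universe u

open CategoryTheory CategoryTheory.Limits AlgebraicGeometry

namespace Groth.Agent.IntMultLib

variable {X : Scheme.{u}}

/-- The stalk of an ideal sheaf is generated by the germs on any affine neighbourhood. -/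
theorem stalkIdeal_eq_map (I : X.IdealSheafData) (x : X) (U : X.affineOpens) (hx : x ∈ (U : X.Opens)) :
    IntMult.stalkIdeal I x = (I.ideal U).map (X.presheaf.germ U x hx).hom := by
  refine le_antisymm (iSup₂_le fun V hV => ?_) (le_iSup₂_of_le U hx le_rfl)
  obtain ⟨_, ⟨W, hW, rfl⟩, hxW, hle⟩ :=
    X.isBasis_affineOpens.exists_subset_of_mem_open (show x ∈ ((U : X.Opens) ⊓ V.1 : X.Opens) from ⟨hx, hV⟩)
      ((U : X.Opens) ⊓ V.1).isOpen
  have key : ∀ (T : X.affineOpens) (hT : x ∈ (T : X.Opens)) (h : (⟨W, hW⟩ : X.affineOpens) ≤ T),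
      (I.ideal T).map (X.presheaf.germ T x hT).hom = (I.ideal ⟨W, hW⟩).map (X.presheaf.germ W x hxW).hom := by
    intro T hT h
    rw [← I.map_ideal h, Ideal.map_map, ← CommRingCat.hom_comp]
    congr 1
    exact congrArg CommRingCat.Hom.hom (X.presheaf.germ_res (homOfLE h) x hxW).symm
  rw [key V hV (fun y hy => (hle hy).2), key U hx (fun y hy => (hle hy).1)]

theorem stalkIdeal_eq_ker (I : X.IdealSheafData) (z : I.subscheme) :
    IntMult.stalkIdeal I (I.subschemeι z) = RingHom.ker (I.subschemeι.stalkMap z).hom := by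
  obtain ⟨_, ⟨U, hU, rfl⟩, hxU, -⟩ :=
    X.isBasis_affineOpens.exists_subset_of_mem_open (Set.mem_univ (I.subschemeι z)) isOpen_univ
  haveI : IsClosedImmersion (I.subschemeι ∣_ U) := IsZariskiLocalAtTarget.restrict (inferInstanceAs (IsClosedImmersion I.subschemeι)) U
  rw [stalkIdeal_eq_map I _ ⟨U, hU⟩ hxU, ker_stalkMap_eq_map I.subschemeι hU z hxU]
  congr 1
  exact (Scheme.IdealSheafData.ker_subschemeι_app I ⟨U, hU⟩).symm

theorem exists_eq_of_mem_support (I : X.IdealSheafData) {x : X} (hx : x ∈ I.support) :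
    ∃ z : I.subscheme, I.subschemeι z = x := by
  have : x ∈ Set.range I.subschemeι := by
    rw [Scheme.IdealSheafData.range_subschemeι]; exact hx
  exact this

/-- The quotient by the stalk ideal is the stalk of the subscheme. -/
noncomputable def quotStalkEquiv (I : X.IdealSheafData) (z : I.subscheme) :
    X.presheaf.stalk (I.subschemeι z) ⧸ IntMult.stalkIdeal I (I.subschemeι z) ≃+*
      I.subscheme.presheaf.stalk z :=
  (Ideal.quotEquivOfEq (stalkIdeal_eq_ker I z)).trans
    (RingHom.quotientKerEquivOfSurjective (I.subschemeι.stalkMap_surjective z))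

theorem stalkIdeal_ne_top (I : X.IdealSheafData) {x : X} (hx : x ∈ I.support) :
    IntMult.stalkIdeal I x ≠ ⊤ := by
  obtain ⟨z, rfl⟩ := exists_eq_of_mem_support I hx
  rw [stalkIdeal_eq_ker]
  exact RingHom.ker_ne_top _

theorem isPrime_stalkIdeal (I : X.IdealSheafData) [IsIntegral I.subscheme] {x : X} (hx : x ∈ I.support) :
    (IntMult.stalkIdeal I x).IsPrime := by
  obtain ⟨z, rfl⟩ := exists_eq_of_mem_support I hx
  rw [stalkIdeal_eq_ker]
  exact RingHom.ker_isPrime _

theorem deg_genericPoint_subscheme {k : Type u} [Field k] (f : X ⟶ Spec (CommRingCat.of k))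
    [LocallyOfFiniteType f] (I : X.IdealSheafData) [IsIntegral I.subscheme] {r : ℕ}
    (hr : topologicalKrullDim I.support = r) :
    VarDim.deg (I.subschemeι ≫ f) (genericPoint I.subscheme) = r := by
  refine deg_genericPoint_eq _ ?_
  let e : I.subscheme ≃ₜ I.support := I.subschemeι.isEmbedding.toHomeomorph.trans
    (Homeomorph.setCongr (Scheme.IdealSheafData.range_subschemeι I))
  exact (IsHomeomorph.topologicalKrullDim_eq e e.isHomeomorph).trans hr

/-- `dim O_{V,x} + dim closure x = dim V`. -/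
theorem exists_dim_quotient {k : Type u} [Field k] (f : X ⟶ Spec (CommRingCat.of k))
    [LocallyOfFiniteType f] (I : X.IdealSheafData) [IsIntegral I.subscheme] {r : ℕ}
    (hr : topologicalKrullDim I.support = r) {x : X} (hx : x ∈ I.support) :
    ∃ a : ℕ, ringKrullDim (X.presheaf.stalk x ⧸ IntMult.stalkIdeal I x) = a ∧ VarDim.deg f x + a = r := by
  obtain ⟨z, rfl⟩ := exists_eq_of_mem_support I hx
  obtain ⟨a, ha, hd⟩ := exists_dim_stalk_of_isIntegral (I.subschemeι ≫ f) z
  rw [deg_immersion, deg_genericPoint_subscheme f I hr] at hd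
  exact ⟨a, (ringKrullDim_eq_of_ringEquiv (quotStalkEquiv I z)).trans ha, hd⟩

/-- At a maximal point of `V ∩ W` the only prime over both stalk ideals is the maximal ideal. -/
theorem eq_maximalIdeal_of_le (IV IW : X.IdealSheafData) {ξ : X}
    (hmax : ∀ ξ' : X, ξ' ∈ IV.support → ξ' ∈ IW.support → ξ' ⤳ ξ → ξ' = ξ)
    (P : Ideal (X.presheaf.stalk ξ)) [P.IsPrime] (hV : IntMult.stalkIdeal IV ξ ≤ P)
    (hW : IntMult.stalkIdeal IW ξ ≤ P) : P = IsLocalRing.maximalIdeal _ := by
  obtain ⟨_, ⟨U, hU, rfl⟩, hxU, -⟩ :=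
    X.isBasis_affineOpens.exists_subset_of_mem_open (Set.mem_univ ξ) isOpen_univ
  letI : Algebra Γ(X, U) (X.presheaf.stalk ξ) := (X.presheaf.germ U ξ hxU).hom.toAlgebra
  let p := hU.primeIdealOf ⟨ξ, hxU⟩
  haveI hloc : IsLocalization.AtPrime (X.presheaf.stalk ξ) p.asIdeal := hU.isLocalization_stalk ⟨ξ, hxU⟩
  let q : PrimeSpectrum Γ(X, U) := ⟨P.comap (algebraMap _ _), inferInstance⟩
  have hqp : q ≤ p := by
    intro a ha
    by_contra hc
    exact Ideal.IsPrime.ne_top ‹_› (Ideal.eq_top_of_isUnit_mem _ (show algebraMap _ _ a ∈ P from ha)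
      (IsLocalization.map_units (X.presheaf.stalk ξ) (⟨a, hc⟩ : p.asIdeal.primeCompl)))
  have hq : ∀ I : X.IdealSheafData, IntMult.stalkIdeal I ξ ≤ P → hU.fromSpec q ∈ I.support := by
    intro I hI
    refine (Scheme.IdealSheafData.mem_support_iff_of_mem (U := ⟨U, hU⟩)
      (show hU.fromSpec q ∈ (U : Set X) from Set.ext_iff.1 hU.range_fromSpec _ |>.1 (Set.mem_range_self q))).2 ?_
    have hq' : q ∈ PrimeSpectrum.zeroLocus (I.ideal ⟨U, hU⟩ : Set Γ(X, U)) := by
      intro a ha
      exact hI ((stalkIdeal_eq_map I ξ ⟨U, hU⟩ hxU).symm ▸ Ideal.mem_map_of_mem _ ha)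
    have h := Set.mem_image_of_mem hU.fromSpec hq'
    rw [hU.fromSpec_image_zeroLocus] at h
    exact h.1
  have hsp : hU.fromSpec q ⤳ ξ := by
    have h := ((PrimeSpectrum.le_iff_specializes q p).1 hqp).map (Scheme.Hom.continuous hU.fromSpec)
    rwa [hU.fromSpec_primeIdealOf] at h
  have heq : hU.fromSpec q = hU.fromSpec p := by
    rw [hmax _ (hq IV hV) (hq IW hW) hsp, hU.fromSpec_primeIdealOf]
  have hqp' : q = p := hU.fromSpec.isOpenEmbedding.injective heq
  rw [← IsLocalization.map_comap p.asIdeal.primeCompl (X.presheaf.stalk ξ) P,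
    show P.under Γ(X, U) = p.asIdeal from congrArg PrimeSpectrum.asIdeal hqp',
    IsLocalization.AtPrime.map_eq_maximalIdeal]

theorem sqrt_sup_eq_maximalIdeal (IV IW : X.IdealSheafData) {ξ : X}
    (hξV : ξ ∈ IV.support) (hξW : ξ ∈ IW.support)
    (hmax : ∀ ξ' : X, ξ' ∈ IV.support → ξ' ∈ IW.support → ξ' ⤳ ξ → ξ' = ξ) :
    (IntMult.stalkIdeal IV ξ ⊔ IntMult.stalkIdeal IW ξ).radical = IsLocalRing.maximalIdeal _ := by
  refine le_antisymm ?_ ?_
  · exact (IsLocalRing.maximalIdeal.isMaximal _).isPrime.radical_le_iff.2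
      (sup_le (IsLocalRing.le_maximalIdeal (stalkIdeal_ne_top IV hξV))
        (IsLocalRing.le_maximalIdeal (stalkIdeal_ne_top IW hξW)))
  · rw [Ideal.radical_eq_sInf]
    exact le_sInf fun J hJ => by
      haveI := hJ.2
      exact (eq_maximalIdeal_of_le IV IW hmax J (le_sup_left.trans hJ.1) (le_sup_right.trans hJ.1)).ge

end Groth.Agent.IntMultLib
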