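import Groth.Agent.IntMultLib.EulerCx
import Groth.Agent.IntMultLib.ChiSum
import Groth.Agent.H9Misc.TorBalance
import Groth.Agent.KFlatLib.ModuleFlat
import Mathlib

/-!
# Euler characteristic of `K ⊗^L C`
-/

set_option autoImplicit false
set_option linter.style.haveILetI false
set_option backward.isDefEq.respectTransparency.types false

universe u

open CategoryTheory CategoryTheory.Limits MonoidalCategory ZeroObject
open Groth.Agent.KFlatLib Groth.Agent.H9Misc.DRingLTensor Groth.Agent.H9Misc

namespace Groth.Agent.IntMultLib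

variable {R : Type u} [CommRing R]


variable {N : ModuleCat.{u} R} (Q : ProjectiveResolution N)

/-- Tensoring with a resolution of `N`. -/
noncomputable abbrev tensRes : DRing.Cx R ⥤ DRing.Cx R := (TorBalance.T (A := R)).obj Q.cochainComplex

theorem quasiIso_tensRes {K L : DRing.Cx R} (f : K ⟶ L) [QuasiIso f] : QuasiIso ((tensRes Q).map f) :=
  quasiIso_tensorHom_id f (TorBalance.isKF_cochainComplex Q)

theorem shortExact_tensRes {S : ShortComplex (DRing.Cx R)} (hS : S.ShortExact) :
    (S.map (tensRes Q)).ShortExact := by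
  refine shortExact₂ (curriedTensor (ModuleCat.{u} R)) Q.cochainComplex S fun p q => ?_
  haveI : Projective (Q.cochainComplex.X p) := inferInstance
  haveI : Module.Projective R (Q.cochainComplex.X p) := (IsProjective.iff_projective _).2 inferInstance
  have hq := ((HomologicalComplex.shortExact_iff_degreewise_shortExact S).1 hS) q
  haveI : Module.Flat R (Q.cochainComplex.X p) := Module.Flat.of_projective
  exact hq.map_of_exact (tensorLeft (Q.cochainComplex.X p))

theorem homology_isZero_of_pos (M : ModuleCat.{u} R) {i : ℤ} (hi : 0 < i) :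
    IsZero (((tensC M).obj Q.cochainComplex).homology i) := by
  rw [← HomologicalComplex.exactAt_iff_isZero_homology]
  exact HomologicalComplex.ExactAt.of_isZero
    ((tensorRight M).map_isZero (CochainComplex.isZero_of_isStrictlyLE Q.cochainComplex 0 i hi))

/-- `Q ⊗ M[-j]` in degree `i`. -/
theorem nonempty_tensRes_single (M : ModuleCat.{u} R) (j i : ℤ) :
    Nonempty (((tensRes Q).obj ((HomologicalComplex.single _ (ComplexShape.up ℤ) j).obj M)).homology i ≅
      ((tensC M).obj Q.cochainComplex).homology (i - j)) := by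
  let L : DRing.Cx R := Q.cochainComplex
  let T := curriedTensor (ModuleCat.{u} R)
  let W : DRing.Cx R := (tensRes Q).obj ((HomologicalComplex.single _ (ComplexShape.up ℤ) j).obj M)
  let e : ((tensC M).obj L).sc' (i - j - 1) (i - j) (i - j + 1) ≅ W.sc' (i - 1) i (i + 1) :=
    ShortComplex.isoMk
      (@asIso _ _ _ _ (singleSummand (T := T) L M j (i - j - 1) (i - 1) (by omega)) (isIso_singleSummand L M j _ _ _))
      (@asIso _ _ _ _ (singleSummand (T := T) L M j (i - j) i (by omega)) (isIso_singleSummand L M j _ _ _))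
      (@asIso _ _ _ _ (singleSummand (T := T) L M j (i - j + 1) (i + 1) (by omega)) (isIso_singleSummand L M j _ _ _))
      (singleSummand_d L M j _ _ _ _ _ _ (by omega))
      (singleSummand_d L M j _ _ _ _ _ _ (by omega))
  exact ⟨(ShortComplex.homologyMapIso (W.isoSc' (i - 1) i (i + 1) (by simp) (by simp))) ≪≫
    ShortComplex.homologyMapIso e.symm ≪≫
    ShortComplex.homologyMapIso (((tensC M).obj L).isoSc' (i - j - 1) (i - j) (i - j + 1) (by simp) (by simp)).symm⟩

variable [IsRegularLocalRing R] [Module.Finite R N]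

theorem eul_tensRes_single (M : ModuleCat.{u} R) [Module.Finite R M] (h : Meet R M N) (j : ℤ) :
    FinLen ((tensRes Q).obj ((HomologicalComplex.single _ (ComplexShape.up ℤ) j).obj M)) ∧
      eul ((tensRes Q).obj ((HomologicalComplex.single _ (ComplexShape.up ℤ) j).obj M)) =
        (j.negOnePow : ℤ) * IntMult.chi R M N := by
  set W := (tensRes Q).obj ((HomologicalComplex.single _ (ComplexShape.up ℤ) j).obj M)
  set D := (IsLocalRing.maximalIdeal R).spanFinrank
  have eTor : ∀ k : ℕ, Nonempty (W.homology (j - k) ≃ₗ[R] DRing.Tor R k M N) := fun k => by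
    obtain ⟨e⟩ := nonempty_tensRes_single Q M j (j - k)
    rw [show j - (k : ℤ) - j = -(k : ℤ) by ring] at e
    exact ⟨(e ≪≫ (TorBalance.torIso M Q k).symm).toLinearEquiv⟩
  have hsub : ∀ i, i ∉ (Finset.range (D + 1)).image (fun k : ℕ => j - (k : ℤ)) → Subsingleton (W.homology i) := by
    intro i hi
    rcases le_or_gt i j with hij | hij
    · obtain ⟨k, rfl⟩ : ∃ k : ℕ, i = j - k := ⟨(j - i).toNat, by omega⟩
      obtain ⟨e⟩ := eTor k
      haveI := subsingleton_tor_of_regularLocal (A := R) M N (i := k) (by
        by_contra hk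
        exact hi (Finset.mem_image.2 ⟨k, Finset.mem_range.2 (by omega), rfl⟩))
      exact e.toEquiv.subsingleton
    · obtain ⟨e⟩ := nonempty_tensRes_single Q M j i
      exact ModuleCat.subsingleton_of_isZero ((homology_isZero_of_pos Q M (by omega)).of_iso e)
  refine ⟨⟨fun i => ?_, ((Finset.finite_toSet _)).subset fun i hi => by_contra fun hc => hi (hsub i hc)⟩, ?_⟩
  · rcases le_or_gt i j with hij | hij
    · obtain ⟨k, rfl⟩ : ∃ k : ℕ, i = j - k := ⟨(j - i).toNat, by omega⟩
      obtain ⟨e⟩ := eTor k
      exact e.length_eq ▸ length_tor_ne_top M N h k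
    · obtain ⟨e⟩ := nonempty_tensRes_single Q M j i
      haveI := ModuleCat.subsingleton_of_isZero ((homology_isZero_of_pos Q M (by omega : 0 < i - j)).of_iso e)
      rw [Module.length_eq_zero]
      exact ENat.zero_ne_top
  · rw [eul, finsum_eq_sum_of_support_subset (s := (Finset.range (D + 1)).image (fun k : ℕ => j - (k : ℤ))),
      Finset.sum_image (fun a _ b _ hab => by simpa using hab),
      chi_eq_sum M N _ (fun k hk => subsingleton_tor_of_regularLocal M N hk), Finset.mul_sum]
    · refine Finset.sum_congr rfl fun k _ => ?_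
      obtain ⟨e⟩ := eTor k
      rw [hLen, e.length_eq, Int.negOnePow_sub, Units.val_mul, Int.coe_negOnePow_natCast]
      ring
    · intro i hi
      by_contra hc
      haveI := hsub i hc
      exact hi (by simp only [hLen_eq_zero, mul_zero])

theorem eul_tensRes_eq_aux (m : ℕ) : ∀ (a : ℤ) (K : DRing.Cx R),
    (∀ i, Module.Finite R (K.homology i)) → (∀ i, Meet R (K.homology i) N) →
    (∀ i, i < a ∨ a + m ≤ i → Subsingleton (K.homology i)) →
    FinLen ((tensRes Q).obj K) ∧
      eul ((tensRes Q).obj K) = ∑ i ∈ Finset.Ico a (a + m), (i.negOnePow : ℤ) * IntMult.chi R (K.homology i) N := by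
  induction m with
  | zero =>
    intro a K _ _ hK
    haveI : QuasiIso (0 : K ⟶ 0) := by
      rw [quasiIso_iff]
      intro i
      rw [quasiIsoAt_iff_isIso_homologyMap]
      haveI := hK i (by omega)
      exact isIso_of_source_target_iso_zero _
        (ModuleCat.isZero_of_subsingleton _).isoZero
        ((HomologicalComplex.homologyFunctor _ _ i).map_isZero (isZero_zero _)).isoZero
    haveI := quasiIso_tensRes Q (0 : K ⟶ 0)
    have hz : ∀ i, Subsingleton (((tensRes Q).obj K).homology i) := fun i =>
      (subsingleton_homology_of_quasiIso ((tensRes Q).map (0 : K ⟶ 0)) i).2 (ModuleCat.subsingleton_of_isZero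
        ((HomologicalComplex.homologyFunctor _ _ i).map_isZero ((tensRes Q).map_isZero (isZero_zero _))))
    refine ⟨⟨fun i => ?_, ?_⟩, ?_⟩
    · haveI := hz i
      rw [Module.length_eq_zero]
      exact ENat.zero_ne_top
    · convert Set.finite_empty
      exact Set.eq_empty_of_forall_notMem fun i hi => hi (hz i)
    · rw [Nat.cast_zero, add_zero, Finset.Ico_self, Finset.sum_empty]
      refine finsum_eq_zero_of_forall_eq_zero fun i => ?_
      haveI := hz i
      rw [hLen_eq_zero, mul_zero]
  | succ m ih =>
    intro a K hfin hmeet hK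
    let S := K.shortComplexTruncLE a
    have hS : S.ShortExact := K.shortComplexTruncLE_shortExact a
    -- the bottom piece
    haveI : CochainComplex.IsGE (K.truncLE a) a := by
      rw [CochainComplex.isGE_iff]
      intro i hi
      haveI := CochainComplex.quasiIsoAt_ιTruncLE K a i hi.le
      haveI := hK i (Or.inl hi)
      rw [HomologicalComplex.exactAt_iff_isZero_homology]
      exact (ModuleCat.isZero_of_subsingleton (K.homology i)).of_iso (isoOfQuasiIsoAt (K.ιTruncLE a) i)
    obtain ⟨M, ⟨eM⟩⟩ := CochainComplex.exists_iso_single ((K.truncLE a).truncGE a) a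
    let φ : K.truncLE a ⟶ (HomologicalComplex.single _ (ComplexShape.up ℤ) a).obj M :=
      (K.truncLE a).πTruncGE a ≫ eM.hom
    haveI : QuasiIso φ := inferInstance
    let eH : M ≃ₗ[R] K.homology a :=
      (((HomologicalComplex.singleObjHomologySelfIso (ComplexShape.up ℤ) a M).symm ≪≫
        (isoOfQuasiIsoAt φ a).symm) ≪≫ isoOfQuasiIsoAt (K.ιTruncLE a) a).toLinearEquiv
    haveI := hfin a
    haveI : Module.Finite R M := Module.Finite.equiv eH.symm
    have hM : Meet R M N := fun p hp hq => hmeet a p (eH.support_eq ▸ hp) hq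
    obtain ⟨hgood, heul⟩ := eul_tensRes_single Q M hM a
    haveI := quasiIso_tensRes Q φ
    let e₁ := fun i => (isoOfQuasiIsoAt ((tensRes Q).map φ) i).toLinearEquiv
    have h₁ : FinLen ((tensRes Q).obj S.X₁) := FinLen.of_equiv e₁ hgood
    have heul₁ : eul ((tensRes Q).obj S.X₁) = (a.negOnePow : ℤ) * IntMult.chi R (K.homology a) N := by
      rw [← chi_congr eH (LinearEquiv.refl R N), ← heul]
      exact eul_of_equiv e₁
    -- the top piece
    let ψ := K.shortComplexTruncLEX₃ToTruncGE a (a + 1) rfl
    have e₃ : ∀ i, a < i → Nonempty ((K.truncGE (a + 1)).homology i ≃ₗ[R] K.homology i) := fun i hi => by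
      haveI := CochainComplex.quasiIsoAt_πTruncGE K (a + 1) i (by omega)
      exact ⟨(isoOfQuasiIsoAt (K.πTruncGE (a + 1)) i).symm.toLinearEquiv⟩
    have hlow : ∀ i, i ≤ a → Subsingleton ((K.truncGE (a + 1)).homology i) := fun i hi =>
      ModuleCat.subsingleton_of_isZero (CochainComplex.isZero_of_isGE _ (a + 1) i (by omega))
    obtain ⟨hg₃, hv₃⟩ := ih (a + 1) (K.truncGE (a + 1))
      (fun i => by
        rcases le_or_gt i a with hi | hi
        · haveI := hlow i hi
          infer_instance
        · obtain ⟨e⟩ := e₃ i hi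
          haveI := hfin i
          exact Module.Finite.equiv e.symm)
      (fun i p hp hq => by
        rcases le_or_gt i a with hi | hi
        · haveI := hlow i hi
          rw [Module.support_eq_empty] at hp
          exact absurd hp (Set.notMem_empty p)
        · obtain ⟨e⟩ := e₃ i hi
          exact hmeet i p (e.support_eq ▸ hp) hq)
      (fun i hi => by
        rcases le_or_gt i a with hia | hia
        · exact hlow i hia
        · obtain ⟨e⟩ := e₃ i hia
          haveI := hK i (Or.inr (by omega))
          exact e.toEquiv.subsingleton)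
    haveI := quasiIso_tensRes Q ψ
    let e₄ := fun i => (isoOfQuasiIsoAt ((tensRes Q).map ψ) i).toLinearEquiv
    have h₃ : FinLen ((tensRes Q).obj S.X₃) := FinLen.of_equiv e₄ hg₃
    have heul₃ : eul ((tensRes Q).obj S.X₃) =
        ∑ i ∈ Finset.Ico (a + 1) (a + 1 + m), (i.negOnePow : ℤ) * IntMult.chi R (K.homology i) N := by
      refine (eul_of_equiv e₄).trans (hv₃.trans (Finset.sum_congr rfl fun i hi => ?_))
      obtain ⟨e⟩ := e₃ i (by simp only [Finset.mem_Ico] at hi; omega)
      rw [chi_congr e (LinearEquiv.refl R N)]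
    obtain ⟨h₂, hadd⟩ := eul_add (shortExact_tensRes Q hS) h₁ h₃
    refine ⟨h₂, hadd.trans ?_⟩
    show eul ((tensRes Q).obj S.X₁) + eul ((tensRes Q).obj S.X₃) = _
    rw [heul₁, heul₃, ← Finset.sum_insert (f := fun i : ℤ => (i.negOnePow : ℤ) * IntMult.chi R (K.homology i) N)
      (by simp)]
    refine Finset.sum_congr ?_ fun _ _ => rfl
    ext i
    simp only [Finset.mem_insert, Finset.mem_Ico]
    omega

/-- `eul (K ⊗^L N) = Σ (−1)^i χ(H^i K, N)`. -/
theorem eul_tensRes_eq (K : DRing.Cx R) (a : ℤ) (m : ℕ) (hfin : ∀ i, Module.Finite R (K.homology i))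
    (hmeet : ∀ i, Meet R (K.homology i) N) (hK : ∀ i, i < a ∨ a + m ≤ i → Subsingleton (K.homology i)) :
    eul ((tensRes Q).obj K) = ∑ i ∈ Finset.Ico a (a + m), (i.negOnePow : ℤ) * IntMult.chi R (K.homology i) N :=
  (eul_tensRes_eq_aux Q m a K hfin hmeet hK).2

end Groth.Agent.IntMultLib
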